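import Groth.Agent.Fib.Diag

/-!
# Products over the base of representable 1-morphisms
-/

set_option autoImplicit false
set_option backward.isDefEq.respectTransparency false
set_option backward.isDefEq.respectTransparency.types false

open CategoryTheory CategoryTheory.Functor CategoryTheory.Limits

universe v₆ u₆ v₅ u₅ v₄ u₄ v₃ u₃ v₂ u₂ v u

namespace Groth.Agent.Fib

variable {C : Type u} [Category.{v} C] {𝒳₁ : BasedCategory.{v₂, u₂} C}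
  {𝒳₂ : BasedCategory.{v₃, u₃} C} {𝒴₁ : BasedCategory.{v₄, u₄} C}
  {𝒴₂ : BasedCategory.{v₅, u₅} C} {𝒲 : BasedCategory.{v₆, u₆} C}

theorem self_iso_w {F : 𝒴₁ ⥤ᵇ FibCat.selfOver C} {G : 𝒴₂ ⥤ᵇ FibCat.selfOver C}
    {a b : (FibCat.fp F G).obj} (φ : a.obj.fst ⟶ b.obj.fst) (ψ : a.obj.snd ⟶ b.obj.snd)
    {R S : C} (f : R ⟶ S) [𝒴₁.p.IsHomLift f φ] [𝒴₂.p.IsHomLift f ψ] :
    F.map φ ≫ b.obj.iso.hom = a.obj.iso.hom ≫ G.map ψ := by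
  have hb : 𝒴₁.p.obj b.obj.fst = S := IsHomLift.codomain_eq 𝒴₁.p f φ
  have ha : 𝒴₁.p.obj a.obj.fst = R := IsHomLift.domain_eq 𝒴₁.p f φ
  have : (FibCat.selfOver C).p.IsHomLift (𝟙 S) b.obj.iso.hom := hb ▸ b.property
  have : (FibCat.selfOver C).p.IsHomLift (𝟙 R) a.obj.iso.hom := ha ▸ a.property
  exact self_hom_unique f _ _

theorem exists_prodMap_equiv {f₁ : 𝒳₁ ⥤ᵇ 𝒴₁} {f₂ : 𝒳₂ ⥤ᵇ 𝒴₂}
    (e : BasedFunctor.comp (BasedFunctor.comp (FibCat.fpFst (FibCat.toSelf 𝒳₁) (FibCat.toSelf 𝒳₂)) f₁)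
        (FibCat.toSelf 𝒴₁) ≅
      BasedFunctor.comp (BasedFunctor.comp (FibCat.fpSnd (FibCat.toSelf 𝒳₁) (FibCat.toSelf 𝒳₂)) f₂)
        (FibCat.toSelf 𝒴₂))
    (y : 𝒲 ⥤ᵇ FibCat.fp (FibCat.toSelf 𝒴₁) (FibCat.toSelf 𝒴₂)) :
    ∃ Φ : FibCat.fp (BasedFunctor.comp
        (FibCat.fpFst (BasedFunctor.comp y (FibCat.fpFst (FibCat.toSelf 𝒴₁) (FibCat.toSelf 𝒴₂))) f₁)
        (BasedFunctor.comp y (FibCat.fpSnd (FibCat.toSelf 𝒴₁) (FibCat.toSelf 𝒴₂)))) f₂ ⥤ᵇ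
      FibCat.fp y (FibCat.fpLift
      (BasedFunctor.comp (FibCat.fpFst (FibCat.toSelf 𝒳₁) (FibCat.toSelf 𝒳₂)) f₁)
      (BasedFunctor.comp (FibCat.fpSnd (FibCat.toSelf 𝒳₁) (FibCat.toSelf 𝒳₂)) f₂) e),
      FibCat.IsEquivOver Φ ∧ BasedFunctor.comp Φ (FibCat.fpFst y (FibCat.fpLift
      (BasedFunctor.comp (FibCat.fpFst (FibCat.toSelf 𝒳₁) (FibCat.toSelf 𝒳₂)) f₁)
      (BasedFunctor.comp (FibCat.fpSnd (FibCat.toSelf 𝒳₁) (FibCat.toSelf 𝒳₂)) f₂) e)) =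
        BasedFunctor.comp (FibCat.fpFst _ f₂) (FibCat.fpFst _ f₁) := by
  let F := FibCat.fpLift
      (BasedFunctor.comp (FibCat.fpFst (FibCat.toSelf 𝒳₁) (FibCat.toSelf 𝒳₂)) f₁)
      (BasedFunctor.comp (FibCat.fpSnd (FibCat.toSelf 𝒳₁) (FibCat.toSelf 𝒳₂)) f₂) e
  let y₁ := BasedFunctor.comp y (FibCat.fpFst (FibCat.toSelf 𝒴₁) (FibCat.toSelf 𝒴₂))
  let y₂ := BasedFunctor.comp y (FibCat.fpSnd (FibCat.toSelf 𝒴₁) (FibCat.toSelf 𝒴₂))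
  let z := BasedFunctor.comp (FibCat.fpFst y₁ f₁) y₂
  let a := BasedFunctor.comp (FibCat.fpFst z f₂) (FibCat.fpFst y₁ f₁)
  let b := FibCat.fpLift (F := FibCat.toSelf 𝒳₁) (G := FibCat.toSelf 𝒳₂)
    (BasedFunctor.comp (FibCat.fpFst z f₂) (FibCat.fpSnd y₁ f₁)) (FibCat.fpSnd z f₂)
    (toSelfIso _ _)
  let e' : BasedFunctor.comp a y ≅ BasedFunctor.comp b F :=
    isoMk (fun w => fpIsoMk w.obj.fst.obj.iso w.obj.iso (by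
        have : 𝒴₁.p.IsHomLift (𝟙 ((FibCat.fp z f₂).p.obj w)) w.obj.fst.obj.iso.hom :=
          w.obj.fst.property
        have : 𝒴₂.p.IsHomLift (𝟙 ((FibCat.fp z f₂).p.obj w)) w.obj.iso.hom := w.property
        exact self_iso_w _ _ (𝟙 ((FibCat.fp z f₂).p.obj w))))
      (fun {p q} φ => fp_hom_ext φ.hom.fst.hom.w φ.hom.w)
      (fun w => fp_iso_isHomLift_id _ w.obj.fst.property)
  let Φ : FibCat.fp z f₂ ⥤ᵇ FibCat.fp y F := FibCat.fpLift a b e'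
  refine ⟨Φ, ?_, rfl⟩
  have hfaith : Φ.toFunctor.Faithful := ⟨fun {p q} φ ψ h =>
    fp_hom_ext (fp_hom_ext (congrArg (fun t => t.hom.fst) h)
      (congrArg (fun t => t.hom.snd.hom.fst) h)) (congrArg (fun t => t.hom.snd.hom.snd) h)⟩
  have hfull : Φ.toFunctor.Full := ⟨fun {p q} φ => by
    have w₁ := congrArg (fun t => t.hom.fst) φ.hom.w
    have w₂ := congrArg (fun t => t.hom.snd) φ.hom.w
    exact ⟨fpHomMk (fpHomMk φ.hom.fst φ.hom.snd.hom.fst w₁) φ.hom.snd.hom.snd w₂,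
      fp_hom_ext rfl (fp_hom_ext rfl rfl)⟩⟩
  refine isEquivOver_of_exists_iso_over Φ fun η => ?_
  let x := η.obj.snd
  let ι₁ := (FibCat.fpFst (FibCat.toSelf 𝒴₁) (FibCat.toSelf 𝒴₂)).toFunctor.mapIso η.obj.iso
  let ι₂ := (FibCat.fpSnd (FibCat.toSelf 𝒴₁) (FibCat.toSelf 𝒴₂)).toFunctor.mapIso η.obj.iso
  let A : (FibCat.fp y₁ f₁).obj := fpMk η.obj.fst x.obj.fst ι₁
    ((fp_isHomLift_iff _ _).1 η.property)
  let B : (FibCat.fp z f₂).obj := fpMk A x.obj.snd ι₂ (fp_isHomLift_snd (h := η.property) _ _)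
  let i : b.obj B ≅ x := fpIsoMk (Iso.refl _) (Iso.refl _) (by
    have h₁ : 𝒳₁.p.IsHomLift (𝟙 (𝒳₁.p.obj x.obj.fst)) (Iso.refl x.obj.fst).hom := IsHomLift.id rfl
    have h₂ : 𝒳₂.p.IsHomLift (𝟙 (𝒳₁.p.obj x.obj.fst)) (Iso.refl x.obj.snd).hom :=
      IsHomLift.id (fp_snd_obj x)
    exact @self_iso_w C _ 𝒳₁ 𝒳₂ (FibCat.toSelf 𝒳₁) (FibCat.toSelf 𝒳₂) (b.obj B) x
      (Iso.refl x.obj.fst).hom (Iso.refl x.obj.snd).hom _ _ (𝟙 (𝒳₁.p.obj x.obj.fst)) h₁ h₂)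
  refine ⟨B, fpIsoMk (Iso.refl _) i ?_, fp_iso_isHomLift_id _ (IsHomLift.id rfl)⟩
  refine fp_hom_ext ?_ ?_
  · change (y.map (𝟙 _)).hom.fst ≫ η.obj.iso.hom.hom.fst = ι₁.hom ≫ f₁.map (𝟙 _)
    rw [Functor.map_id, Functor.map_id]
    exact (Category.id_comp _).trans (Category.comp_id _).symm
  · change (y.map (𝟙 _)).hom.snd ≫ η.obj.iso.hom.hom.snd = ι₂.hom ≫ f₂.map (𝟙 _)
    rw [Functor.map_id, Functor.map_id]
    exact (Category.id_comp _).trans (Category.comp_id _).symm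

theorem isRepresentable1_prodMap {f₁ : 𝒳₁ ⥤ᵇ 𝒴₁} {f₂ : 𝒳₂ ⥤ᵇ 𝒴₂}
    (h₁ : FibCat.IsRepresentable1 f₁) (h₂ : FibCat.IsRepresentable1 f₂)
    (e : BasedFunctor.comp (BasedFunctor.comp (FibCat.fpFst (FibCat.toSelf 𝒳₁) (FibCat.toSelf 𝒳₂)) f₁)
        (FibCat.toSelf 𝒴₁) ≅
      BasedFunctor.comp (BasedFunctor.comp (FibCat.fpSnd (FibCat.toSelf 𝒳₁) (FibCat.toSelf 𝒳₂)) f₂)
        (FibCat.toSelf 𝒴₂)) :
    FibCat.IsRepresentable1 (FibCat.fpLift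
      (BasedFunctor.comp (FibCat.fpFst (FibCat.toSelf 𝒳₁) (FibCat.toSelf 𝒳₂)) f₁)
      (BasedFunctor.comp (FibCat.fpSnd (FibCat.toSelf 𝒳₁) (FibCat.toSelf 𝒳₂)) f₂) e) := by
  intro U y
  let y₁ := BasedFunctor.comp y (FibCat.fpFst (FibCat.toSelf 𝒴₁) (FibCat.toSelf 𝒴₂))
  let y₂ := BasedFunctor.comp y (FibCat.fpSnd (FibCat.toSelf 𝒴₁) (FibCat.toSelf 𝒴₂))
  let z := BasedFunctor.comp (FibCat.fpFst y₁ f₁) y₂
  have hB : FibCat.IsRepresentable (FibCat.fp z f₂) := by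
    obtain ⟨V, K, hK⟩ := h₁ U y₁
    obtain ⟨E, hE, -, -⟩ := exists_quasiInverse hK
    have : (BasedFunctor.id 𝒴₂).toFunctor.Full := inferInstanceAs (Functor.Full (𝟭 𝒴₂.obj))
    have : (BasedFunctor.id 𝒴₂).toFunctor.Faithful :=
      inferInstanceAs (Functor.Faithful (𝟭 𝒴₂.obj))
    exact (isRepresentable_iff_of_isEquivOver _ (isEquivOver_fpMap E (BasedFunctor.id 𝒳₂)
      (BasedFunctor.id 𝒴₂) (F' := BasedFunctor.comp E z) (G' := f₂) (F := z) (G := f₂)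
      (Iso.refl _) (Iso.refl _) hE (isEquivOver_id _))).1 (h₂ V _)
  obtain ⟨Φ, hΦ, -⟩ := exists_prodMap_equiv e y
  exact (isRepresentable_iff_of_isEquivOver Φ hΦ).1 hB

end Groth.Agent.Fib
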