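import Groth.Agent.Fib.Transfer
import Mathlib.CategoryTheory.ObjectProperty.FullSubcategory

/-!
# The 2-Yoneda lemma
-/

set_option autoImplicit false
set_option backward.isDefEq.respectTransparency false
set_option backward.isDefEq.respectTransparency.types false

open CategoryTheory CategoryTheory.Functor

universe v₃ u₃ v₂ u₂ v u

namespace Groth.Agent.Fib

variable {C : Type u} [Category.{v} C] {𝒳 : BasedCategory.{v₂, u₂} C} {U : C}

/-- The map from an object of a slice to its final object. -/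
def toId (a : Over U) : a ⟶ Over.mk (𝟙 U) := Over.homMk a.hom (Category.comp_id _)

theorem toId_natural {a b : Over U} (φ : a ⟶ b) : φ ≫ toId b = toId a :=
  Over.OverMorphism.ext (Over.w φ)

theorem isStronglyCartesian_overCat {R S : C} {a b : Over U} (f : R ⟶ S) (φ : a ⟶ b)
    [(FibCat.overCat U).p.IsHomLift f φ] : (FibCat.overCat U).p.IsStronglyCartesian f φ :=
  isStronglyCartesian_of_isFibGrpd _ (isFibGrpd_overCat U) f φ

theorem map_toId_isStronglyCartesian (H : FibCat.overCat U ⥤ᵇ 𝒳)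
    (hH : FibCat.PreservesStronglyCartesian H) (a : Over U) :
    𝒳.p.IsStronglyCartesian a.hom (H.map (toId a)) := by
  have : (FibCat.overCat U).p.IsHomLift a.hom (toId a) :=
    IsHomLift.map (FibCat.overCat U).p (toId a)
  exact hH a.hom (toId a) (isStronglyCartesian_overCat a.hom (toId a))

theorem map_toId_isHomLift (H : FibCat.overCat U ⥤ᵇ 𝒳) (a : Over U) :
    𝒳.p.IsHomLift a.hom (H.map (toId a)) := by
  have : (FibCat.overCat U).p.IsHomLift a.hom (toId a) :=
    IsHomLift.map (FibCat.overCat U).p (toId a)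
  infer_instance

/-- 2-morphisms out of a slice are determined at the final object. -/
theorem eq_of_app_id {G H : FibCat.overCat U ⥤ᵇ 𝒳} (hH : FibCat.PreservesStronglyCartesian H)
    (α β : G ⟶ H) (h : α.toNatTrans.app (Over.mk (𝟙 U)) = β.toNatTrans.app (Over.mk (𝟙 U))) :
    α = β := by
  refine hom_ext' fun a => ?_
  change Over U at a
  have := map_toId_isStronglyCartesian H hH a
  have h₁ : 𝒳.p.IsHomLift (𝟙 a.left) (α.toNatTrans.app a) := BasedNatTrans.isHomLift α rfl
  have h₂ : 𝒳.p.IsHomLift (𝟙 a.left) (β.toNatTrans.app a) := BasedNatTrans.isHomLift β rfl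
  refine IsStronglyCartesian.ext 𝒳.p a.hom (H.map (toId a)) (𝟙 a.left) ?_
  rw [← NatTrans.naturality, ← NatTrans.naturality, h]

theorem exists_natTrans_app_id {G H : FibCat.overCat U ⥤ᵇ 𝒳}
    (hH : FibCat.PreservesStronglyCartesian H) (φ : G.obj (Over.mk (𝟙 U)) ⟶ H.obj (Over.mk (𝟙 U)))
    [𝒳.p.IsHomLift (𝟙 U) φ] : ∃ α : G ⟶ H, α.toNatTrans.app (Over.mk (𝟙 U)) = φ := by
  have hex : ∀ a : Over U, ∃ x : G.obj a ⟶ H.obj a,
      𝒳.p.IsHomLift (𝟙 a.left) x ∧ x ≫ H.map (toId a) = G.map (toId a) ≫ φ := by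
    intro a
    have := map_toId_isStronglyCartesian H hH a
    have := map_toId_isHomLift G a
    obtain ⟨x, hx, -⟩ := IsStronglyCartesian.universal_property 𝒳.p a.hom (H.map (toId a))
      (𝟙 a.left) a.hom (Category.id_comp _).symm (G.map (toId a) ≫ φ)
    exact ⟨x, hx⟩
  choose x hx hx' using hex
  refine ⟨{ toNatTrans := { app := x, naturality := fun {a b} g => ?_ }, isHomLift' := hx }, ?_⟩
  · change Over U at a b
    have := hx a
    have := hx b
    have := map_toId_isStronglyCartesian H hH b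
    have hg : (FibCat.overCat U).p.IsHomLift g.left g := IsHomLift.map (FibCat.overCat U).p g
    have hGg : 𝒳.p.IsHomLift g.left (G.map g) := BasedFunctor.preserves_isHomLift G g.left g
    have hHg : 𝒳.p.IsHomLift g.left (H.map g) := BasedFunctor.preserves_isHomLift H g.left g
    refine IsStronglyCartesian.ext 𝒳.p b.hom (H.map (toId b)) g.left ?_
    rw [Category.assoc, Category.assoc, hx', ← Category.assoc, ← Functor.map_comp,
      ← Functor.map_comp, toId_natural g, hx']
  · change x (Over.mk (𝟙 U)) = φ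
    have e : toId (Over.mk (𝟙 U)) = 𝟙 (Over.mk (𝟙 U)) := Over.OverMorphism.ext rfl
    have := hx' (Over.mk (𝟙 U))
    rw [e, Functor.map_id, Functor.map_id] at this
    exact ((Category.comp_id _).symm.trans this).trans (Category.id_comp _)

/-- Every object of a fibre extends to a cartesian functor out of the slice. -/
theorem exists_basedFunctor [𝒳.p.IsFibered] (ξ : 𝒳.p.Fiber U) :
    ∃ G : FibCat.overCat U ⥤ᵇ 𝒳, FibCat.PreservesStronglyCartesian G ∧
      ∃ e : G.obj (Over.mk (𝟙 U)) ≅ ξ.1, 𝒳.p.IsHomLift (𝟙 U) e.hom := by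
  have hex : ∀ a : Over U, ∃ (y : 𝒳.obj) (l : y ⟶ ξ.1), 𝒳.p.IsStronglyCartesian a.hom l := by
    intro a
    obtain ⟨y, l, hl⟩ := IsPreFibered.exists_isCartesian 𝒳.p ξ.2 a.hom
    exact ⟨y, l, inferInstance⟩
  choose y l hl using hex
  have hm : ∀ {a b : Over U} (g : a ⟶ b),
      ∃ m : y a ⟶ y b, 𝒳.p.IsHomLift g.left m ∧ m ≫ l b = l a := by
    intro a b g
    have := hl a
    have := hl b
    obtain ⟨m, hm, -⟩ := IsStronglyCartesian.universal_property 𝒳.p b.hom (l b) g.left a.hom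
      (Over.w g).symm (l a)
    exact ⟨m, hm⟩
  choose m hm hm' using @hm
  have hp : ∀ a : Over U, 𝒳.p.obj (y a) = a.left := fun a =>
    have := hl a
    IsHomLift.domain_eq 𝒳.p a.hom (l a)
  let G₀ : Over U ⥤ 𝒳.obj :=
    { obj := y
      map := fun g => m g
      map_id := fun a => by
        have := hl a
        have : 𝒳.p.IsHomLift (𝟙 a.left) (m (𝟙 a)) := hm (𝟙 a)
        have : 𝒳.p.IsHomLift (𝟙 a.left) (𝟙 (y a)) := IsHomLift.id (hp a)
        refine IsStronglyCartesian.ext 𝒳.p a.hom (l a) (𝟙 a.left) ?_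
        rw [hm', Category.id_comp]
      map_comp := fun {a b c} g h => by
        have := hl c
        have : 𝒳.p.IsHomLift (g.left ≫ h.left) (m (g ≫ h)) := hm (g ≫ h)
        have := hm g
        have := hm h
        refine IsStronglyCartesian.ext 𝒳.p c.hom (l c) (g.left ≫ h.left) ?_
        rw [hm', Category.assoc, hm', hm'] }
  let G : FibCat.overCat U ⥤ᵇ 𝒳 :=
    { toFunctor := G₀
      w := Functor.ext hp fun a b g => by
        have := hm g
        exact IsHomLift.fac' 𝒳.p g.left (m g) }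
  refine ⟨G, ?_, ?_⟩
  · intro R S f a b φ hφ
    have : (FibCat.overCat U).p.IsHomLift f φ := hφ.toIsHomLift
    have : 𝒳.p.IsHomLift f (G.map φ) := BasedFunctor.preserves_isHomLift G f φ
    have hb := hl b
    have ha := hl a
    have hS : b.left = S := IsHomLift.codomain_eq (FibCat.overCat U).p f φ
    have hR : a.left = R := IsHomLift.domain_eq (FibCat.overCat U).p f φ
    subst hS hR
    obtain rfl : f = φ.left := IsHomLift.eq_of_isHomLift (FibCat.overCat U).p f φ
    have : 𝒳.p.IsStronglyCartesian (φ.left ≫ b.hom) (G.map φ ≫ l b) := by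
      rw [Over.w φ]
      exact (hm' φ).symm ▸ ha
    exact IsStronglyCartesian.of_comp 𝒳.p (ψ := l b) (g := b.hom)
  · have := hl (Over.mk (𝟙 U))
    have : 𝒳.p.IsStronglyCartesian (𝟙 U) (l (Over.mk (𝟙 U))) := this
    have : IsIso (l (Over.mk (𝟙 U))) :=
      IsStronglyCartesian.isIso_of_base_isIso 𝒳.p (𝟙 U) (l (Over.mk (𝟙 U)))
    exact ⟨asIso (l (Over.mk (𝟙 U))), (inferInstance : 𝒳.p.IsHomLift (𝟙 U) (l (Over.mk (𝟙 U))))⟩

theorem evalAtId_isEquivalence_of_isFibered [𝒳.p.IsFibered] (U : C) :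
    ((ObjectProperty.ι (FibCat.PreservesStronglyCartesian (𝒳 := FibCat.overCat U) (𝒴 := 𝒳))) ⋙
      FibCat.evalAtId 𝒳 U).IsEquivalence where
  faithful := ⟨fun {G H} α β h => ObjectProperty.hom_ext _
    (eq_of_app_id H.property α.hom β.hom (congrArg Subtype.val h))⟩
  full := ⟨fun {G H} φ => by
    have : 𝒳.p.IsHomLift (𝟙 U) φ.1 := φ.2
    obtain ⟨α, hα⟩ := exists_natTrans_app_id (G := G.obj) (H := H.obj) H.property φ.1
    exact ⟨ObjectProperty.homMk α, Subtype.ext hα⟩⟩
  essSurj := ⟨fun ξ => by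
    obtain ⟨G, hG, e, he⟩ := exists_basedFunctor ξ
    exact ⟨⟨G, hG⟩, ⟨fiberIso 𝒳.p e he⟩⟩⟩

theorem evalAtId_isEquivalence (h : FibCat.IsFibGrpd 𝒳.p) (U : C) :
    (FibCat.evalAtId 𝒳 U).IsEquivalence where
  faithful := ⟨fun {G H} α β e =>
    eq_of_app_id (preservesStronglyCartesian H h) α β (congrArg Subtype.val e)⟩
  full := ⟨fun {G H} φ => by
    have : 𝒳.p.IsHomLift (𝟙 U) φ.1 := φ.2
    obtain ⟨α, hα⟩ := exists_natTrans_app_id (G := G) (H := H) (preservesStronglyCartesian H h) φ.1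
    exact ⟨α, Subtype.ext hα⟩⟩
  essSurj := ⟨fun ξ => by
    have := isFibered_of_isFibGrpd _ h
    obtain ⟨G, -, e, he⟩ := exists_basedFunctor ξ
    exact ⟨G, ⟨fiberIso 𝒳.p e he⟩⟩⟩

/-- A 2-isomorphism out of a slice from an isomorphism at the final object. -/
theorem exists_iso_app_id (h : FibCat.IsFibGrpd 𝒳.p) {G H : FibCat.overCat U ⥤ᵇ 𝒳}
    (e : G.obj (Over.mk (𝟙 U)) ≅ H.obj (Over.mk (𝟙 U))) (he : 𝒳.p.IsHomLift (𝟙 U) e.hom) :
    ∃ α : G ≅ H, α.hom.toNatTrans.app (Over.mk (𝟙 U)) = e.hom := by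
  obtain ⟨α, hα⟩ := exists_natTrans_app_id (G := G) (H := H) (preservesStronglyCartesian H h) e.hom
  obtain ⟨β, hβ⟩ := exists_natTrans_app_id (G := H) (H := G) (preservesStronglyCartesian G h) e.inv
  refine ⟨⟨α, β, eq_of_app_id (preservesStronglyCartesian G h) _ _ ?_,
    eq_of_app_id (preservesStronglyCartesian H h) _ _ ?_⟩, hα⟩
  · change α.toNatTrans.app _ ≫ β.toNatTrans.app _ = 𝟙 _
    rw [hα, hβ, e.hom_inv_id]
  · change β.toNatTrans.app _ ≫ α.toNatTrans.app _ = 𝟙 _
    rw [hα, hβ, e.inv_hom_id]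

end Groth.Agent.Fib
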