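import Groth.Agent.Fib.Transfer

/-!
# 2-fibre products over a base
-/

set_option autoImplicit false
set_option backward.isDefEq.respectTransparency false
set_option backward.isDefEq.respectTransparency.types false

open CategoryTheory CategoryTheory.Functor CategoryTheory.Limits

universe v₉ u₉ v₈ u₈ v₇ u₇ v₆ u₆ v₅ u₅ v₄ u₄ v₃ u₃ v₂ u₂ v u

namespace Groth.Agent.Fib

variable {C : Type u} [Category.{v} C] {𝒳 : BasedCategory.{v₂, u₂} C}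
  {𝒴 : BasedCategory.{v₃, u₃} C} {𝒮 : BasedCategory.{v₄, u₄} C}

section Mk

variable {F : 𝒳 ⥤ᵇ 𝒮} {G : 𝒴 ⥤ᵇ 𝒮}

/-- Objects of the 2-fibre product. -/
def fpMk (x : 𝒳.obj) (y : 𝒴.obj) (e : F.obj x ≅ G.obj y)
    (he : 𝒮.p.IsHomLift (𝟙 (𝒳.p.obj x)) e.hom) : (FibCat.fp F G).obj :=
  ⟨{ fst := x, snd := y, iso := e }, he⟩

/-- Morphisms of the 2-fibre product. -/
def fpHomMk {a b : (FibCat.fp F G).obj} (φ : a.obj.fst ⟶ b.obj.fst) (ψ : a.obj.snd ⟶ b.obj.snd)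
    (w : F.map φ ≫ b.obj.iso.hom = a.obj.iso.hom ≫ G.map ψ) : a ⟶ b :=
  ObjectProperty.homMk { fst := φ, snd := ψ, w := w }

@[simp] theorem fpHomMk_fst {a b : (FibCat.fp F G).obj} (φ : a.obj.fst ⟶ b.obj.fst)
    (ψ : a.obj.snd ⟶ b.obj.snd) (w : F.map φ ≫ b.obj.iso.hom = a.obj.iso.hom ≫ G.map ψ) :
    (fpHomMk φ ψ w).hom.fst = φ := rfl

@[simp] theorem fpHomMk_snd {a b : (FibCat.fp F G).obj} (φ : a.obj.fst ⟶ b.obj.fst)
    (ψ : a.obj.snd ⟶ b.obj.snd) (w : F.map φ ≫ b.obj.iso.hom = a.obj.iso.hom ≫ G.map ψ) :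
    (fpHomMk φ ψ w).hom.snd = ψ := rfl

theorem fp_hom_ext {a b : (FibCat.fp F G).obj} {f g : a ⟶ b} (h₁ : f.hom.fst = g.hom.fst)
    (h₂ : f.hom.snd = g.hom.snd) : f = g :=
  ObjectProperty.hom_ext _ (CategoricalPullback.hom_ext h₁ h₂)

theorem fp_id_fst (a : (FibCat.fp F G).obj) : (𝟙 a : a ⟶ a).hom.fst = 𝟙 _ := rfl

theorem fp_id_snd (a : (FibCat.fp F G).obj) : (𝟙 a : a ⟶ a).hom.snd = 𝟙 _ := rfl

theorem fp_comp_fst {a b c : (FibCat.fp F G).obj} (f : a ⟶ b) (g : b ⟶ c) :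
    (f ≫ g).hom.fst = f.hom.fst ≫ g.hom.fst := rfl

theorem fp_comp_snd {a b c : (FibCat.fp F G).obj} (f : a ⟶ b) (g : b ⟶ c) :
    (f ≫ g).hom.snd = f.hom.snd ≫ g.hom.snd := rfl

instance fp_iso_isHomLift (a : (FibCat.fp F G).obj) :
    𝒮.p.IsHomLift (𝟙 (𝒳.p.obj a.obj.fst)) a.obj.iso.hom := a.property

theorem fp_snd_obj (a : (FibCat.fp F G).obj) : 𝒴.p.obj a.obj.snd = 𝒳.p.obj a.obj.fst :=
  (G.w_obj a.obj.snd).symm.trans
    (IsHomLift.codomain_eq 𝒮.p (𝟙 (𝒳.p.obj a.obj.fst)) a.obj.iso.hom)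

/-- Isomorphisms of the 2-fibre product. -/
def fpIsoMk {a b : (FibCat.fp F G).obj} (e₁ : a.obj.fst ≅ b.obj.fst) (e₂ : a.obj.snd ≅ b.obj.snd)
    (w : F.map e₁.hom ≫ b.obj.iso.hom = a.obj.iso.hom ≫ G.map e₂.hom) : a ≅ b :=
  ObjectProperty.isoMk _ (CategoricalPullback.mkIso e₁ e₂ w)

@[simp] theorem fpIsoMk_hom_fst {a b : (FibCat.fp F G).obj} (e₁ : a.obj.fst ≅ b.obj.fst)
    (e₂ : a.obj.snd ≅ b.obj.snd) (w : F.map e₁.hom ≫ b.obj.iso.hom = a.obj.iso.hom ≫ G.map e₂.hom) :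
    (fpIsoMk e₁ e₂ w).hom.hom.fst = e₁.hom := rfl

@[simp] theorem fpIsoMk_hom_snd {a b : (FibCat.fp F G).obj} (e₁ : a.obj.fst ≅ b.obj.fst)
    (e₂ : a.obj.snd ≅ b.obj.snd) (w : F.map e₁.hom ≫ b.obj.iso.hom = a.obj.iso.hom ≫ G.map e₂.hom) :
    (fpIsoMk e₁ e₂ w).hom.hom.snd = e₂.hom := rfl

theorem fp_isHomLift_iff {a b : (FibCat.fp F G).obj} {R S : C} (f : R ⟶ S) (φ : a ⟶ b) :
    (FibCat.fp F G).p.IsHomLift f φ ↔ 𝒳.p.IsHomLift f φ.hom.fst :=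
  (BasedFunctor.isHomLift_iff (FibCat.fpFst F G) f φ).symm

theorem fp_isHomLift_snd {a b : (FibCat.fp F G).obj} {R S : C} (f : R ⟶ S) (φ : a ⟶ b)
    [h : (FibCat.fp F G).p.IsHomLift f φ] : 𝒴.p.IsHomLift f φ.hom.snd :=
  BasedFunctor.preserves_isHomLift (FibCat.fpSnd F G) f φ

theorem fp_iso_isHomLift_id {a b : (FibCat.fp F G).obj} (e : a ≅ b) {U : C}
    (h : 𝒳.p.IsHomLift (𝟙 U) e.hom.hom.fst) : (FibCat.fp F G).p.IsHomLift (𝟙 U) e.hom :=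
  (fp_isHomLift_iff _ _).2 h

/-- Criterion for a morphism of a 2-fibre product to be strongly cartesian. -/
theorem fp_isStronglyCartesian {a b : (FibCat.fp F G).obj} {R S : C} (f : R ⟶ S) (φ : a ⟶ b)
    (h₁ : 𝒳.p.IsStronglyCartesian f φ.hom.fst) (h₂ : 𝒴.p.IsStronglyCartesian f φ.hom.snd)
    (h₃ : 𝒮.p.IsStronglyCartesian f (G.map φ.hom.snd)) :
    (FibCat.fp F G).p.IsStronglyCartesian f φ := by
  have hl : (FibCat.fp F G).p.IsHomLift f φ := (fp_isHomLift_iff f φ).2 inferInstance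
  refine { universal_property' := fun {c} g ψ hψ => ?_ }
  have hψ₁ : 𝒳.p.IsHomLift (g ≫ f) ψ.hom.fst := (fp_isHomLift_iff _ ψ).1 hψ
  have hψ₂ : 𝒴.p.IsHomLift (g ≫ f) ψ.hom.snd := fp_isHomLift_snd _ ψ
  obtain ⟨z₁, ⟨hz₁, hz₁'⟩, hu₁⟩ :=
    IsStronglyCartesian.universal_property 𝒳.p f φ.hom.fst g (g ≫ f) rfl ψ.hom.fst
  obtain ⟨z₂, ⟨hz₂, hz₂'⟩, hu₂⟩ :=
    IsStronglyCartesian.universal_property 𝒴.p f φ.hom.snd g (g ≫ f) rfl ψ.hom.snd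
  have hca : 𝒳.p.obj a.obj.fst = R := IsHomLift.domain_eq 𝒳.p f φ.hom.fst
  have hia : 𝒮.p.IsHomLift (𝟙 R) a.obj.iso.hom := hca ▸ a.property
  have hic : 𝒮.p.IsHomLift (𝟙 ((FibCat.fp F G).p.obj c)) c.obj.iso.hom := c.property
  have w : F.map z₁ ≫ a.obj.iso.hom = c.obj.iso.hom ≫ G.map z₂ := by
    refine IsStronglyCartesian.ext 𝒮.p f (G.map φ.hom.snd) g ?_
    rw [Category.assoc, Category.assoc, ← Functor.map_comp, hz₂', ← φ.hom.w,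
      ← Category.assoc, ← Functor.map_comp, hz₁']
    exact ψ.hom.w
  refine ⟨fpHomMk z₁ z₂ w, ⟨(fp_isHomLift_iff _ _).2 hz₁, fp_hom_ext hz₁' hz₂'⟩, ?_⟩
  rintro z ⟨hz, hz'⟩
  refine fp_hom_ext (hu₁ _ ⟨(fp_isHomLift_iff _ _).1 hz, ?_⟩) (hu₂ _ ⟨fp_isHomLift_snd g z, ?_⟩)
  · exact congrArg (fun t => t.hom.fst) hz'
  · exact congrArg (fun t => t.hom.snd) hz'

end Mk

variable (F : 𝒳 ⥤ᵇ 𝒮) (G : 𝒴 ⥤ᵇ 𝒮)

/-- Strongly cartesian lifts in a 2-fibre product. -/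
theorem fp_exists_lift [𝒳.p.IsFibered] [𝒴.p.IsFibered]
    (hF : FibCat.PreservesStronglyCartesian F) (hG : FibCat.PreservesStronglyCartesian G)
    (a : (FibCat.fp F G).obj) {R : C} (f : R ⟶ (FibCat.fp F G).p.obj a) :
    ∃ (b : (FibCat.fp F G).obj) (φ : b ⟶ a),
      (FibCat.fp F G).p.IsStronglyCartesian f φ := by
  obtain ⟨x, φ, hφ⟩ := IsPreFibered.exists_isCartesian 𝒳.p (a := a.obj.fst) rfl f
  obtain ⟨y, ψ, hψ⟩ := IsPreFibered.exists_isCartesian 𝒴.p (fp_snd_obj a) f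
  have hx : 𝒳.p.obj x = R := IsHomLift.domain_eq 𝒳.p f φ
  have h₁ := hF f φ inferInstance
  have h₂ := hG f ψ inferInstance
  have hi : 𝒮.p.IsHomLift (𝟙 ((FibCat.fp F G).p.obj a)) a.obj.iso.hom := a.property
  have h₁' : 𝒮.p.IsStronglyCartesian f (F.map φ ≫ a.obj.iso.hom) := by
    have : 𝒮.p.IsStronglyCartesian (f ≫ 𝟙 _) (F.map φ ≫ a.obj.iso.hom) := inferInstance
    simpa using this
  let α : F.obj x ≅ G.obj y :=
    IsCartesian.domainUniqueUpToIso 𝒮.p f (G.map ψ) (F.map φ ≫ a.obj.iso.hom)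
  have hα : 𝒮.p.IsHomLift (𝟙 (𝒳.p.obj x)) α.hom := by rw [hx]; infer_instance
  refine ⟨fpMk x y α hα, fpHomMk φ ψ ?_, fp_isStronglyCartesian f _ ?_ ?_ ?_⟩
  · exact (IsCartesian.fac 𝒮.p f (G.map ψ) (F.map φ ≫ a.obj.iso.hom)).symm
  · change 𝒳.p.IsStronglyCartesian f φ
    infer_instance
  · change 𝒴.p.IsStronglyCartesian f ψ
    infer_instance
  · exact h₂

theorem isFibered_fp [𝒳.p.IsFibered] [𝒴.p.IsFibered]
    (hF : FibCat.PreservesStronglyCartesian F) (hG : FibCat.PreservesStronglyCartesian G) :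
    (FibCat.fp F G).p.IsFibered :=
  IsFibered.of_exists_isStronglyCartesian fun a _ f => fp_exists_lift F G hF hG a f

theorem isFibGrpd_fp (h𝒳 : FibCat.IsFibGrpd 𝒳.p) (h𝒴 : FibCat.IsFibGrpd 𝒴.p)
    (h𝒮 : FibCat.IsFibGrpd 𝒮.p) : FibCat.IsFibGrpd (FibCat.fp F G).p where
  exists_lift := fun {a} {V} f => by
    have := isFibered_of_isFibGrpd _ h𝒳
    have := isFibered_of_isFibGrpd _ h𝒴
    obtain ⟨b, φ, hφ⟩ := fp_exists_lift F G (preservesStronglyCartesian F h𝒮)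
      (preservesStronglyCartesian G h𝒮) a f
    exact ⟨b, φ, inferInstance⟩
  isStronglyCartesian := fun {b a} φ => by
    have h₁ : 𝒳.p.IsHomLift ((FibCat.fp F G).p.map φ) φ.hom.fst :=
      (fp_isHomLift_iff _ _).1 inferInstance
    have h₂ : 𝒴.p.IsHomLift ((FibCat.fp F G).p.map φ) φ.hom.snd := fp_isHomLift_snd _ φ
    refine fp_isStronglyCartesian _ φ ?_ ?_ ?_
    · exact isStronglyCartesian_of_isFibGrpd _ h𝒳 _ _
    · exact isStronglyCartesian_of_isFibGrpd _ h𝒴 _ _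
    · exact isStronglyCartesian_of_isFibGrpd _ h𝒮 _ _

end Groth.Agent.Fib
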