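import Groth.Agent.Fib.FpPaste
import Mathlib.CategoryTheory.Limits.Shapes.Pullback.HasPullback

/-!
# Representable 1-morphisms
-/

set_option autoImplicit false
set_option backward.isDefEq.respectTransparency false
set_option backward.isDefEq.respectTransparency.types false

open CategoryTheory CategoryTheory.Functor CategoryTheory.Limits

universe v₆ u₆ v₅ u₅ v₄ u₄ v₃ u₃ v₂ u₂ v u

namespace Groth.Agent.Fib

variable {C : Type u} [Category.{v} C] {𝒳 : BasedCategory.{v₂, u₂} C}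
  {𝒴 : BasedCategory.{v₃, u₃} C} {𝒵 : BasedCategory.{v₄, u₄} C}
  {𝒳' : BasedCategory.{v₅, u₅} C} {𝒴' : BasedCategory.{v₆, u₆} C}

theorem isRepresentable1_comp (f : 𝒳 ⥤ᵇ 𝒴) (g : 𝒴 ⥤ᵇ 𝒵) (hf : FibCat.IsRepresentable1 f)
    (hg : FibCat.IsRepresentable1 g) : FibCat.IsRepresentable1 (BasedFunctor.comp f g) := by
  intro U y
  obtain ⟨V, F, hF⟩ := hg U y
  obtain ⟨E, hE, -, -⟩ := exists_quasiInverse hF
  let M := fpMap E (BasedFunctor.id 𝒳) (BasedFunctor.id 𝒴)
    (F' := BasedFunctor.comp E (FibCat.fpSnd y g)) (G' := f) (F := FibCat.fpSnd y g) (G := f)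
    (Iso.refl _) (Iso.refl _)
  have : (BasedFunctor.id 𝒴).toFunctor.Full := inferInstanceAs (Functor.Full (𝟭 𝒴.obj))
  have : (BasedFunctor.id 𝒴).toFunctor.Faithful := inferInstanceAs (Functor.Faithful (𝟭 𝒴.obj))
  have hM : FibCat.IsEquivOver (BasedFunctor.comp M (fpAssoc y g f)) :=
    isEquivOver_comp (isEquivOver_fpMap _ _ _ _ _ hE (isEquivOver_id _))
      (isEquivOver_fpAssoc y g f)
  exact (isRepresentable_iff_of_isEquivOver _ hM).1 (hf V _)

theorem isRepresentable1_fpFst (f : 𝒳 ⥤ᵇ 𝒴) (g : 𝒵 ⥤ᵇ 𝒴) (hf : FibCat.IsRepresentable1 f) :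
    FibCat.IsRepresentable1 (FibCat.fpFst g f) :=
  fun U y => isRepresentable_of_isEquivOver _ (isEquivOver_fpBC y g f)
    (hf U (BasedFunctor.comp y g))

theorem isRepresentable1_iff_of_square (f : 𝒳 ⥤ᵇ 𝒴) (f' : 𝒳' ⥤ᵇ 𝒴') (a : 𝒳' ⥤ᵇ 𝒳) (b : 𝒴' ⥤ᵇ 𝒴)
    (ha : FibCat.IsEquivOver a) (hb : FibCat.IsEquivOver b)
    (e : BasedFunctor.comp f' b ≅ BasedFunctor.comp a f) :
    FibCat.IsRepresentable1 f ↔ FibCat.IsRepresentable1 f' := by
  have := full_of_isEquivOver hb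
  have := faithful_of_isEquivOver hb
  constructor
  · intro h U y'
    exact isRepresentable_of_isEquivOver _ (isEquivOver_fpMap (BasedFunctor.id _) a b
      (F' := y') (G' := f') (F := BasedFunctor.comp y' b) (G := f) (Iso.refl _) e
      (isEquivOver_id _) ha) (h U _)
  · intro h U y
    obtain ⟨b', -, -, ⟨i⟩⟩ := exists_quasiInverse hb
    exact (isRepresentable_iff_of_isEquivOver _ (isEquivOver_fpMap (BasedFunctor.id _) a b
      (F' := BasedFunctor.comp y b') (G' := f') (F := y) (G := f) (isoWhiskerLeft y i) e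
      (isEquivOver_id _) ha)).1 (h U _)

theorem isRepresentable1_of_iso {f f' : 𝒳 ⥤ᵇ 𝒴} (e : f ≅ f') (h : FibCat.IsRepresentable1 f) :
    FibCat.IsRepresentable1 f' :=
  (isRepresentable1_iff_of_square f f' (BasedFunctor.id _) (BasedFunctor.id _) (isEquivOver_id _)
    (isEquivOver_id _) e.symm).1 h

theorem isRepresentable1_of_twoCart {𝒬 : BasedCategory.{v₆, u₆} C} (Γ : 𝒳 ⥤ᵇ 𝒬) (m : 𝒬 ⥤ᵇ 𝒵)
    (Δ : 𝒴 ⥤ᵇ 𝒵) (f : 𝒳 ⥤ᵇ 𝒴) (e : BasedFunctor.comp Γ m ≅ BasedFunctor.comp f Δ)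
    (he : FibCat.IsTwoCartOver Γ f e) (h : FibCat.IsRepresentable1 Δ) :
    FibCat.IsRepresentable1 Γ :=
  (isRepresentable1_iff_of_square (FibCat.fpFst m Δ) Γ (FibCat.fpLift Γ f e) (BasedFunctor.id _) he
    (isEquivOver_id _) (Iso.refl _)).1 (isRepresentable1_fpFst Δ m h)

/-- A morphism of the base lying over an identity is the transported identity. -/
theorem self_eq_eqToHom {a b U : C} (φ : a ⟶ b) [h : (FibCat.selfOver C).p.IsHomLift (𝟙 U) φ] :
    ∃ e : a = b, φ = eqToHom e := by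
  have ha : a = U := IsHomLift.domain_eq (FibCat.selfOver C).p (𝟙 U) φ
  have hb : b = U := IsHomLift.codomain_eq (FibCat.selfOver C).p (𝟙 U) φ
  refine ⟨ha.trans hb.symm, ?_⟩
  have := IsHomLift.fac' (FibCat.selfOver C).p (𝟙 U) φ
  rw [Category.id_comp, eqToHom_trans] at this
  exact this

theorem self_hom_unique {a b R S : C} (f : R ⟶ S) (φ ψ : a ⟶ b)
    [(FibCat.selfOver C).p.IsHomLift f φ] [(FibCat.selfOver C).p.IsHomLift f ψ] : φ = ψ :=
  (IsHomLift.fac' (FibCat.selfOver C).p f φ).trans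
    (IsHomLift.fac' (FibCat.selfOver C).p f ψ).symm

/-- Any two functors over the base to the base itself are isomorphic. -/
def toSelfIso (F G : 𝒳 ⥤ᵇ FibCat.selfOver C) : F ≅ G :=
  isoMk (fun a => eqToIso ((F.w_obj a).trans (G.w_obj a).symm))
    (fun {a b} φ => by
      have h₁ := w_map F φ
      have h₂ := w_map G φ
      change F.map φ = _ at h₁
      change G.map φ = _ at h₂
      change F.map φ ≫ eqToHom ((F.w_obj b).trans (G.w_obj b).symm) =
        eqToHom ((F.w_obj a).trans (G.w_obj a).symm) ≫ G.map φ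
      rw [h₁, h₂]
      simp)
    (fun a => IsHomLift.eqToHom_domain_lift_id ((F.w_obj a).trans (G.w_obj a).symm) (F.w_obj a))

/-- The morphism of the base inducing a functor between slices. -/
def overHom {U V : C} (G : FibCat.overCat U ⥤ᵇ FibCat.overCat V) : U ⟶ V :=
  eqToHom (G.w_obj (Over.mk (𝟙 U))).symm ≫ (G.obj (Over.mk (𝟙 U))).hom

theorem overCat_obj_hom {U V : C} (G : FibCat.overCat U ⥤ᵇ FibCat.overCat V) (a : Over U) :
    (G.obj a).hom = eqToHom (G.w_obj a) ≫ a.hom ≫ overHom G := by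
  have h := w_map G (Over.homMk a.hom (Category.comp_id _) : a ⟶ Over.mk (𝟙 U))
  have h' := Over.w (G.map (Over.homMk a.hom (Category.comp_id _) : a ⟶ Over.mk (𝟙 U)))
  change (G.map _).left = _ at h
  rw [← h', h, Category.assoc, Category.assoc]
  rfl

theorem over_isHomLift_id_left {U V : C} {a b : Over V} (φ : a ⟶ b)
    [h : (FibCat.overCat V).p.IsHomLift (𝟙 U) φ] :
    ∃ e : a.left = b.left, φ.left = eqToHom e := by
  have ha : a.left = U := IsHomLift.domain_eq (FibCat.overCat V).p (𝟙 U) φ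
  have hb : b.left = U := IsHomLift.codomain_eq (FibCat.overCat V).p (𝟙 U) φ
  refine ⟨ha.trans hb.symm, ?_⟩
  have := IsHomLift.fac' (FibCat.overCat V).p (𝟙 U) φ
  rw [Category.id_comp, eqToHom_trans] at this
  exact this

theorem over_isHomLift_of_left {U V : C} {a b : Over V} (φ : a ⟶ b) (ha : a.left = U)
    (e : a.left = b.left) (he : φ.left = eqToHom e) : (FibCat.overCat V).p.IsHomLift (𝟙 U) φ := by
  subst ha
  refine IsHomLift.of_fac' (FibCat.overCat V).p _ _ rfl e.symm ?_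
  change φ.left = _
  rw [he]
  exact ((Category.id_comp _).trans (Category.id_comp _)).symm

theorem isRepresentable1_overMap [HasPullbacks C] {X Y : C} (f : X ⟶ Y) :
    FibCat.IsRepresentable1
      (⟨Over.map f, Over.mapForget_eq f⟩ : FibCat.overCat X ⥤ᵇ FibCat.overCat Y) := by
  intro U G
  let M : FibCat.overCat X ⥤ᵇ FibCat.overCat Y := ⟨Over.map f, Over.mapForget_eq f⟩
  let g := overHom G
  let u : Over U := Over.mk (pullback.fst g f)
  let x : Over X := Over.mk (pullback.snd g f)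
  have hux : eqToHom (G.w_obj u) ≫ (M.obj x).hom = (G.obj u).hom := by
    rw [overCat_obj_hom G u]
    exact congrArg _ pullback.condition.symm
  let ξ : (FibCat.fp G M).obj := fpMk u x (Over.isoMk (eqToIso (G.w_obj u)) hux)
    (over_isHomLift_of_left _ (G.w_obj u) (G.w_obj u) rfl)
  have hc : ∀ ρ : (FibCat.fp G M).obj, ∃ (e : (ρ.obj.fst : Over U).left = (ρ.obj.snd : Over X).left),
      (ρ.obj.iso.hom).left = eqToHom (G.w_obj _) ≫ eqToHom e ∧
        (ρ.obj.fst : Over U).hom ≫ g = (eqToHom e ≫ (ρ.obj.snd : Over X).hom) ≫ f := by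
    intro ρ
    have := fp_iso_isHomLift ρ
    obtain ⟨e, he⟩ := over_isHomLift_id_left (U := (FibCat.overCat U).p.obj ρ.obj.fst) ρ.obj.iso.hom
    refine ⟨((G.w_obj ρ.obj.fst).symm.trans e), by rw [he]; simp, ?_⟩
    have hw := Over.w ρ.obj.iso.hom
    rw [he, overCat_obj_hom G] at hw
    have := congrArg (fun t => eqToHom (G.w_obj ρ.obj.fst).symm ≫ t) hw
    simp only [eqToHom_trans_assoc, eqToHom_refl, Category.id_comp] at this
    exact this.symm.trans (Category.assoc _ _ _).symm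
  choose ec hc₁ hc₂ using hc
  let t : ∀ ρ, ρ ⟶ ξ := fun ρ =>
    let φ₁ : (ρ.obj.fst : Over U) ⟶ u := Over.homMk
      (pullback.lift (ρ.obj.fst : Over U).hom (eqToHom (ec ρ) ≫ (ρ.obj.snd : Over X).hom) (hc₂ ρ))
      (pullback.lift_fst _ _ _)
    let φ₂ : (ρ.obj.snd : Over X) ⟶ x := Over.homMk
      (eqToHom (ec ρ).symm ≫
        pullback.lift (ρ.obj.fst : Over U).hom (eqToHom (ec ρ) ≫ (ρ.obj.snd : Over X).hom) (hc₂ ρ))
      (by simp [x])
    fpHomMk φ₁ φ₂ (by
      apply Over.OverMorphism.ext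
      have h₁ := w_map G φ₁
      change (G.map φ₁).left = _ at h₁
      change (G.map φ₁).left ≫ eqToHom (G.w_obj u) = ρ.obj.iso.hom.left ≫ φ₂.left
      rw [h₁, hc₁]
      change (eqToHom _ ≫ φ₁.left ≫ eqToHom _) ≫ eqToHom _ = _
      simp [φ₁, φ₂])
  refine isRepresentable_of_terminal (isFibGrpd_fp G M (isFibGrpd_overCat U) (isFibGrpd_overCat X)
    (isFibGrpd_overCat Y)) ξ t fun ρ φ => ?_
  have hw := congrArg CommaMorphism.left φ.hom.w
  have h₁ := w_map G φ.hom.fst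
  change (G.map φ.hom.fst).left = _ at h₁
  change (G.map φ.hom.fst).left ≫ eqToHom (G.w_obj u) = ρ.obj.iso.hom.left ≫ φ.hom.snd.left at hw
  rw [h₁, hc₁] at hw
  have hφ₂ : (φ.hom.snd : (ρ.obj.snd : Over X) ⟶ x).left =
      eqToHom (ec ρ).symm ≫ (φ.hom.fst : (ρ.obj.fst : Over U) ⟶ u).left := by
    rw [← cancel_epi (eqToHom (G.w_obj ρ.obj.fst) ≫ eqToHom (ec ρ))]
    refine hw.symm.trans ?_
    change (eqToHom _ ≫ (φ.hom.fst : (ρ.obj.fst : Over U) ⟶ u).left ≫ eqToHom _) ≫ eqToHom _ = _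
    simp
  have key : (φ.hom.fst : (ρ.obj.fst : Over U) ⟶ u).left = pullback.lift (ρ.obj.fst : Over U).hom
      (eqToHom (ec ρ) ≫ (ρ.obj.snd : Over X).hom) (hc₂ ρ) := by
    apply pullback.hom_ext
    · rw [pullback.lift_fst]
      exact Over.w (φ.hom.fst : (ρ.obj.fst : Over U) ⟶ u)
    · rw [pullback.lift_snd, ← Over.w (φ.hom.snd : (ρ.obj.snd : Over X) ⟶ x), hφ₂]
      simp [x, ξ, fpMk]
  refine fp_hom_ext (Over.OverMorphism.ext key) (Over.OverMorphism.ext ?_)
  exact hφ₂.trans (congrArg _ key)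

end Groth.Agent.Fib
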