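import Groth.Agent.Fib.Comp

/-!
# Categories fibred in setoids, relative inertia, diagonals
-/

set_option autoImplicit false
set_option backward.isDefEq.respectTransparency false
set_option backward.isDefEq.respectTransparency.types false

open CategoryTheory CategoryTheory.Functor CategoryTheory.Limits

universe v₄ u₄ v₃ u₃ v₂ u₂ v u

namespace Groth.Agent.Fib

variable {C : Type u} [Category.{v} C]

section Plain

variable {X : Type u₂} [Category.{v₂} X] (p : X ⥤ C)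

theorem faithful_of_isFibSetoid (h : FibCat.IsFibSetoid p) : p.Faithful where
  map_injective {y x} φ φ' e := by
    have := h.1.isStronglyCartesian φ
    have : p.IsHomLift (p.map φ) φ' := e ▸ inferInstance
    let χ := IsCartesian.map p (p.map φ) φ φ'
    have := h.2 (p.obj y)
    have e₁ : (⟨χ, IsCartesian.map_isHomLift p (p.map φ) φ φ'⟩ : Fiber.mk (p := p) (a := y) rfl ⟶
        Fiber.mk rfl) = ⟨𝟙 y, IsHomLift.id rfl⟩ := Subsingleton.elim _ _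
    have e₂ : χ = 𝟙 y := congrArg Subtype.val e₁
    have e₃ := IsCartesian.fac p (p.map φ) φ φ'
    rw [show IsCartesian.map p (p.map φ) φ φ' = 𝟙 y from e₂, Category.id_comp] at e₃
    exact e₃

theorem isFibSetoid_of_faithful (h : FibCat.IsFibGrpd p) [p.Faithful] : FibCat.IsFibSetoid p := by
  refine ⟨h, fun U a b => ⟨fun φ ψ => Subtype.ext (p.map_injective ?_)⟩⟩
  have := φ.2
  have := ψ.2
  rw [IsHomLift.fac' p (𝟙 U) φ.1, IsHomLift.fac' p (𝟙 U) ψ.1]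

theorem isFibSetoid_of_isFibSet (h : FibCat.IsFibSet p) : FibCat.IsFibSetoid p :=
  ⟨h.1, fun U a b => (h.2 U).subsingleton a b⟩

theorem isFibGrpd_selfOver : FibCat.IsFibGrpd (FibCat.selfOver C).p where
  exists_lift := fun {x} {V} f => ⟨V, f, IsHomLift.map (𝟭 C) f⟩
  isStronglyCartesian := fun {y x} φ =>
    { toIsHomLift := IsHomLift.map (FibCat.selfOver C).p φ
      universal_property' := fun {a'} g φ' hφ' => by
        have hg : g ≫ φ = φ' := @IsHomLift.eq_of_isHomLift _ _ _ _ (FibCat.selfOver C).p _ _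
          (g ≫ φ) φ' hφ'
        refine ⟨g, ⟨IsHomLift.map (FibCat.selfOver C).p g, hg⟩, ?_⟩
        rintro χ ⟨hχ, -⟩
        exact (IsHomLift.eq_of_isHomLift (FibCat.selfOver C).p g χ).symm }

end Plain

section Based

variable {𝒳 : BasedCategory.{v₂, u₂} C} {𝒴 : BasedCategory.{v₃, u₃} C}
  {𝒮 : BasedCategory.{v₄, u₄} C}

theorem faithful_p_of_faithful (F : 𝒳 ⥤ᵇ 𝒴) [F.toFunctor.Faithful] [𝒴.p.Faithful] :
    𝒳.p.Faithful := by
  rw [← F.w]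
  infer_instance

theorem isFibGrpd_toFunctor (F : 𝒳 ⥤ᵇ 𝒴) (h𝒳 : FibCat.IsFibGrpd 𝒳.p) (h𝒴 : FibCat.IsFibGrpd 𝒴.p)
    (hlift : ∀ {x : 𝒳.obj} {V : 𝒴.obj} (f : V ⟶ F.obj x),
      ∃ (y : 𝒳.obj) (φ : y ⟶ x), F.toFunctor.IsHomLift f φ) :
    FibCat.IsFibGrpd F.toFunctor where
  exists_lift := hlift
  isStronglyCartesian := fun {y x} φ => by
    have hc : FibCat.IsFibGrpd (F.toFunctor ⋙ 𝒴.p) := F.w.symm ▸ h𝒳
    have := hc.isStronglyCartesian φ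
    exact isStronglyCartesian_of_comp F.toFunctor 𝒴.p h𝒴 (F.map φ) φ ((F.toFunctor ⋙ 𝒴.p).map φ)

theorem isFibSetoid_fp (f : 𝒳 ⥤ᵇ 𝒮) [f.toFunctor.Faithful] (g : 𝒴 ⥤ᵇ 𝒮)
    (h𝒳 : FibCat.IsFibGrpd 𝒳.p) (h𝒴 : FibCat.IsFibSetoid 𝒴.p) (h𝒮 : FibCat.IsFibGrpd 𝒮.p) :
    FibCat.IsFibSetoid (FibCat.fp f g).p := by
  have := faithful_of_isFibSetoid _ h𝒴
  have : (FibCat.fp f g).p.Faithful := ⟨fun {a b} φ ψ e => by
    have h₁ : 𝒴.p.IsHomLift ((FibCat.fp f g).p.map φ) φ.hom.snd := inferInstance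
    have h₂ : 𝒴.p.IsHomLift ((FibCat.fp f g).p.map φ) ψ.hom.snd := e ▸ inferInstance
    have e₂ : φ.hom.snd = ψ.hom.snd := 𝒴.p.map_injective
      ((IsHomLift.fac' 𝒴.p ((FibCat.fp f g).p.map φ) φ.hom.snd).trans
        (IsHomLift.fac' 𝒴.p ((FibCat.fp f g).p.map φ) ψ.hom.snd).symm)
    refine fp_hom_ext (f.toFunctor.map_injective ?_) e₂
    rw [← cancel_mono b.obj.iso.hom]
    exact φ.hom.w.trans (e₂ ▸ ψ.hom.w.symm)⟩
  exact isFibSetoid_of_faithful _ (isFibGrpd_fp f g h𝒳 h𝒴.1 h𝒮)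

theorem isFibSetoid_fpFst_pair_diag {U : C} {𝒮 : BasedCategory.{v₄, u₄} C}
    (h𝒮 : FibCat.IsFibGrpd 𝒮.p) (x y : FibCat.overCat U ⥤ᵇ 𝒮)
    (e : BasedFunctor.comp x (FibCat.toSelf 𝒮) ≅ BasedFunctor.comp y (FibCat.toSelf 𝒮)) :
    FibCat.IsFibSetoid
      (FibCat.fpFst (FibCat.fpLift x y e) (FibCat.diag (FibCat.toSelf 𝒮))).toFunctor := by
  let P := FibCat.fpFst (FibCat.fpLift x y e) (FibCat.diag (FibCat.toSelf 𝒮))
  have hfp : FibCat.IsFibGrpd (FibCat.fp (FibCat.toSelf 𝒮) (FibCat.toSelf 𝒮)).p :=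
    isFibGrpd_fp _ _ h𝒮 h𝒮 isFibGrpd_selfOver
  have h := isFibGrpd_fp (FibCat.fpLift x y e) (FibCat.diag (FibCat.toSelf 𝒮))
    (isFibGrpd_overCat U) h𝒮 hfp
  have : P.toFunctor.Faithful := ⟨fun {a b} φ ψ e' => by
    refine fp_hom_ext e' ?_
    have h₁ := congrArg (fun t => t.hom.fst) φ.hom.w
    have h₂ := congrArg (fun t => t.hom.fst) ψ.hom.w
    have e'' : φ.hom.fst = ψ.hom.fst := e'
    rw [← e''] at h₂
    exact (cancel_epi a.obj.iso.hom.hom.fst).1 (h₁.symm.trans h₂)⟩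
  have hP : FibCat.IsFibGrpd P.toFunctor :=
    (isFibGrpd_iff_comp P.toFunctor (FibCat.overCat U).p (isFibSet_over U)).2 (P.w.symm ▸ h)
  exact isFibSetoid_of_faithful _ hP

theorem inertia_aut_isHomLift {F : 𝒳 ⥤ᵇ 𝒴} (x : FibCat.InertiaObj F) :
    𝒳.p.IsHomLift (𝟙 (𝒳.p.obj x.pt)) x.aut.hom := by
  rw [← BasedFunctor.isHomLift_iff F, x.map_aut]
  infer_instance

theorem inertia_isHomLift_iff {F : 𝒳 ⥤ᵇ 𝒴} {a b : FibCat.InertiaObj F} {R S : C} (f : R ⟶ S)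
    (φ : a ⟶ b) : (FibCat.inertia F).p.IsHomLift f φ ↔ 𝒳.p.IsHomLift f φ.hom :=
  (BasedFunctor.isHomLift_iff (FibCat.inertiaToBase F) f φ).symm

theorem inertia_isStronglyCartesian {F : 𝒳 ⥤ᵇ 𝒴} {a b : FibCat.InertiaObj F} {R S : C} (f : R ⟶ S)
    (φ : a ⟶ b) [h : 𝒳.p.IsStronglyCartesian f φ.hom] :
    (FibCat.inertia F).p.IsStronglyCartesian f φ := by
  have : (FibCat.inertia F).p.IsHomLift f φ := (inertia_isHomLift_iff f φ).2 inferInstance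
  refine { universal_property' := fun {c} g ψ hψ => ?_ }
  have := (inertia_isHomLift_iff _ ψ).1 hψ
  obtain ⟨z, ⟨hz, hz'⟩, hu⟩ :=
    IsStronglyCartesian.universal_property 𝒳.p f φ.hom g (g ≫ f) rfl ψ.hom
  have ha : 𝒳.p.obj a.pt = R := IsHomLift.domain_eq 𝒳.p f φ.hom
  have : 𝒳.p.IsHomLift (𝟙 R) a.aut.hom := ha ▸ inertia_aut_isHomLift a
  have : 𝒳.p.IsHomLift (𝟙 ((FibCat.inertia F).p.obj c)) c.aut.hom := inertia_aut_isHomLift c
  have comm : c.aut.hom ≫ z = z ≫ a.aut.hom := by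
    refine IsStronglyCartesian.ext 𝒳.p f φ.hom g ?_
    rw [Category.assoc, hz', Category.assoc, φ.comm, ← Category.assoc, hz']
    exact ψ.comm
  refine ⟨⟨z, comm⟩, ⟨(inertia_isHomLift_iff _ _).2 hz, FibCat.InertiaObj.hom_ext hz'⟩, ?_⟩
  rintro w ⟨hw, hw'⟩
  exact FibCat.InertiaObj.hom_ext (hu _ ⟨(inertia_isHomLift_iff _ _).1 hw,
    congrArg FibCat.InertiaObj.Hom.hom hw'⟩)

theorem inertia_exists_lift (F : 𝒳 ⥤ᵇ 𝒴) [𝒳.p.IsFibered]
    (hF : FibCat.PreservesStronglyCartesian F) (x : FibCat.InertiaObj F) {R : C}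
    (f : R ⟶ 𝒳.p.obj x.pt) :
    ∃ (y : FibCat.InertiaObj F) (φ : y ⟶ x), (FibCat.inertia F).p.IsStronglyCartesian f φ := by
  obtain ⟨y, φ, hφ⟩ := IsPreFibered.exists_isCartesian 𝒳.p (a := x.pt) rfl f
  have := inertia_aut_isHomLift x
  have hFφ := hF f φ inferInstance
  have h₁ : 𝒳.p.IsHomLift f (φ ≫ x.aut.hom) := inferInstance
  have : 𝒳.p.IsCartesian f (φ ≫ x.aut.hom) := inferInstance
  let β : y ≅ y := IsCartesian.domainUniqueUpToIso 𝒳.p f φ (φ ≫ x.aut.hom)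
  have hβ : β.hom ≫ φ = φ ≫ x.aut.hom := IsCartesian.fac 𝒳.p f φ _
  have hy : 𝒳.p.obj y = R := IsHomLift.domain_eq 𝒳.p f φ
  have haut : F.map β.hom = 𝟙 (F.obj y) := by
    have : 𝒴.p.IsHomLift (𝟙 R) (F.map β.hom) := BasedFunctor.preserves_isHomLift F _ _
    have : 𝒴.p.IsHomLift (𝟙 R) (𝟙 (F.obj y)) := IsHomLift.id ((F.w_obj y).trans hy)
    refine IsStronglyCartesian.ext 𝒴.p f (F.map φ) (𝟙 R) ?_
    rw [← Functor.map_comp, hβ, Functor.map_comp, x.map_aut, Category.comp_id, Category.id_comp]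
  exact ⟨⟨y, β, haut⟩, ⟨φ, hβ⟩, inertia_isStronglyCartesian f _
    (h := (inferInstance : 𝒳.p.IsStronglyCartesian f φ))⟩

theorem isFibered_inertia (F : 𝒳 ⥤ᵇ 𝒴) [𝒳.p.IsFibered]
    (hF : FibCat.PreservesStronglyCartesian F) : (FibCat.inertia F).p.IsFibered :=
  IsFibered.of_exists_isStronglyCartesian fun a _ f => inertia_exists_lift F hF a f

theorem isFibGrpd_inertia (F : 𝒳 ⥤ᵇ 𝒴) (h𝒳 : FibCat.IsFibGrpd 𝒳.p)
    (hF : FibCat.PreservesStronglyCartesian F) : FibCat.IsFibGrpd (FibCat.inertia F).p where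
  exists_lift := fun {x} {V} f => by
    have := isFibered_of_isFibGrpd _ h𝒳
    obtain ⟨y, φ, hφ⟩ := inertia_exists_lift F hF x f
    exact ⟨y, φ, inferInstance⟩
  isStronglyCartesian := fun {y x} φ => by
    have : 𝒳.p.IsStronglyCartesian ((FibCat.inertia F).p.map φ) φ.hom :=
      h𝒳.isStronglyCartesian φ.hom
    exact inertia_isStronglyCartesian _ φ

theorem faithful_p_of_isEquivOver_inertiaToBase (h𝒳 : FibCat.IsFibGrpd 𝒳.p)
    (h : FibCat.IsEquivOver (FibCat.inertiaToBase (FibCat.toSelf 𝒳))) : 𝒳.p.Faithful where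
  map_injective {a b} φ ψ e := by
    have := h𝒳.isStronglyCartesian φ
    have := h𝒳.isStronglyCartesian ψ
    have : 𝒳.p.IsHomLift (𝒳.p.map φ) ψ := e ▸ inferInstance
    have := isStronglyCartesian_of_isFibGrpd _ h𝒳 (𝒳.p.map φ) ψ
    let α : a ≅ a := IsCartesian.domainUniqueUpToIso 𝒳.p (𝒳.p.map φ) φ ψ
    have : 𝒳.p.IsHomLift (𝟙 (𝒳.p.obj a)) α.hom := inferInstance
    have hα : (FibCat.toSelf 𝒳).map α.hom = 𝟙 _ :=
      (IsHomLift.eq_of_isHomLift 𝒳.p (𝟙 (𝒳.p.obj a)) α.hom).symm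
    have := full_of_isEquivOver h
    obtain ⟨m, hm⟩ := (FibCat.inertiaToBase (FibCat.toSelf 𝒳)).toFunctor.map_surjective
      (X := (⟨a, α, hα⟩ : FibCat.InertiaObj (FibCat.toSelf 𝒳)))
      (Y := (⟨a, Iso.refl a, (FibCat.toSelf 𝒳).map_id a⟩ : FibCat.InertiaObj (FibCat.toSelf 𝒳))) (𝟙 a)
    have hm' : m.hom = 𝟙 a := hm
    have hc : α.hom ≫ m.hom = m.hom ≫ 𝟙 a := m.comm
    rw [hm', Category.comp_id, Category.comp_id] at hc
    have hf : α.hom ≫ φ = ψ := IsCartesian.fac 𝒳.p (𝒳.p.map φ) φ ψ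
    rw [hc, Category.id_comp] at hf
    exact hf

end Based

end Groth.Agent.Fib
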