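import Groth.Agent.Fib.Setoid
import Groth.Agent.Fib.Rep

/-!
# Diagonals, graphs, products
-/

set_option autoImplicit false
set_option backward.isDefEq.respectTransparency false
set_option backward.isDefEq.respectTransparency.types false

open CategoryTheory CategoryTheory.Functor CategoryTheory.Limits

universe v₆ u₆ v₅ u₅ v₄ u₄ v₃ u₃ v₂ u₂ v u

namespace Groth.Agent.Fib

variable {C : Type u} [Category.{v} C] {𝒳 : BasedCategory.{v₂, u₂} C}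
  {𝒴 : BasedCategory.{v₃, u₃} C} {𝒵 : BasedCategory.{v₄, u₄} C}

theorem diag_iso_hom (F : 𝒳 ⥤ᵇ 𝒴) (x : 𝒳.obj) :
    ((FibCat.diag F).obj x).obj.iso.hom = 𝟙 (F.obj x) := rfl

theorem isEquivOver_diag (G : 𝒳 ⥤ᵇ 𝒴) [G.toFunctor.Full] [G.toFunctor.Faithful] :
    FibCat.IsEquivOver (FibCat.diag G) := by
  have hfaith : (FibCat.diag G).toFunctor.Faithful := ⟨fun {a b} φ ψ h =>
    congrArg (fun t => t.hom.fst) h⟩
  have hfull : (FibCat.diag G).toFunctor.Full := ⟨fun {a b} φ => by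
    have hw : G.map φ.hom.fst ≫ 𝟙 _ = 𝟙 _ ≫ G.map φ.hom.snd := φ.hom.w
    rw [Category.comp_id, Category.id_comp] at hw
    exact ⟨φ.hom.fst, fp_hom_ext rfl (G.toFunctor.map_injective hw)⟩⟩
  refine isEquivOver_of_exists_iso_over _ fun η => ⟨η.obj.fst,
    fpIsoMk (Iso.refl _) (G.toFunctor.preimageIso η.obj.iso) ?_,
    fp_iso_isHomLift_id _ (IsHomLift.id rfl)⟩
  change G.map (𝟙 _) ≫ η.obj.iso.hom = 𝟙 _ ≫ G.map (G.toFunctor.preimage η.obj.iso.hom)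
  simp

theorem full_faithful_of_isEquivOver_diag (G : 𝒳 ⥤ᵇ 𝒴) (h𝒳 : FibCat.IsFibGrpd 𝒳.p)
    (h𝒴 : FibCat.IsFibGrpd 𝒴.p) (h : FibCat.IsEquivOver (FibCat.diag G)) :
    G.toFunctor.Full ∧ G.toFunctor.Faithful := by
  have := full_of_isEquivOver h
  refine ⟨?_, ⟨fun {a b} φ ψ e => ?_⟩⟩
  · have := isFibered_of_isFibGrpd _ h𝒳
    refine full_of_fiber G (preservesStronglyCartesian G h𝒴) fun U => ⟨fun {a b} φ => ?_⟩
    have : 𝒴.p.IsHomLift (𝟙 U) φ.1 := φ.2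
    have : IsIso φ.1 := isIso_of_isHomLift _ h𝒴 (𝟙 U) φ.1
    let η : (FibCat.fp G G).obj := fpMk a.1 b.1 (asIso φ.1) (by rw [a.2]; exact φ.2)
    obtain ⟨ξ, e, he⟩ := exists_iso_over_of_isEquivOver h η
    have h₁ : 𝒳.p.IsHomLift (𝟙 U) e.hom.hom.fst := by
      rw [← a.2]; exact (fp_isHomLift_iff _ _).1 he
    have h₂ : 𝒳.p.IsHomLift (𝟙 U) e.hom.hom.snd := by
      rw [← a.2]; exact fp_isHomLift_snd (h := he) _ _
    have h₃ : IsIso e.hom.hom.fst := isIso_of_isHomLift _ h𝒳 (𝟙 U) e.hom.hom.fst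
    refine ⟨⟨inv e.hom.hom.fst ≫ e.hom.hom.snd, inferInstance⟩, Subtype.ext ?_⟩
    have hw : G.map e.hom.hom.fst ≫ φ.1 = 𝟙 _ ≫ G.map e.hom.hom.snd := e.hom.hom.w
    rw [Category.id_comp] at hw
    change G.map (inv e.hom.hom.fst ≫ e.hom.hom.snd) = φ.1
    rw [Functor.map_comp, ← hw, ← Category.assoc, ← Functor.map_comp, IsIso.inv_hom_id,
      Functor.map_id]
    exact Category.id_comp _
  · let m : (FibCat.diag G).obj a ⟶ (FibCat.diag G).obj b :=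
      fpHomMk φ ψ (by
        rw [diag_iso_hom, diag_iso_hom]
        exact (Category.comp_id _).trans (e.trans (Category.id_comp _).symm))
    obtain ⟨χ, hχ⟩ := (FibCat.diag G).toFunctor.map_surjective m
    exact (congrArg (fun t => t.hom.fst) hχ).symm.trans (congrArg (fun t => t.hom.snd) hχ)

/-- The comparison of the relative inertia with the product of two diagonals. -/
noncomputable def inertiaDiagIso (F : 𝒳 ⥤ᵇ 𝒴) :
    BasedFunctor.comp (FibCat.inertiaToBase F) (FibCat.diag F) ≅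
      BasedFunctor.comp (FibCat.inertiaToBase F) (FibCat.diag F) :=
    isoMk (fun x => fpIsoMk x.aut (Iso.refl _) (by
        change F.map x.aut.hom ≫ 𝟙 _ = 𝟙 _ ≫ F.map (𝟙 _)
        rw [x.map_aut, Functor.map_id]))
      (fun {a b} φ => fp_hom_ext φ.comm.symm
        ((Category.comp_id _).trans (Category.id_comp _).symm))
      (fun x => fp_iso_isHomLift_id _ (inertia_aut_isHomLift x))

theorem isEquivOver_inertiaDiag (F : 𝒳 ⥤ᵇ 𝒴) :
    FibCat.IsEquivOver (FibCat.fpLift (FibCat.inertiaToBase F) (FibCat.inertiaToBase F)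
      (inertiaDiagIso F)) := by
  let e := inertiaDiagIso F
  let E := FibCat.fpLift (FibCat.inertiaToBase F) (FibCat.inertiaToBase F) e
  have hfaith : E.toFunctor.Faithful := ⟨fun {a b} φ ψ h =>
    FibCat.InertiaObj.hom_ext (congrArg (fun t => t.hom.fst) h)⟩
  have hfull : E.toFunctor.Full := ⟨fun {a b} φ => by
    have h₁ : φ.hom.fst ≫ b.aut.hom = a.aut.hom ≫ φ.hom.snd :=
      congrArg (fun t => t.hom.fst) φ.hom.w
    have h₂ : φ.hom.fst ≫ 𝟙 _ = 𝟙 _ ≫ φ.hom.snd := congrArg (fun t => t.hom.snd) φ.hom.w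
    have h₃ : φ.hom.fst = φ.hom.snd :=
      ((Category.comp_id _).symm.trans h₂).trans (Category.id_comp _)
    exact ⟨⟨φ.hom.fst, (h₁.trans (by rw [h₃])).symm⟩, fp_hom_ext rfl h₃⟩⟩
  refine isEquivOver_of_exists_iso_over _ fun η => ?_
  let x := η.obj.fst
  let y := η.obj.snd
  let a : x ≅ y := (FibCat.fpFst F F).toFunctor.mapIso η.obj.iso
  let b : x ≅ y := (FibCat.fpSnd F F).toFunctor.mapIso η.obj.iso
  have hab : F.map a.hom = F.map b.hom := by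
    have h : F.map a.hom ≫ 𝟙 _ = 𝟙 _ ≫ F.map b.hom := η.obj.iso.hom.hom.w
    exact ((Category.comp_id _).symm.trans h).trans (Category.id_comp _)
  let ξ : FibCat.InertiaObj F := ⟨x, a ≪≫ b.symm, by
    rw [Iso.trans_hom, Functor.map_comp, hab, ← Functor.map_comp]
    simp⟩
  refine ⟨ξ, fpIsoMk (Iso.refl x) b ?_, fp_iso_isHomLift_id _ (IsHomLift.id rfl)⟩
  refine fp_hom_ext ?_ ?_
  · change 𝟙 x ≫ a.hom = (a.hom ≫ b.inv) ≫ b.hom
    simp
  · change 𝟙 x ≫ b.hom = 𝟙 x ≫ b.hom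
    rfl

/-- The relative inertia as a fibre product of two diagonals. -/
theorem inertia_equivOver_fp_diag (F : 𝒳 ⥤ᵇ 𝒴) :
    ∃ E : FibCat.inertia F ⥤ᵇ FibCat.fp (FibCat.diag F) (FibCat.diag F),
      FibCat.IsEquivOver E ∧ BasedFunctor.comp E (FibCat.fpFst _ _) = FibCat.inertiaToBase F ∧
        BasedFunctor.comp E (FibCat.fpSnd _ _) = FibCat.inertiaToBase F :=
  ⟨_, isEquivOver_inertiaDiag F, rfl, rfl⟩

/-- The neutral section is the diagonal of the diagonal. -/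
noncomputable def inertiaNeutralDiagIso (F : 𝒳 ⥤ᵇ 𝒴) :
    BasedFunctor.comp (FibCat.inertiaNeutral F)
      (FibCat.fpLift (FibCat.inertiaToBase F) (FibCat.inertiaToBase F) (inertiaDiagIso F)) ≅
      FibCat.diag (FibCat.diag F) :=
  isoMk (fun x => fpIsoMk (Iso.refl x) (Iso.refl x) (fp_hom_ext rfl rfl))
    (fun φ => fp_hom_ext ((Category.comp_id _).trans (Category.id_comp _).symm)
      ((Category.comp_id _).trans (Category.id_comp _).symm))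
    (fun x => fp_iso_isHomLift_id _ (IsHomLift.id rfl))

theorem isFibGrpd_fpSnd_id (h𝒳 : FibCat.IsFibGrpd 𝒳.p) (h𝒴 : FibCat.IsFibGrpd 𝒴.p)
    (F : 𝒳 ⥤ᵇ 𝒴) : FibCat.IsFibGrpd (FibCat.fpSnd F (BasedFunctor.id 𝒴)).toFunctor := by
  refine isFibGrpd_toFunctor _ (isFibGrpd_fp _ _ h𝒳 h𝒴 h𝒴) h𝒴 fun {a} {y'} f => ?_
  have hb : 𝒴.p.obj a.obj.snd = 𝒳.p.obj a.obj.fst := fp_snd_obj a
  change y' ⟶ a.obj.snd at f
  let q : 𝒴.p.obj y' ⟶ 𝒳.p.obj a.obj.fst := 𝒴.p.map f ≫ eqToHom hb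
  have hf : 𝒴.p.IsHomLift q f := inferInstance
  obtain ⟨x', φ, hφ⟩ := h𝒳.exists_lift q
  have hx' : 𝒳.p.obj x' = 𝒴.p.obj y' := IsHomLift.domain_eq 𝒳.p q φ
  have : 𝒴.p.IsHomLift (𝟙 (𝒳.p.obj a.obj.fst)) a.obj.iso.hom := a.property
  have : 𝒴.p.IsHomLift q (F.map φ ≫ a.obj.iso.hom) :=
    IsHomLift.comp_lift_id_right 𝒴.p q (F.map φ) a.obj.iso.hom
  have := isStronglyCartesian_of_isFibGrpd _ h𝒴 q (F.map φ ≫ a.obj.iso.hom)
  have := isStronglyCartesian_of_isFibGrpd _ h𝒴 q f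
  let α : F.obj x' ≅ y' :=
    IsCartesian.domainUniqueUpToIso 𝒴.p q f (F.map φ ≫ a.obj.iso.hom)
  refine ⟨fpMk x' y' α (by rw [hx']; infer_instance), fpHomMk φ f
    (IsCartesian.fac 𝒴.p q f _).symm, ?_⟩
  exact IsHomLift.map (FibCat.fpSnd F (BasedFunctor.id 𝒴)).toFunctor (fpHomMk (F := F)
    (G := BasedFunctor.id 𝒴) (a := fpMk x' y' α (by rw [hx']; infer_instance)) φ f
    (IsCartesian.fac 𝒴.p q f _).symm)

/-- The graph of `f` relative to `g`. -/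
def graph (f : 𝒳 ⥤ᵇ 𝒴) (g : 𝒴 ⥤ᵇ 𝒵) : 𝒳 ⥤ᵇ FibCat.fp g (BasedFunctor.comp f g) :=
  FibCat.fpLift f (BasedFunctor.id 𝒳) (Iso.refl _)

theorem exists_twoCart_graph (f : 𝒳 ⥤ᵇ 𝒴) (g : 𝒴 ⥤ᵇ 𝒵) :
    ∃ (m : FibCat.fp g (BasedFunctor.comp f g) ⥤ᵇ FibCat.fp g g)
      (e : BasedFunctor.comp (graph f g) m ≅ BasedFunctor.comp f (FibCat.diag g)),
      FibCat.IsTwoCartOver (graph f g) f e := by
  let m : FibCat.fp g (BasedFunctor.comp f g) ⥤ᵇ FibCat.fp g g :=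
    fpMap (BasedFunctor.id 𝒴) f (BasedFunctor.id 𝒵) (F' := g) (G' := BasedFunctor.comp f g)
      (F := g) (G := g) (Iso.refl _) (Iso.refl _)
  let e : BasedFunctor.comp (graph f g) m ≅ BasedFunctor.comp f (FibCat.diag g) :=
    isoMk (fun x => fpIsoMk (Iso.refl _) (Iso.refl _) (by
        change g.map (𝟙 _) ≫ 𝟙 _ = (𝟙 _ ≫ 𝟙 _ ≫ 𝟙 _) ≫ g.map (𝟙 _)
        simp))
      (fun {a b} φ => fp_hom_ext ((Category.comp_id _).trans (Category.id_comp _).symm)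
        ((Category.comp_id _).trans (Category.id_comp _).symm))
      (fun x => fp_iso_isHomLift_id _ (IsHomLift.id (f.w_obj x)))
  refine ⟨m, e, ?_⟩
  let E := FibCat.fpLift (graph f g) f e
  have hfaith : E.toFunctor.Faithful := ⟨fun {a b} φ ψ h => by
    exact congrArg (fun t => t.hom.fst.hom.snd) h⟩
  have hfull : E.toFunctor.Full := ⟨fun {a b} φ => by
    have h₁ : φ.hom.fst.hom.fst ≫ 𝟙 _ = 𝟙 _ ≫ φ.hom.snd :=
      congrArg (fun t => t.hom.fst) φ.hom.w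
    have h₂ : f.map φ.hom.fst.hom.snd ≫ 𝟙 _ = 𝟙 _ ≫ φ.hom.snd :=
      congrArg (fun t => t.hom.snd) φ.hom.w
    have h₁' : φ.hom.fst.hom.fst = φ.hom.snd :=
      ((Category.comp_id _).symm.trans h₁).trans (Category.id_comp _)
    have h₂' : f.map φ.hom.fst.hom.snd = φ.hom.snd :=
      ((Category.comp_id _).symm.trans h₂).trans (Category.id_comp _)
    exact ⟨φ.hom.fst.hom.snd, fp_hom_ext (fp_hom_ext (h₂'.trans h₁'.symm) rfl) h₂'⟩⟩
  refine isEquivOver_of_exists_iso_over E fun η => ?_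
  let p := η.obj.fst
  let y := η.obj.snd
  let ι₁ : p.obj.fst ≅ y := (FibCat.fpFst g g).toFunctor.mapIso η.obj.iso
  let ι₂ : f.obj p.obj.snd ≅ y := (FibCat.fpSnd g g).toFunctor.mapIso η.obj.iso
  have hι : g.map ι₁.hom ≫ 𝟙 _ = (𝟙 _ ≫ p.obj.iso.hom ≫ 𝟙 _) ≫ g.map ι₂.hom :=
    η.obj.iso.hom.hom.w
  have hp : 𝒳.p.obj p.obj.snd = 𝒴.p.obj p.obj.fst := fp_snd_obj p
  have hι₁ : 𝒴.p.IsHomLift (𝟙 (𝒴.p.obj p.obj.fst)) ι₁.hom :=
    (fp_isHomLift_iff _ _).1 η.property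
  have hι₂ : 𝒴.p.IsHomLift (𝟙 (𝒴.p.obj p.obj.fst)) ι₂.hom :=
    fp_isHomLift_snd (h := η.property) _ _
  let i : f.obj p.obj.snd ≅ p.obj.fst := ι₂ ≪≫ ι₁.symm
  have hi : 𝒴.p.IsHomLift (𝟙 (𝒴.p.obj p.obj.fst)) i.hom := by
    simp only [i, Iso.trans_hom, Iso.symm_hom]; infer_instance
  have hgi : g.map i.hom ≫ p.obj.iso.hom = 𝟙 _ := by
    rw [← cancel_mono (g.map ι₂.hom)]
    have hι' : g.map ι₁.hom = p.obj.iso.hom ≫ g.map ι₂.hom := by
      simpa using hι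
    rw [Category.assoc, ← hι', ← Functor.map_comp]
    simp [i]
  refine ⟨p.obj.snd, fpIsoMk (fpIsoMk i (Iso.refl _) ?_) ι₂ ?_, ?_⟩
  · change g.map i.hom ≫ p.obj.iso.hom = 𝟙 _ ≫ g.map (f.map (𝟙 _))
    rw [hgi, Functor.map_id, Functor.map_id]
    exact (Category.id_comp _).symm
  · refine fp_hom_ext ?_ ?_
    · change i.hom ≫ ι₁.hom = 𝟙 _ ≫ ι₂.hom
      simp [i]
    · change f.map (𝟙 _) ≫ ι₂.hom = 𝟙 _ ≫ ι₂.hom
      rw [Functor.map_id]
  · refine fp_iso_isHomLift_id _ ((fp_isHomLift_iff _ _).2 ?_)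
    exact hi

theorem isRepresentable1_graph (f : 𝒳 ⥤ᵇ 𝒴) (g : 𝒴 ⥤ᵇ 𝒵)
    (h : FibCat.IsRepresentable1 (FibCat.diag g)) : FibCat.IsRepresentable1 (graph f g) := by
  obtain ⟨m, e, he⟩ := exists_twoCart_graph f g
  exact isRepresentable1_of_twoCart (graph f g) m (FibCat.diag g) f e he h

theorem isRepresentable1_of_comp (f : 𝒳 ⥤ᵇ 𝒴) (g : 𝒴 ⥤ᵇ 𝒵)
    (hgf : FibCat.IsRepresentable1 (BasedFunctor.comp f g))
    (hΔ : FibCat.IsRepresentable1 (FibCat.diag g)) : FibCat.IsRepresentable1 f :=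
  isRepresentable1_comp (graph f g) (FibCat.fpFst g (BasedFunctor.comp f g))
    (isRepresentable1_graph f g hΔ) (isRepresentable1_fpFst _ g hgf)

end Groth.Agent.Fib
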