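import Groth.Agent.Fib.FpPaste
import Groth.Agent.Fib.Diag

/-!
# 2-cartesian squares with a diagonal
-/

set_option autoImplicit false
set_option backward.isDefEq.respectTransparency false
set_option backward.isDefEq.respectTransparency.types false

open CategoryTheory CategoryTheory.Functor CategoryTheory.Limits

universe v₆ u₆ v₅ u₅ v₄ u₄ v₃ u₃ v₂ u₂ v u

namespace Groth.Agent.Fib

variable {C : Type u} [Category.{v} C] {𝒳 : BasedCategory.{v₂, u₂} C}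
  {𝒴 : BasedCategory.{v₃, u₃} C} {𝒵 : BasedCategory.{v₄, u₄} C} {𝒯 : BasedCategory.{v₅, u₅} C}

theorem isHomLift_trans_symm {X : Type u₂} [Category.{v₂} X] (p : X ⥤ C) {U : C} {a b c : X}
    (i : a ≅ c) (j : b ≅ c) (hi : p.IsHomLift (𝟙 U) i.hom) (hj : p.IsHomLift (𝟙 U) j.hom) :
    p.IsHomLift (𝟙 U) (i ≪≫ j.symm).hom := by
  rw [Iso.trans_hom, Iso.symm_hom]; infer_instance

/-- The map on self-products of a base change. -/
def diagBCMap (f : 𝒳 ⥤ᵇ 𝒵) (g : 𝒴 ⥤ᵇ 𝒵) :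
    FibCat.fp (FibCat.fpFst g f) (FibCat.fpFst g f) ⥤ᵇ FibCat.fp f f :=
  fpMap (FibCat.fpSnd g f) (FibCat.fpSnd g f) g (F' := FibCat.fpFst g f)
    (G' := FibCat.fpFst g f) (F := f) (G := f) (FibCat.fpIso g f) (FibCat.fpIso g f)

theorem diagBCMap_iso_hom (f : 𝒳 ⥤ᵇ 𝒵) (g : 𝒴 ⥤ᵇ 𝒵)
    (P : (FibCat.fp (FibCat.fpFst g f) (FibCat.fpFst g f)).obj) :
    ((diagBCMap f g).obj P).obj.iso.hom =
      P.obj.fst.obj.iso.inv ≫ g.map P.obj.iso.hom ≫ P.obj.snd.obj.iso.hom := rfl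

/-- The diagonal of a base change is a base change of the diagonal. -/
theorem exists_twoCart_diag_fpFst (f : 𝒳 ⥤ᵇ 𝒵) (g : 𝒴 ⥤ᵇ 𝒵) :
    ∃ (e : BasedFunctor.comp (FibCat.diag (FibCat.fpFst g f)) (diagBCMap f g) ≅
        BasedFunctor.comp (FibCat.fpSnd g f) (FibCat.diag f)),
      FibCat.IsTwoCartOver (FibCat.diag (FibCat.fpFst g f)) (FibCat.fpSnd g f) e := by
  let m := diagBCMap f g
  have hm := diagBCMap_iso_hom f g
  let e : BasedFunctor.comp (FibCat.diag (FibCat.fpFst g f)) m ≅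
      BasedFunctor.comp (FibCat.fpSnd g f) (FibCat.diag f) :=
    isoMk (fun x => fpIsoMk (Iso.refl x.obj.snd) (Iso.refl x.obj.snd) (by
        change f.map (𝟙 _) ≫ 𝟙 _ =
          (x.obj.iso.inv ≫ g.map (𝟙 _) ≫ x.obj.iso.hom) ≫ f.map (𝟙 _)
        simp))
      (fun φ => fp_hom_ext ((Category.comp_id _).trans (Category.id_comp _).symm)
        ((Category.comp_id _).trans (Category.id_comp _).symm))
      (fun x => fp_iso_isHomLift_id _ (IsHomLift.id (fp_snd_obj x)))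
  refine ⟨e, ?_⟩
  let E := FibCat.fpLift (FibCat.diag (FibCat.fpFst g f)) (FibCat.fpSnd g f) e
  have hfaith : E.toFunctor.Faithful := ⟨fun {a b} φ ψ h =>
    congrArg (fun t => t.hom.fst.hom.fst) h⟩
  have hfull : E.toFunctor.Full := ⟨fun {a b} φ => by
    have h₁ : φ.hom.fst.hom.fst.hom.snd = φ.hom.snd :=
      ((Category.comp_id _).symm.trans (congrArg (fun t => t.hom.fst) φ.hom.w)).trans
        (Category.id_comp _)
    have h₂ : φ.hom.fst.hom.snd.hom.snd = φ.hom.snd :=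
      ((Category.comp_id _).symm.trans (congrArg (fun t => t.hom.snd) φ.hom.w)).trans
        (Category.id_comp _)
    have h₀ : φ.hom.fst.hom.fst.hom.fst = φ.hom.fst.hom.snd.hom.fst :=
      ((Category.comp_id _).symm.trans φ.hom.fst.hom.w).trans (Category.id_comp _)
    exact ⟨φ.hom.fst.hom.fst, fp_hom_ext (fp_hom_ext rfl (fp_hom_ext h₀ (h₁.trans h₂.symm))) h₁⟩⟩
  refine isEquivOver_of_exists_iso_over E fun η => ?_
  let P := η.obj.fst
  let j₁ : P.obj.fst.obj.snd ≅ η.obj.snd := (FibCat.fpFst f f).toFunctor.mapIso η.obj.iso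
  let j₂ : P.obj.snd.obj.snd ≅ η.obj.snd := (FibCat.fpSnd f f).toFunctor.mapIso η.obj.iso
  have hw : f.map j₁.hom ≫ 𝟙 _ = (m.obj P).obj.iso.hom ≫ f.map j₂.hom := η.obj.iso.hom.hom.w
  rw [hm] at hw
  let k : P.obj.fst ≅ P.obj.snd := fpIsoMk P.obj.iso (j₁ ≪≫ j₂.symm) (by
    rw [Iso.trans_hom, Iso.symm_hom, Functor.map_comp, ← cancel_mono (f.map j₂.hom)]
    simp only [Category.assoc, ← Functor.map_comp, Iso.inv_hom_id, Category.comp_id]
    rw [Category.comp_id, Category.assoc, Category.assoc] at hw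
    rw [hw]
    simp)
  refine ⟨P.obj.fst, fpIsoMk (fpIsoMk (Iso.refl _) k ?_) j₁ ?_,
    fp_iso_isHomLift_id _ (fp_iso_isHomLift_id _ (IsHomLift.id rfl))⟩
  · change (𝟙 P.obj.fst : P.obj.fst ⟶ P.obj.fst).hom.fst ≫ P.obj.iso.hom = 𝟙 _ ≫ P.obj.iso.hom
    rfl
  · refine fp_hom_ext ?_ ?_
    · change 𝟙 _ ≫ j₁.hom = 𝟙 _ ≫ j₁.hom
      rfl
    · change (j₁.hom ≫ j₂.inv) ≫ j₂.hom = 𝟙 _ ≫ j₁.hom
      simp

/-- The comparison of 2-fibre products over two bases is a base change of the diagonal. -/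
theorem exists_twoCart_fpComparison (f : 𝒳 ⥤ᵇ 𝒵) (g : 𝒴 ⥤ᵇ 𝒵) (t : 𝒵 ⥤ᵇ 𝒯)
    (e : BasedFunctor.comp (FibCat.fpFst f g) (BasedFunctor.comp f t) ≅
      BasedFunctor.comp (FibCat.fpSnd f g) (BasedFunctor.comp g t))
    (he : ∀ x, e.hom.toNatTrans.app x = t.map x.obj.iso.hom) :
    ∃ (m : FibCat.fp (BasedFunctor.comp f t) (BasedFunctor.comp g t) ⥤ᵇ FibCat.fp t t)
      (e' : BasedFunctor.comp (FibCat.fpLift (FibCat.fpFst f g) (FibCat.fpSnd f g) e) m ≅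
        BasedFunctor.comp (BasedFunctor.comp (FibCat.fpFst f g) f) (FibCat.diag t)),
      FibCat.IsTwoCartOver (FibCat.fpLift (FibCat.fpFst f g) (FibCat.fpSnd f g) e)
        (BasedFunctor.comp (FibCat.fpFst f g) f) e' := by
  let i := FibCat.fpLift (FibCat.fpFst f g) (FibCat.fpSnd f g) e
  let m : FibCat.fp (BasedFunctor.comp f t) (BasedFunctor.comp g t) ⥤ᵇ FibCat.fp t t :=
    fpMap f g (BasedFunctor.id 𝒯) (F' := BasedFunctor.comp f t) (G' := BasedFunctor.comp g t)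
      (F := t) (G := t) (Iso.refl _) (Iso.refl _)
  have hm : ∀ P, (m.obj P).obj.iso.hom = P.obj.iso.hom := fun P => by
    change 𝟙 _ ≫ P.obj.iso.hom ≫ 𝟙 _ = _
    exact (Category.id_comp _).trans (Category.comp_id _)
  have hi : ∀ x, (m.obj (i.obj x)).obj.iso.hom = t.map x.obj.iso.hom := fun x =>
    (hm _).trans (he x)
  let e' : BasedFunctor.comp i m ≅
      BasedFunctor.comp (BasedFunctor.comp (FibCat.fpFst f g) f) (FibCat.diag t) :=
    isoMk (fun x => fpIsoMk (Iso.refl (f.obj x.obj.fst)) x.obj.iso.symm (by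
        change t.map (𝟙 _) ≫ 𝟙 _ = (m.obj (i.obj x)).obj.iso.hom ≫ t.map x.obj.iso.inv
        rw [hi, ← Functor.map_comp, Iso.hom_inv_id, Category.comp_id]
        rfl))
      (fun {a b} φ => fp_hom_ext ((Category.comp_id _).trans (Category.id_comp _).symm) (by
        change g.map φ.hom.snd ≫ b.obj.iso.inv = a.obj.iso.inv ≫ f.map φ.hom.fst
        rw [Iso.comp_inv_eq, Category.assoc, φ.hom.w, Iso.inv_hom_id_assoc]))
      (fun x => fp_iso_isHomLift_id _ (IsHomLift.id (f.w_obj _)))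
  refine ⟨m, e', ?_⟩
  let E := FibCat.fpLift i (BasedFunctor.comp (FibCat.fpFst f g) f) e'
  have hfaith : E.toFunctor.Faithful := ⟨fun {a b} φ ψ h =>
    fp_hom_ext (congrArg (fun t => t.hom.fst.hom.fst) h) (congrArg (fun t => t.hom.fst.hom.snd) h)⟩
  have hfull : E.toFunctor.Full := ⟨fun {a b} φ => by
    have h₁ : f.map φ.hom.fst.hom.fst = φ.hom.snd :=
      ((Category.comp_id _).symm.trans (congrArg (fun t => t.hom.fst) φ.hom.w)).trans
        (Category.id_comp _)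
    have h₂ : g.map φ.hom.fst.hom.snd ≫ b.obj.iso.inv = a.obj.iso.inv ≫ φ.hom.snd :=
      congrArg (fun t => t.hom.snd) φ.hom.w
    refine ⟨fpHomMk φ.hom.fst.hom.fst φ.hom.fst.hom.snd ?_, fp_hom_ext (fp_hom_ext rfl rfl) h₁⟩
    rw [← h₁, Iso.comp_inv_eq, Category.assoc] at h₂
    rw [h₂, Iso.hom_inv_id_assoc]⟩
  refine isEquivOver_of_exists_iso_over E fun η => ?_
  let P := η.obj.fst
  let j₁ : f.obj P.obj.fst ≅ η.obj.snd := (FibCat.fpFst t t).toFunctor.mapIso η.obj.iso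
  let j₂ : g.obj P.obj.snd ≅ η.obj.snd := (FibCat.fpSnd t t).toFunctor.mapIso η.obj.iso
  have hw : t.map j₁.hom ≫ 𝟙 _ = (m.obj P).obj.iso.hom ≫ t.map j₂.hom := η.obj.iso.hom.hom.w
  rw [hm, Category.comp_id] at hw
  have hj₁ : 𝒵.p.IsHomLift (𝟙 (𝒳.p.obj P.obj.fst)) j₁.hom := (fp_isHomLift_iff _ _).1 η.property
  have hj₂ : 𝒵.p.IsHomLift (𝟙 (𝒳.p.obj P.obj.fst)) j₂.hom :=
    fp_isHomLift_snd (h := η.property) _ _
  let ξ : (FibCat.fp f g).obj :=
    fpMk P.obj.fst P.obj.snd (j₁ ≪≫ j₂.symm) (isHomLift_trans_symm _ _ _ hj₁ hj₂)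
  refine ⟨ξ, fpIsoMk (fpIsoMk (Iso.refl _) (Iso.refl _) ?_) j₁ ?_,
    fp_iso_isHomLift_id _ (fp_iso_isHomLift_id _ (IsHomLift.id rfl))⟩
  · change t.map (f.map (𝟙 _)) ≫ P.obj.iso.hom = e.hom.toNatTrans.app ξ ≫ t.map (g.map (𝟙 _))
    rw [he, Functor.map_id, Functor.map_id, Functor.map_id, Functor.map_id]
    refine (Category.id_comp _).trans (Eq.trans ?_ (Category.comp_id _).symm)
    change P.obj.iso.hom = t.map (j₁.hom ≫ j₂.inv)
    rw [← cancel_mono (t.map j₂.hom), ← Functor.map_comp, Category.assoc, Iso.inv_hom_id]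
    exact hw.symm.trans (congrArg t.map (Category.comp_id _).symm)
  · refine fp_hom_ext ?_ ?_
    · change f.map (𝟙 _) ≫ j₁.hom = 𝟙 _ ≫ j₁.hom
      rw [Functor.map_id]
    · change g.map (𝟙 _) ≫ j₂.hom = (j₂.hom ≫ j₁.inv) ≫ j₁.hom
      simp

/-- The graph of a morphism over a base is a base change of the diagonal of the target. -/
theorem exists_twoCart_graphOver (p : 𝒳 ⥤ᵇ 𝒯) (q : 𝒴 ⥤ᵇ 𝒯) (g : 𝒳 ⥤ᵇ 𝒴)
    (e : BasedFunctor.comp (BasedFunctor.id 𝒳) p ≅ BasedFunctor.comp g q) :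
    ∃ (m : FibCat.fp p q ⥤ᵇ FibCat.fp q q)
      (e' : BasedFunctor.comp (FibCat.fpLift (BasedFunctor.id 𝒳) g e) m ≅
        BasedFunctor.comp g (FibCat.diag q)),
      FibCat.IsTwoCartOver (FibCat.fpLift (BasedFunctor.id 𝒳) g e) g e' := by
  let Γ := FibCat.fpLift (BasedFunctor.id 𝒳) g e
  let m : FibCat.fp p q ⥤ᵇ FibCat.fp q q :=
    fpMap g (BasedFunctor.id 𝒴) (BasedFunctor.id 𝒯) (F' := p) (G' := q) (F := q) (G := q)
      e (Iso.refl _)
  have hm : ∀ P, (m.obj P).obj.iso.hom = (appIso e P.obj.fst).inv ≫ P.obj.iso.hom := fun P => by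
    change _ ≫ P.obj.iso.hom ≫ 𝟙 _ = _
    exact congrArg _ (Category.comp_id _)
  have hΓ : ∀ x, (m.obj (Γ.obj x)).obj.iso.hom = 𝟙 (q.obj (g.obj x)) := fun x =>
    (hm _).trans (appIso e x).inv_hom_id
  let e' : BasedFunctor.comp Γ m ≅ BasedFunctor.comp g (FibCat.diag q) :=
    isoMk (fun x => fpIsoMk (Iso.refl (g.obj x)) (Iso.refl (g.obj x)) (by
        change q.map (𝟙 _) ≫ 𝟙 _ = (m.obj (Γ.obj x)).obj.iso.hom ≫ q.map (𝟙 _)
        rw [hΓ]
        exact (Category.comp_id _).trans (Category.id_comp _).symm))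
      (fun φ => fp_hom_ext ((Category.comp_id _).trans (Category.id_comp _).symm)
        ((Category.comp_id _).trans (Category.id_comp _).symm))
      (fun x => fp_iso_isHomLift_id _ (IsHomLift.id (g.w_obj _)))
  refine ⟨m, e', ?_⟩
  let E := FibCat.fpLift Γ g e'
  have hfaith : E.toFunctor.Faithful := ⟨fun {a b} φ ψ h =>
    congrArg (fun t => t.hom.fst.hom.fst) h⟩
  have hfull : E.toFunctor.Full := ⟨fun {a b} φ => by
    have h₁ : g.map φ.hom.fst.hom.fst = φ.hom.snd :=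
      ((Category.comp_id _).symm.trans (congrArg (fun t => t.hom.fst) φ.hom.w)).trans
        (Category.id_comp _)
    have h₂ : φ.hom.fst.hom.snd = φ.hom.snd :=
      ((Category.comp_id _).symm.trans (congrArg (fun t => t.hom.snd) φ.hom.w)).trans
        (Category.id_comp _)
    exact ⟨φ.hom.fst.hom.fst, fp_hom_ext (fp_hom_ext rfl (h₁.trans h₂.symm)) h₁⟩⟩
  refine isEquivOver_of_exists_iso_over E fun η => ?_
  let P := η.obj.fst
  let j₁ : g.obj P.obj.fst ≅ η.obj.snd := (FibCat.fpFst q q).toFunctor.mapIso η.obj.iso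
  let j₂ : P.obj.snd ≅ η.obj.snd := (FibCat.fpSnd q q).toFunctor.mapIso η.obj.iso
  have hw : q.map j₁.hom ≫ 𝟙 _ = (m.obj P).obj.iso.hom ≫ q.map j₂.hom := η.obj.iso.hom.hom.w
  rw [hm, Category.comp_id] at hw
  refine ⟨P.obj.fst, fpIsoMk (fpIsoMk (Iso.refl _) (j₁ ≪≫ j₂.symm) ?_) j₁ ?_,
    fp_iso_isHomLift_id _ (fp_iso_isHomLift_id _ (IsHomLift.id rfl))⟩
  · change p.map (𝟙 _) ≫ P.obj.iso.hom =
      (appIso e P.obj.fst).hom ≫ q.map (j₁.hom ≫ j₂.inv)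
    rw [Functor.map_id, Functor.map_comp, hw, Category.assoc, Category.assoc,
      Iso.hom_inv_id_assoc, ← Functor.map_comp, Iso.hom_inv_id, Functor.map_id]
    exact (Category.id_comp _).trans (Category.comp_id _).symm
  · refine fp_hom_ext ?_ ?_
    · change g.map (𝟙 _) ≫ j₁.hom = 𝟙 _ ≫ j₁.hom
      rw [Functor.map_id]
    · change (j₁.hom ≫ j₂.inv) ≫ j₂.hom = 𝟙 _ ≫ j₁.hom
      simp

end Groth.Agent.Fib
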