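import Groth.Agent.Fib.Setoid
import Groth.Agent.Fib.Rep

/-!
# Miscellaneous statements on categories over a base
-/

set_option autoImplicit false
set_option backward.isDefEq.respectTransparency false
set_option backward.isDefEq.respectTransparency.types false

open CategoryTheory CategoryTheory.Functor CategoryTheory.Limits

universe v₄ u₄ v₃ u₃ v₂ u₂ v u

namespace Groth.Agent.Fib

variable {C : Type u} [Category.{v} C] {𝒳 : BasedCategory.{v₂, u₂} C}
  {𝒴 : BasedCategory.{v₃, u₃} C}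

/-- An equivalence over the base preserves and reflects cartesian morphisms. -/
theorem isCartesian_map_iff (F : 𝒳 ⥤ᵇ 𝒴) (hF : FibCat.IsEquivOver F) {R S : C} {a b : 𝒳.obj}
    (f : R ⟶ S) (φ : a ⟶ b) : 𝒴.p.IsCartesian f (F.map φ) ↔ 𝒳.p.IsCartesian f φ := by
  have := full_of_isEquivOver hF
  have := faithful_of_isEquivOver hF
  constructor
  · intro h
    have : 𝒳.p.IsHomLift f φ := BasedFunctor.isHomLift_map F f φ
    refine { universal_property := fun {a'} φ' _ => ?_ }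
    refine ⟨F.toFunctor.preimage (IsCartesian.map 𝒴.p f (F.map φ) (F.map φ')), ⟨?_, ?_⟩, ?_⟩
    · rw [← BasedFunctor.isHomLift_iff F, Functor.map_preimage]
      infer_instance
    · apply F.toFunctor.map_injective
      simp
    · rintro w ⟨hw, hw'⟩
      apply F.toFunctor.map_injective
      rw [Functor.map_preimage]
      exact IsCartesian.map_uniq 𝒴.p f (F.map φ) (F.map φ') _ (by rw [← Functor.map_comp, hw'])
  · intro h
    refine { universal_property := fun {η} ψ _ => ?_ }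
    obtain ⟨ξ, e, he⟩ := exists_iso_over_of_isEquivOver hF η
    have hR : 𝒴.p.obj η = R := IsHomLift.domain_eq 𝒴.p f ψ
    rw [hR] at he
    have h₁ : 𝒳.p.IsHomLift f (F.toFunctor.preimage (e.hom ≫ ψ)) := by
      rw [← BasedFunctor.isHomLift_iff F, Functor.map_preimage]
      infer_instance
    let z := IsCartesian.map 𝒳.p f φ (F.toFunctor.preimage (e.hom ≫ ψ))
    refine ⟨e.inv ≫ F.map z, ⟨inferInstance, ?_⟩, ?_⟩
    · rw [Category.assoc, ← Functor.map_comp, IsCartesian.fac, Functor.map_preimage,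
        Iso.inv_hom_id_assoc]
    · rintro w ⟨hw, hw'⟩
      have : 𝒳.p.IsHomLift (𝟙 R) (F.toFunctor.preimage (e.hom ≫ w)) := by
        rw [← BasedFunctor.isHomLift_iff F, Functor.map_preimage]
        infer_instance
      have hz : F.toFunctor.preimage (e.hom ≫ w) = z := by
        refine IsCartesian.map_uniq 𝒳.p f φ _ _ ?_
        apply F.toFunctor.map_injective
        simp [hw']
      rw [← hz, Functor.map_preimage, Iso.inv_hom_id_assoc]

theorem isFibGrpd_pullback_snd {X : Type u₂} [Category.{v₂} X] {Y : Type u₃} [Category.{v₃} Y]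
    (πX : X ⥤ C) (πY : Y ⥤ C) (hX : FibCat.IsFibGrpd πX) (hY : FibCat.IsFibGrpd πY)
    (F : Y ⥤ X) (hF : F ⋙ πX = πY) :
    FibCat.IsFibGrpd (CategoricalPullback.π₂ F (𝟭 X)) := by
  subst hF
  refine ⟨fun {a} {x'} f => ?_, fun {b a} φ => { universal_property' := fun {c} g ψ hψ => ?_ }⟩
  · change x' ⟶ a.snd at f
    let k : x' ⟶ F.obj a.fst := f ≫ a.iso.inv
    obtain ⟨y', φ, hφ⟩ := hY.exists_lift (x := a.fst) (πX.map k)
    have := (isHomLift_comp_iff F πX (πX.map k) φ).1 hφ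
    have := isStronglyCartesian_of_isFibGrpd πX hX (πX.map k) (F.map φ)
    have := isStronglyCartesian_of_isFibGrpd πX hX (πX.map k) k
    let α : F.obj y' ≅ x' := IsCartesian.domainUniqueUpToIso πX (πX.map k) k (F.map φ)
    have hα : α.hom ≫ k = F.map φ := IsCartesian.fac πX (πX.map k) k (F.map φ)
    let φ₀ : ({ fst := y', snd := x', iso := α } : CategoricalPullback F (𝟭 X)) ⟶ a :=
      { fst := φ, snd := f, w := by
          change F.map φ ≫ a.iso.hom = α.hom ≫ f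
          rw [← hα]
          simp [k] }
    exact ⟨_, φ₀, IsHomLift.map (CategoricalPullback.π₂ F (𝟭 X)) φ₀⟩
  · have hg : g ≫ φ.snd = ψ.snd :=
      IsHomLift.eq_of_isHomLift (CategoricalPullback.π₂ F (𝟭 X))
        (g ≫ (CategoricalPullback.π₂ F (𝟭 X)).map φ) ψ
    change c.snd ⟶ b.snd at g
    let k : F.obj c.fst ⟶ F.obj b.fst := c.iso.hom ≫ g ≫ b.iso.inv
    have hk : k ≫ F.map φ.fst = F.map ψ.fst := by
      rw [← cancel_mono a.iso.hom, Category.assoc, φ.w, ψ.w]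
      simp [k, hg]
    have := hY.isStronglyCartesian φ.fst
    obtain ⟨χ, ⟨hχ, hχ'⟩, hu⟩ := IsStronglyCartesian.universal_property (F ⋙ πX)
      ((F ⋙ πX).map φ.fst) φ.fst (πX.map k) ((F ⋙ πX).map ψ.fst)
      (by simp [← hk]) ψ.fst
    have hFχ : F.map χ = k := by
      have := (isHomLift_comp_iff F πX _ χ).1 hχ
      have := hX.isStronglyCartesian (F.map φ.fst)
      refine IsStronglyCartesian.ext πX (πX.map (F.map φ.fst)) (F.map φ.fst) (πX.map k) ?_
      rw [← Functor.map_comp, hχ', hk]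
    have hw₀ : F.map χ ≫ b.iso.hom = c.iso.hom ≫ (𝟭 X).map g := by
      change F.map χ ≫ b.iso.hom = c.iso.hom ≫ g
      rw [hFχ]
      simp [k]
    let χ₀ : c ⟶ b := ⟨χ, g, hw₀⟩
    refine ⟨χ₀, ⟨IsHomLift.map (CategoricalPullback.π₂ F (𝟭 X)) χ₀,
      CategoricalPullback.hom_ext hχ' hg⟩, ?_⟩
    rintro w ⟨hw, hw'⟩
    have hws : w.snd = g :=
      (IsHomLift.eq_of_isHomLift (CategoricalPullback.π₂ F (𝟭 X)) g w).symm
    refine CategoricalPullback.hom_ext (hu w.fst ⟨?_, congrArg (fun t => t.fst) hw'⟩) hws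
    refine (isHomLift_comp_iff F πX _ _).2 ?_
    have hwk : F.map w.fst = k := by
      rw [← cancel_mono b.iso.hom, w.w, hws]
      simp [k]
    rw [hwk]
    infer_instance

theorem isFibered_pullback_fst {D : Type u₂} [Category.{v₂} D] (u : C ⥤ D)
    (𝒮 : BasedCategory.{v₄, u₄} D) [𝒮.p.IsFibered] :
    (CategoricalPullback.π₁ u 𝒮.p).IsFibered := by
  refine IsFibered.of_exists_isStronglyCartesian fun a V f => ?_
  change V ⟶ a.fst at f
  obtain ⟨y', l, hl⟩ := IsPreFibered.exists_isCartesian 𝒮.p rfl (u.map f ≫ a.iso.hom)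
  have hy : 𝒮.p.obj y' = u.obj V := IsHomLift.domain_eq 𝒮.p (u.map f ≫ a.iso.hom) l
  have hls : 𝒮.p.IsStronglyCartesian (u.map f ≫ a.iso.hom) l := inferInstance
  let b : CategoricalPullback u 𝒮.p := { fst := V, snd := y', iso := eqToIso hy.symm }
  have hw₀ : u.map f ≫ a.iso.hom = b.iso.hom ≫ 𝒮.p.map l := by
    change u.map f ≫ a.iso.hom = eqToHom hy.symm ≫ 𝒮.p.map l
    rw [IsHomLift.fac' 𝒮.p (u.map f ≫ a.iso.hom) l]
    simp
  let φ : b ⟶ a := ⟨f, l, hw₀⟩
  refine ⟨b, φ, { toIsHomLift := IsHomLift.map (CategoricalPullback.π₁ u 𝒮.p) φ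
                  universal_property' := fun {c} g ψ hψ => ?_ }⟩
  have hg : g ≫ f = ψ.fst :=
    @IsHomLift.eq_of_isHomLift _ _ _ _ (CategoricalPullback.π₁ u 𝒮.p) _ _ (g ≫ f) ψ hψ
  have hf : 𝒮.p.map ψ.snd = (c.iso.inv ≫ u.map g) ≫ u.map f ≫ a.iso.hom := by
    rw [← cancel_epi c.iso.hom, ← ψ.w, ← hg]
    simp
  obtain ⟨χ, ⟨hχ, hχ'⟩, hu⟩ := IsStronglyCartesian.universal_property 𝒮.p
    (u.map f ≫ a.iso.hom) l (c.iso.inv ≫ u.map g) (𝒮.p.map ψ.snd) hf ψ.snd
  have hw₁ : u.map g ≫ b.iso.hom = c.iso.hom ≫ 𝒮.p.map χ := by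
    change u.map g ≫ eqToHom hy.symm = c.iso.hom ≫ 𝒮.p.map χ
    rw [IsHomLift.fac' 𝒮.p (c.iso.inv ≫ u.map g) χ]
    simp
  let χ₀ : c ⟶ b := ⟨g, χ, hw₁⟩
  refine ⟨χ₀, ⟨IsHomLift.map (CategoricalPullback.π₁ u 𝒮.p) χ₀,
    CategoricalPullback.hom_ext hg hχ'⟩, ?_⟩
  rintro w ⟨hw, hw'⟩
  have hwf : w.fst = g :=
    (@IsHomLift.eq_of_isHomLift _ _ _ _ (CategoricalPullback.π₁ u 𝒮.p) c b g w hw).symm
  refine CategoricalPullback.hom_ext hwf (hu _ ⟨?_, congrArg (fun t => t.snd) hw'⟩)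
  have e : u.map w.fst ≫ eqToHom hy.symm = c.iso.hom ≫ 𝒮.p.map w.snd := w.w
  refine IsHomLift.of_fac 𝒮.p _ _ rfl hy ?_
  rw [← cancel_epi c.iso.hom, ← hwf, eqToHom_refl, Category.id_comp,
    ← Category.assoc c.iso.hom (𝒮.p.map w.snd), ← e]
  simp

theorem isFibGrpd_cartSubProj {X : Type u₂} [Category.{v₂} X] (p : X ⥤ C) [p.IsFibered] :
    FibCat.IsFibGrpd (FibCat.cartSubProj p) where
  exists_lift := fun {x} {V} f => by
    obtain ⟨y, φ, hφ⟩ := IsPreFibered.exists_isCartesian p rfl f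
    have hy : p.obj y = V := IsHomLift.domain_eq p f φ
    have hs : p.IsStronglyCartesian f φ := inferInstance
    have hφ' : p.IsStronglyCartesian (p.map φ) φ := by
      obtain rfl := hy
      obtain rfl := IsHomLift.eq_of_isHomLift p f φ
      exact hs
    refine ⟨⟨y⟩, ⟨φ, hφ'⟩, ?_⟩
    refine IsHomLift.of_fac _ _ _ hy rfl ?_
    exact IsHomLift.fac p f φ
  isStronglyCartesian := fun {y x} φ =>
    { universal_property' := fun {a'} g φ' hφ' => by
        have : p.IsStronglyCartesian (p.map φ.1) φ.1 := φ.2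
        have : p.IsStronglyCartesian (p.map φ'.1) φ'.1 := φ'.2
        have hg : g ≫ p.map φ.1 = p.map φ'.1 :=
          IsHomLift.eq_of_isHomLift (FibCat.cartSubProj p)
            (g ≫ (FibCat.cartSubProj p).map φ) φ'
        have : p.IsHomLift (g ≫ p.map φ.1) φ'.1 := hg ▸ inferInstance
        obtain ⟨χ, ⟨hχ, hχ'⟩, hu⟩ :=
          IsStronglyCartesian.universal_property p (p.map φ.1) φ.1 g _ rfl φ'.1
        have hpχ : p.map χ = g := (IsHomLift.eq_of_isHomLift p g χ).symm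
        have : p.IsStronglyCartesian (p.map χ ≫ p.map φ.1) (χ ≫ φ.1) := by
          rw [hpχ, hg, hχ']; infer_instance
        have hs : p.IsStronglyCartesian (p.map χ) χ :=
          IsStronglyCartesian.of_comp p (ψ := φ.1) (g := p.map φ.1)
        refine ⟨⟨χ, hs⟩, ⟨?_, InducedWideCategory.Hom.ext hχ'⟩, ?_⟩
        · refine IsHomLift.of_fac _ _ _ rfl rfl ?_
          simp [hpχ]
        · rintro w ⟨hw, hw'⟩
          refine InducedWideCategory.Hom.ext (hu _ ⟨?_, congrArg (fun t => t.hom) hw'⟩)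
          have e : g = p.map w.1 := IsHomLift.eq_of_isHomLift (FibCat.cartSubProj p) g w
          exact e ▸ inferInstance }

/-- Between categories fibred in sets the only 2-morphisms are identities. -/
theorem eq_eqToHom_of_isFibSet (h𝒴 : FibCat.IsFibSet 𝒴.p) {F G : 𝒳 ⥤ᵇ 𝒴} (α : F ⟶ G) :
    ∃ h : F = G, α = eqToHom h := by
  have key : ∀ a, ∃ e : F.obj a = G.obj a, α.toNatTrans.app a = eqToHom e := by
    intro a
    have := h𝒴.2 (𝒳.p.obj a)
    let φ : Fiber.mk (F.w_obj a) ⟶ Fiber.mk (G.w_obj a) :=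
      ⟨α.toNatTrans.app a, BasedNatTrans.isHomLift α rfl⟩
    have e := IsDiscrete.eq_of_hom φ
    refine ⟨congrArg Subtype.val e, ?_⟩
    have h₁ : φ = eqToHom e := Subsingleton.elim _ _
    exact (congrArg Fiber.fiberInclusion.map h₁).trans (eqToHom_map _ _)
  choose e he using key
  have hF : F.toFunctor = G.toFunctor := Functor.ext e fun a b φ => by
    have := α.toNatTrans.naturality φ
    rw [he, he] at this
    rw [← Category.assoc, ← this]
    simp
  obtain ⟨F₀, hF₀⟩ := F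
  obtain ⟨G₀, hG₀⟩ := G
  cases hF
  refine ⟨rfl, hom_ext' fun a => ?_⟩
  rw [he]
  rfl

theorem unique_iso_of_fiberwise (h𝒴 : FibCat.IsFibSetoid 𝒴.p) (f g : 𝒳 ⥤ᵇ 𝒴)
    (hfg : ∀ (U : C) (x : 𝒳.p.Fiber U),
      Nonempty ((FibCat.fiberFunctor f U).obj x ≅ (FibCat.fiberFunctor g U).obj x)) :
    Nonempty (Unique (f ≅ g)) := by
  have := faithful_of_isFibSetoid _ h𝒴
  have hc : ∀ a, ∃ e : f.obj a ≅ g.obj a, 𝒴.p.IsHomLift (𝟙 (𝒳.p.obj a)) e.hom := fun a => by
    obtain ⟨e⟩ := hfg (𝒳.p.obj a) (Fiber.mk rfl)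
    exact ⟨Fiber.fiberInclusion.mapIso e, e.hom.2⟩
  choose e he using hc
  refine ⟨⟨⟨isoMk e (fun {a b} φ => 𝒴.p.map_injective ?_) he⟩, fun i => Iso.ext (hom_ext' fun a => ?_)⟩⟩
  · have := he a
    have := he b
    rw [IsHomLift.fac' 𝒴.p (𝒳.p.map φ) (f.map φ ≫ (e b).hom),
      IsHomLift.fac' 𝒴.p (𝒳.p.map φ) ((e a).hom ≫ g.map φ)]
  · have := he a
    have h₁ : 𝒴.p.IsHomLift (𝟙 (𝒳.p.obj a)) (i.hom.toNatTrans.app a) :=
      BasedNatTrans.isHomLift i.hom rfl
    refine 𝒴.p.map_injective ?_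
    change 𝒴.p.map (i.hom.toNatTrans.app a) = 𝒴.p.map (e a).hom
    rw [IsHomLift.fac' 𝒴.p (𝟙 (𝒳.p.obj a)) (e a).hom,
      IsHomLift.fac' 𝒴.p (𝟙 (𝒳.p.obj a)) (i.hom.toNatTrans.app a)]

theorem overHom_comp {X Y Z : C} (G : FibCat.overCat X ⥤ᵇ FibCat.overCat Y)
    (H : FibCat.overCat Y ⥤ᵇ FibCat.overCat Z) :
    overHom (BasedFunctor.comp G H) = overHom G ≫ overHom H := by
  change eqToHom _ ≫ (H.obj (G.obj (Over.mk (𝟙 X)))).hom = _
  rw [overCat_obj_hom H]
  erw [eqToHom_trans_assoc]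
  exact (Category.assoc _ _ _).symm

theorem overHom_id (X : C) : overHom (BasedFunctor.id (FibCat.overCat X)) = 𝟙 X :=
  Category.id_comp _

theorem overHom_iso {X Y : C} {G H : FibCat.overCat X ⥤ᵇ FibCat.overCat Y} (i : G ≅ H) :
    overHom G = overHom H := by
  have h : (FibCat.overCat Y).p.IsHomLift (𝟙 X) (appIso i (Over.mk (𝟙 X))).hom :=
    BasedNatTrans.isHomLift i.hom rfl
  obtain ⟨e, he⟩ := over_isHomLift_id_left (U := X) (appIso i (Over.mk (𝟙 X))).hom
  have w := Over.w (appIso i (Over.mk (𝟙 X))).hom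
  rw [he] at w
  rw [overHom, overHom, ← w, eqToHom_trans_assoc]

/-- A functor between slices is composition with a morphism, up to a 2-isomorphism. -/
def isoOverMap {X Y : C} (G : FibCat.overCat X ⥤ᵇ FibCat.overCat Y) :
    (⟨Over.map (overHom G), Over.mapForget_eq (overHom G)⟩ :
      FibCat.overCat X ⥤ᵇ FibCat.overCat Y) ≅ G :=
  isoMk (fun a => Over.isoMk (eqToIso (G.w_obj a).symm) (by
      change eqToHom (G.w_obj a).symm ≫ (G.obj a).hom = (a : Over X).hom ≫ overHom G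
      rw [overCat_obj_hom G, eqToHom_trans_assoc]
      simp))
    (fun {a b} φ => by
      apply Over.OverMorphism.ext
      have h := w_map G φ
      change (G.map φ).left = _ at h
      change (φ : (a : Over X) ⟶ b).left ≫ eqToHom (G.w_obj b).symm =
        eqToHom (G.w_obj a).symm ≫ (G.map φ).left
      rw [h]
      change _ = eqToHom _ ≫ eqToHom _ ≫ (φ : (a : Over X) ⟶ b).left ≫ eqToHom _
      simp)
    (fun a => over_isHomLift_of_left _ rfl (G.w_obj a).symm rfl)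

theorem exists_iso_overMap_comp {X X' : C} {𝒮 : BasedCategory.{v₄, u₄} C}
    (j : 𝒮 ⥤ᵇ FibCat.overCat X) (j' : 𝒮 ⥤ᵇ FibCat.overCat X') (hj : FibCat.IsEquivOver j)
    (hj' : FibCat.IsEquivOver j') :
    ∃ e : X' ≅ X, Nonempty (BasedFunctor.comp j' (⟨Over.map e.hom, Over.mapForget_eq e.hom⟩ :
      FibCat.overCat X' ⥤ᵇ FibCat.overCat X) ≅ j) := by
  obtain ⟨k, -, ⟨a⟩, ⟨b⟩⟩ := exists_quasiInverse hj
  obtain ⟨k', -, ⟨a'⟩, ⟨b'⟩⟩ := exists_quasiInverse hj'
  let G := BasedFunctor.comp k' j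
  let H := BasedFunctor.comp k j'
  have iGH : BasedFunctor.comp G H ≅ BasedFunctor.id _ :=
    isoWhiskerLeft k' (isoWhiskerRight a j') ≪≫ b'
  have iHG : BasedFunctor.comp H G ≅ BasedFunctor.id _ :=
    isoWhiskerLeft k (isoWhiskerRight a' j) ≪≫ b
  refine ⟨⟨overHom G, overHom H, by rw [← overHom_comp, overHom_iso iGH, overHom_id],
    by rw [← overHom_comp, overHom_iso iHG, overHom_id]⟩,
    ⟨isoWhiskerLeft j' (isoOverMap G) ≪≫ ?_⟩⟩
  exact isoWhiskerRight a' j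

end Groth.Agent.Fib
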