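import Groth.Agent.Fib.FpMap

/-!
# Symmetry, associativity and pasting of 2-fibre products
-/

set_option autoImplicit false
set_option backward.isDefEq.respectTransparency false
set_option backward.isDefEq.respectTransparency.types false

open CategoryTheory CategoryTheory.Functor CategoryTheory.Limits

universe v₆ u₆ v₅ u₅ v₄ u₄ v₃ u₃ v₂ u₂ v u

namespace Groth.Agent.Fib

variable {C : Type u} [Category.{v} C] {𝒳 : BasedCategory.{v₂, u₂} C}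
  {𝒴 : BasedCategory.{v₃, u₃} C} {𝒮 : BasedCategory.{v₄, u₄} C}
  {𝒵 : BasedCategory.{v₅, u₅} C}

section Swap

variable (F : 𝒳 ⥤ᵇ 𝒮) (G : 𝒴 ⥤ᵇ 𝒮)

/-- Exchanging the factors of a 2-fibre product. -/
def fpSwap : FibCat.fp F G ⥤ᵇ FibCat.fp G F :=
  FibCat.fpLift (FibCat.fpSnd F G) (FibCat.fpFst F G) (FibCat.fpIso F G).symm

theorem isEquivOver_fpSwap : FibCat.IsEquivOver (fpSwap F G) := by
  refine ⟨fpSwap G F, ⟨isoMk (fun x => fpIsoMk (Iso.refl _) (Iso.refl _) ?_) (fun φ => ?_)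
      (fun x => fp_iso_isHomLift_id _ (IsHomLift.id rfl))⟩,
    ⟨isoMk (fun x => fpIsoMk (Iso.refl _) (Iso.refl _) ?_) (fun φ => ?_)
      (fun x => fp_iso_isHomLift_id _ (IsHomLift.id rfl))⟩⟩
  · simp [fpSwap, FibCat.fpLift, BasedFunctor.comp, BasedFunctor.id, FibCat.fpIso, FibCat.fpFst,
      FibCat.fpSnd, BasedNatIso.mkNatIso]
  · exact fp_hom_ext ((Category.comp_id _).trans (Category.id_comp _).symm)
      ((Category.comp_id _).trans (Category.id_comp _).symm)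
  · simp [fpSwap, FibCat.fpLift, BasedFunctor.comp, BasedFunctor.id, FibCat.fpIso, FibCat.fpFst,
      FibCat.fpSnd, BasedNatIso.mkNatIso]
  · exact fp_hom_ext ((Category.comp_id _).trans (Category.id_comp _).symm)
      ((Category.comp_id _).trans (Category.id_comp _).symm)

end Swap

section Assoc

variable {𝒲 : BasedCategory.{v₆, u₆} C} (y : 𝒲 ⥤ᵇ 𝒵) (g : 𝒴 ⥤ᵇ 𝒵) (f : 𝒳 ⥤ᵇ 𝒴)

/-- `(𝒲 ×_𝒵 𝒴) ×_𝒴 𝒳 ⟶ 𝒲 ×_𝒵 𝒳`. -/
def fpAssoc : FibCat.fp (FibCat.fpSnd y g) f ⥤ᵇ FibCat.fp y (BasedFunctor.comp f g) :=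
  FibCat.fpLift (BasedFunctor.comp (FibCat.fpFst _ f) (FibCat.fpFst y g)) (FibCat.fpSnd _ f)
    (isoWhiskerLeft (FibCat.fpFst _ f) (FibCat.fpIso y g) ≪≫
      isoWhiskerRight (FibCat.fpIso (FibCat.fpSnd y g) f) g)

theorem fpAssoc_fpFst : BasedFunctor.comp (fpAssoc y g f) (FibCat.fpFst y (BasedFunctor.comp f g)) =
    BasedFunctor.comp (FibCat.fpFst _ f) (FibCat.fpFst y g) := rfl

theorem fpAssoc_fpSnd : BasedFunctor.comp (fpAssoc y g f) (FibCat.fpSnd y (BasedFunctor.comp f g)) =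
    FibCat.fpSnd _ f := rfl

theorem fpAssoc_iso_hom (x : (FibCat.fp (FibCat.fpSnd y g) f).obj) :
    ((fpAssoc y g f).obj x).obj.iso.hom = x.obj.fst.obj.iso.hom ≫ g.map x.obj.iso.hom := rfl

theorem isEquivOver_fpAssoc : FibCat.IsEquivOver (fpAssoc y g f) := by
  have hfaith : (fpAssoc y g f).toFunctor.Faithful := ⟨fun {a b} φ ψ h => by
    have h₁ : φ.hom.fst.hom.fst = ψ.hom.fst.hom.fst := congrArg (fun t => t.hom.fst) h
    have h₂ : φ.hom.snd = ψ.hom.snd := congrArg (fun t => t.hom.snd) h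
    refine fp_hom_ext (fp_hom_ext h₁ ?_) h₂
    refine (cancel_mono b.obj.iso.hom).1 ?_
    exact φ.hom.w.trans (h₂ ▸ ψ.hom.w.symm)⟩
  have hfull : (fpAssoc y g f).toFunctor.Full := ⟨fun {a b} φ => by
    obtain ⟨φ₁, φ₂, hw, rfl⟩ : ∃ (φ₁ : a.obj.fst.obj.fst ⟶ b.obj.fst.obj.fst)
        (φ₂ : a.obj.snd ⟶ b.obj.snd)
        (w : y.map φ₁ ≫ b.obj.fst.obj.iso.hom ≫ g.map b.obj.iso.hom =
          (a.obj.fst.obj.iso.hom ≫ g.map a.obj.iso.hom) ≫ g.map (f.map φ₂)),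
        φ = fpHomMk (a := (fpAssoc y g f).obj a) (b := (fpAssoc y g f).obj b) φ₁ φ₂ w :=
      ⟨φ.hom.fst, φ.hom.snd, φ.hom.w, fp_hom_ext rfl rfl⟩
    let m : a.obj.fst.obj.snd ⟶ b.obj.fst.obj.snd :=
      a.obj.iso.hom ≫ f.map φ₂ ≫ b.obj.iso.inv
    have hm : y.map φ₁ ≫ b.obj.fst.obj.iso.hom = a.obj.fst.obj.iso.hom ≫ g.map m := by
      rw [← cancel_mono (g.map b.obj.iso.hom)]
      refine (Category.assoc _ _ _).trans (hw.trans ?_)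
      simp only [Category.assoc, m, ← Functor.map_comp]
      congr 2
      simp [FibCat.fpSnd, Functor.comp_obj]
    refine ⟨fpHomMk (fpHomMk φ₁ m hm) φ₂ ?_, fp_hom_ext rfl rfl⟩
    change m ≫ b.obj.iso.hom = a.obj.iso.hom ≫ f.map φ₂
    simp [m]⟩
  refine isEquivOver_of_exists_iso_over _ fun η => ?_
  let w : (FibCat.fp y g).obj := fpMk η.obj.fst (f.obj η.obj.snd) η.obj.iso η.property
  have hv : 𝒴.p.IsHomLift (𝟙 ((FibCat.fp y g).p.obj w)) (𝟙 (f.obj η.obj.snd)) :=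
    IsHomLift.id ((f.w_obj _).trans (fp_snd_obj η))
  refine ⟨fpMk w η.obj.snd (Iso.refl (f.obj η.obj.snd)) hv,
    fpIsoMk (Iso.refl _) (Iso.refl _) ?_, fp_iso_isHomLift_id _ (IsHomLift.id rfl)⟩
  rw [fpAssoc_iso_hom]
  simp [fpMk, w, fpAssoc, FibCat.fpLift, BasedFunctor.comp, FibCat.fpFst, FibCat.fpSnd]

end Assoc

section BaseChange

variable {𝒲 : BasedCategory.{v₆, u₆} C} (y : 𝒲 ⥤ᵇ 𝒵) (g : 𝒵 ⥤ᵇ 𝒮) (f : 𝒳 ⥤ᵇ 𝒮)

/-- `𝒲 ×_𝒵 (𝒵 ×_𝒮 𝒳) ⟶ 𝒲 ×_𝒮 𝒳`. -/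
def fpBC : FibCat.fp y (FibCat.fpFst g f) ⥤ᵇ FibCat.fp (BasedFunctor.comp y g) f :=
  FibCat.fpLift (FibCat.fpFst y _) (BasedFunctor.comp (FibCat.fpSnd y _) (FibCat.fpSnd g f))
    (isoWhiskerRight (FibCat.fpIso y (FibCat.fpFst g f)) g ≪≫
      isoWhiskerLeft (FibCat.fpSnd y _) (FibCat.fpIso g f))

theorem fpBC_fpFst : BasedFunctor.comp (fpBC y g f) (FibCat.fpFst _ f) =
    FibCat.fpFst y (FibCat.fpFst g f) := rfl

theorem fpBC_fpSnd : BasedFunctor.comp (fpBC y g f) (FibCat.fpSnd _ f) =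
    BasedFunctor.comp (FibCat.fpSnd y _) (FibCat.fpSnd g f) := rfl

theorem fpBC_iso_hom (x : (FibCat.fp y (FibCat.fpFst g f)).obj) :
    ((fpBC y g f).obj x).obj.iso.hom = g.map x.obj.iso.hom ≫ x.obj.snd.obj.iso.hom := rfl

theorem isEquivOver_fpBC : FibCat.IsEquivOver (fpBC y g f) := by
  have hfaith : (fpBC y g f).toFunctor.Faithful := ⟨fun {a b} φ ψ h => by
    have h₁ : φ.hom.fst = ψ.hom.fst := congrArg (fun t => t.hom.fst) h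
    have h₂ : φ.hom.snd.hom.snd = ψ.hom.snd.hom.snd := congrArg (fun t => t.hom.snd) h
    refine fp_hom_ext h₁ (fp_hom_ext ?_ h₂)
    refine (cancel_epi a.obj.iso.hom).1 ?_
    exact φ.hom.w.symm.trans (h₁ ▸ ψ.hom.w)⟩
  have hfull : (fpBC y g f).toFunctor.Full := ⟨fun {a b} φ => by
    obtain ⟨φ₁, φ₂, hw, rfl⟩ : ∃ (φ₁ : a.obj.fst ⟶ b.obj.fst)
        (φ₂ : a.obj.snd.obj.snd ⟶ b.obj.snd.obj.snd)
        (w : g.map (y.map φ₁) ≫ g.map b.obj.iso.hom ≫ b.obj.snd.obj.iso.hom =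
          (g.map a.obj.iso.hom ≫ a.obj.snd.obj.iso.hom) ≫ f.map φ₂),
        φ = fpHomMk (a := (fpBC y g f).obj a) (b := (fpBC y g f).obj b) φ₁ φ₂ w :=
      ⟨φ.hom.fst, φ.hom.snd, φ.hom.w, fp_hom_ext rfl rfl⟩
    let m : a.obj.snd.obj.fst ⟶ b.obj.snd.obj.fst :=
      a.obj.iso.inv ≫ y.map φ₁ ≫ b.obj.iso.hom
    have hm : g.map m ≫ b.obj.snd.obj.iso.hom = a.obj.snd.obj.iso.hom ≫ f.map φ₂ := by
      rw [← cancel_epi (g.map a.obj.iso.hom)]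
      refine Eq.trans ?_ (hw.trans (Category.assoc _ _ _))
      rw [← Category.assoc, ← Functor.map_comp, ← Category.assoc (g.map (y.map φ₁)),
        ← Functor.map_comp]
      congr 2
      simp [m]
    refine ⟨fpHomMk φ₁ (fpHomMk m φ₂ hm) ?_, fp_hom_ext rfl rfl⟩
    change y.map φ₁ ≫ b.obj.iso.hom = a.obj.iso.hom ≫ m
    simp [m]⟩
  refine isEquivOver_of_exists_iso_over _ fun η => ?_
  have hw : 𝒵.p.obj (y.obj η.obj.fst) = 𝒲.p.obj η.obj.fst := y.w_obj _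
  have hp : 𝒮.p.IsHomLift (𝟙 (𝒵.p.obj (y.obj η.obj.fst))) η.obj.iso.hom := hw ▸ η.property
  let w : (FibCat.fp g f).obj := fpMk (y.obj η.obj.fst) η.obj.snd η.obj.iso hp
  refine ⟨fpMk η.obj.fst w (Iso.refl (y.obj η.obj.fst)) (IsHomLift.id hw),
    fpIsoMk (Iso.refl _) (Iso.refl _) ?_, fp_iso_isHomLift_id _ (IsHomLift.id rfl)⟩
  rw [fpBC_iso_hom]
  simp [fpMk, w, fpBC, FibCat.fpLift, BasedFunctor.comp, FibCat.fpFst, FibCat.fpSnd]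

end BaseChange

section Unit

variable (F : 𝒳 ⥤ᵇ 𝒮)

/-- `𝒳 ⟶ 𝒮 ×_𝒮 𝒳`. -/
def fpIdLeft : 𝒳 ⥤ᵇ FibCat.fp (BasedFunctor.id 𝒮) F :=
  FibCat.fpLift F (BasedFunctor.id 𝒳) (Iso.refl _)

theorem isEquivOver_fpIdLeft : FibCat.IsEquivOver (fpIdLeft F) := by
  have hfaith : (fpIdLeft F).toFunctor.Faithful := ⟨fun {a b} φ ψ h =>
    congrArg (fun t => t.hom.snd) h⟩
  have hfull : (fpIdLeft F).toFunctor.Full := ⟨fun {a b} φ => by
    refine ⟨φ.hom.snd, fp_hom_ext ?_ rfl⟩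
    have := φ.hom.w
    simp [fpIdLeft, FibCat.fpLift, BasedFunctor.id] at this ⊢
    exact ((Category.id_comp _).symm.trans this.symm).trans (Category.comp_id _)⟩
  refine isEquivOver_of_exists_iso_over _ fun η => ⟨η.obj.snd,
    fpIsoMk η.obj.iso.symm (Iso.refl _) ?_, fp_iso_isHomLift_id _ ?_⟩
  · simp [fpIdLeft, FibCat.fpLift, BasedFunctor.id]
    rfl
  · change 𝒮.p.IsHomLift (𝟙 (𝒮.p.obj η.obj.fst)) η.obj.iso.inv
    infer_instance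

end Unit

end Groth.Agent.Fib
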