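import Groth.Agent.Fib.DiagBC
import Groth.Agent.Fib.Rep

/-!
# The comparison square with an explicit map of products
-/

set_option autoImplicit false
set_option backward.isDefEq.respectTransparency false
set_option backward.isDefEq.respectTransparency.types false

open CategoryTheory CategoryTheory.Functor CategoryTheory.Limits

universe v₆ u₆ v₅ u₅ v₄ u₄ v₃ u₃ v₂ u₂ v u

namespace Groth.Agent.Fib

variable {C : Type u} [Category.{v} C] {𝒳 : BasedCategory.{v₂, u₂} C}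
  {𝒴 : BasedCategory.{v₃, u₃} C} {𝒵 : BasedCategory.{v₄, u₄} C} {𝒯 : BasedCategory.{v₅, u₅} C}

theorem exists_twoCart_fpComparison_fpMap (f : 𝒳 ⥤ᵇ 𝒵) (g : 𝒴 ⥤ᵇ 𝒵) (t : 𝒵 ⥤ᵇ 𝒯)
    [(BasedFunctor.id 𝒯).toFunctor.Full] [(BasedFunctor.id 𝒯).toFunctor.Faithful]
    (e : BasedFunctor.comp (FibCat.fpFst f g) (BasedFunctor.comp f t) ≅
      BasedFunctor.comp (FibCat.fpSnd f g) (BasedFunctor.comp g t))
    (he : ∀ x, e.hom.toNatTrans.app x = t.map x.obj.iso.hom) :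
    ∃ (e' : BasedFunctor.comp (FibCat.fpLift (FibCat.fpFst f g) (FibCat.fpSnd f g) e)
        (fpMap f g (BasedFunctor.id 𝒯) (F' := BasedFunctor.comp f t) (G' := BasedFunctor.comp g t)
          (F := t) (G := t) (Iso.refl _) (Iso.refl _)) ≅
        BasedFunctor.comp (BasedFunctor.comp (FibCat.fpFst f g) f) (FibCat.diag t)),
      FibCat.IsTwoCartOver (FibCat.fpLift (FibCat.fpFst f g) (FibCat.fpSnd f g) e)
        (BasedFunctor.comp (FibCat.fpFst f g) f) e' := by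
  let i := FibCat.fpLift (FibCat.fpFst f g) (FibCat.fpSnd f g) e
  let m : FibCat.fp (BasedFunctor.comp f t) (BasedFunctor.comp g t) ⥤ᵇ FibCat.fp t t :=
    fpMap f g (BasedFunctor.id 𝒯) (F' := BasedFunctor.comp f t) (G' := BasedFunctor.comp g t)
      (F := t) (G := t) (Iso.refl _) (Iso.refl _)
  have hm : ∀ P, (m.obj P).obj.iso.hom = P.obj.iso.hom := fun P => by
    change 𝟙 _ ≫ P.obj.iso.hom ≫ 𝟙 _ = _
    exact (Category.id_comp _).trans (Category.comp_id _)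
  have hi : ∀ x, (m.obj (i.obj x)).obj.iso.hom = t.map x.obj.iso.hom := fun x =>
    (hm _).trans (he x)
  let e' : BasedFunctor.comp i m ≅
      BasedFunctor.comp (BasedFunctor.comp (FibCat.fpFst f g) f) (FibCat.diag t) :=
    isoMk (fun x => fpIsoMk (Iso.refl (f.obj x.obj.fst)) x.obj.iso.symm (by
        change t.map (𝟙 _) ≫ 𝟙 _ = (m.obj (i.obj x)).obj.iso.hom ≫ t.map x.obj.iso.inv
        rw [hi, ← Functor.map_comp, Iso.hom_inv_id, Category.comp_id]
        rfl))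
      (fun {a b} φ => fp_hom_ext ((Category.comp_id _).trans (Category.id_comp _).symm) (by
        change g.map φ.hom.snd ≫ b.obj.iso.inv = a.obj.iso.inv ≫ f.map φ.hom.fst
        rw [Iso.comp_inv_eq, Category.assoc, φ.hom.w, Iso.inv_hom_id_assoc]))
      (fun x => fp_iso_isHomLift_id _ (IsHomLift.id (f.w_obj _)))
  refine ⟨e', ?_⟩
  let E := FibCat.fpLift i (BasedFunctor.comp (FibCat.fpFst f g) f) e'
  have hfaith : E.toFunctor.Faithful := ⟨fun {a b} φ ψ h =>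
    fp_hom_ext (congrArg (fun t => t.hom.fst.hom.fst) h) (congrArg (fun t => t.hom.fst.hom.snd) h)⟩
  have hfull : E.toFunctor.Full := ⟨fun {a b} φ => by
    have h₁ : f.map φ.hom.fst.hom.fst = φ.hom.snd :=
      ((Category.comp_id _).symm.trans (congrArg (fun t => t.hom.fst) φ.hom.w)).trans
        (Category.id_comp _)
    have h₂ : g.map φ.hom.fst.hom.snd ≫ b.obj.iso.inv = a.obj.iso.inv ≫ φ.hom.snd :=
      congrArg (fun t => t.hom.snd) φ.hom.w
    refine ⟨fpHomMk φ.hom.fst.hom.fst φ.hom.fst.hom.snd ?_, fp_hom_ext (fp_hom_ext rfl rfl) h₁⟩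
    rw [← h₁, Iso.comp_inv_eq, Category.assoc] at h₂
    rw [h₂, Iso.hom_inv_id_assoc]⟩
  refine isEquivOver_of_exists_iso_over E fun η => ?_
  let P := η.obj.fst
  let j₁ : f.obj P.obj.fst ≅ η.obj.snd := (FibCat.fpFst t t).toFunctor.mapIso η.obj.iso
  let j₂ : g.obj P.obj.snd ≅ η.obj.snd := (FibCat.fpSnd t t).toFunctor.mapIso η.obj.iso
  have hw : t.map j₁.hom ≫ 𝟙 _ = (m.obj P).obj.iso.hom ≫ t.map j₂.hom := η.obj.iso.hom.hom.w
  rw [hm, Category.comp_id] at hw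
  have hj₁ : 𝒵.p.IsHomLift (𝟙 (𝒳.p.obj P.obj.fst)) j₁.hom := (fp_isHomLift_iff _ _).1 η.property
  have hj₂ : 𝒵.p.IsHomLift (𝟙 (𝒳.p.obj P.obj.fst)) j₂.hom :=
    fp_isHomLift_snd (h := η.property) _ _
  let ξ : (FibCat.fp f g).obj :=
    fpMk P.obj.fst P.obj.snd (j₁ ≪≫ j₂.symm) (isHomLift_trans_symm _ _ _ hj₁ hj₂)
  refine ⟨ξ, fpIsoMk (fpIsoMk (Iso.refl _) (Iso.refl _) ?_) j₁ ?_,
    fp_iso_isHomLift_id _ (fp_iso_isHomLift_id _ (IsHomLift.id rfl))⟩
  · change t.map (f.map (𝟙 _)) ≫ P.obj.iso.hom = e.hom.toNatTrans.app ξ ≫ t.map (g.map (𝟙 _))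
    rw [he, Functor.map_id, Functor.map_id, Functor.map_id, Functor.map_id]
    refine (Category.id_comp _).trans (Eq.trans ?_ (Category.comp_id _).symm)
    change P.obj.iso.hom = t.map (j₁.hom ≫ j₂.inv)
    rw [← cancel_mono (t.map j₂.hom), ← Functor.map_comp, Category.assoc, Iso.inv_hom_id]
    exact hw.symm.trans (congrArg t.map (Category.comp_id _).symm)
  · refine fp_hom_ext ?_ ?_
    · change f.map (𝟙 _) ≫ j₁.hom = 𝟙 _ ≫ j₁.hom
      rw [Functor.map_id]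
    · change g.map (𝟙 _) ≫ j₂.hom = (j₂.hom ≫ j₁.inv) ≫ j₁.hom
      simp

/-- A functor into a product over the base is determined by its components. -/
def fpSelfIso {𝒲 : BasedCategory.{v₆, u₆} C} {s : 𝒳 ⥤ᵇ FibCat.selfOver C}
    {t : 𝒴 ⥤ᵇ FibCat.selfOver C} {F G : 𝒲 ⥤ᵇ FibCat.fp s t}
    (i₁ : BasedFunctor.comp F (FibCat.fpFst s t) ≅ BasedFunctor.comp G (FibCat.fpFst s t))
    (i₂ : BasedFunctor.comp F (FibCat.fpSnd s t) ≅ BasedFunctor.comp G (FibCat.fpSnd s t)) :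
    F ≅ G :=
  isoMk (fun w => fpIsoMk (appIso i₁ w) (appIso i₂ w) (by
      have l₁ : (FibCat.selfOver C).p.IsHomLift (𝟙 (𝒲.p.obj w)) (s.map (appIso i₁ w).hom) :=
        (BasedFunctor.isHomLift_iff s _ _).2 inferInstance
      have l₂ : (FibCat.selfOver C).p.IsHomLift (𝟙 (𝒲.p.obj w)) (t.map (appIso i₂ w).hom) :=
        (BasedFunctor.isHomLift_iff t _ _).2 inferInstance
      have hF : 𝒳.p.obj (F.obj w).obj.fst = 𝒲.p.obj w := F.w_obj w
      have hG : 𝒳.p.obj (G.obj w).obj.fst = 𝒲.p.obj w := G.w_obj w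
      have l₃ : (FibCat.selfOver C).p.IsHomLift (𝟙 (𝒲.p.obj w)) (F.obj w).obj.iso.hom :=
        hF ▸ (F.obj w).property
      have l₄ : (FibCat.selfOver C).p.IsHomLift (𝟙 (𝒲.p.obj w)) (G.obj w).obj.iso.hom :=
        hG ▸ (G.obj w).property
      exact self_hom_unique (𝟙 (𝒲.p.obj w)) _ _))
    (fun φ => fp_hom_ext (appIso_natural i₁ φ) (appIso_natural i₂ φ))
    (fun w => fp_iso_isHomLift_id _ (appIso_isHomLift i₁ w))

end Groth.Agent.Fib
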