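import Groth.Agent.Fib.Fp

/-!
# Functors between 2-fibre products: functoriality, symmetry, associativity, pasting
-/

set_option autoImplicit false
set_option backward.isDefEq.respectTransparency false
set_option backward.isDefEq.respectTransparency.types false

open CategoryTheory CategoryTheory.Functor CategoryTheory.Limits

universe v₉ u₉ v₈ u₈ v₇ u₇ v₆ u₆ v₅ u₅ v₄ u₄ v₃ u₃ v₂ u₂ v u

namespace Groth.Agent.Fib

variable {C : Type u} [Category.{v} C] {𝒳 : BasedCategory.{v₂, u₂} C}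
  {𝒴 : BasedCategory.{v₃, u₃} C} {𝒮 : BasedCategory.{v₄, u₄} C}
  {𝒳' : BasedCategory.{v₅, u₅} C} {𝒴' : BasedCategory.{v₆, u₆} C} {𝒮' : BasedCategory.{v₇, u₇} C}

section Map

variable {F' : 𝒳' ⥤ᵇ 𝒮'} {G' : 𝒴' ⥤ᵇ 𝒮'} {F : 𝒳 ⥤ᵇ 𝒮} {G : 𝒴 ⥤ᵇ 𝒮}
  (a : 𝒳' ⥤ᵇ 𝒳) (b : 𝒴' ⥤ᵇ 𝒴) (c : 𝒮' ⥤ᵇ 𝒮)
  (α : BasedFunctor.comp F' c ≅ BasedFunctor.comp a F)
  (β : BasedFunctor.comp G' c ≅ BasedFunctor.comp b G)

/-- The functor of 2-fibre products induced by a morphism of cospans. -/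
def fpMap : FibCat.fp F' G' ⥤ᵇ FibCat.fp F G :=
  FibCat.fpLift (BasedFunctor.comp (FibCat.fpFst F' G') a) (BasedFunctor.comp (FibCat.fpSnd F' G') b)
    (isoWhiskerLeft (FibCat.fpFst F' G') α.symm ≪≫ isoWhiskerRight (FibCat.fpIso F' G') c ≪≫
      isoWhiskerLeft (FibCat.fpSnd F' G') β)

@[simp] theorem fpMap_fst (x : (FibCat.fp F' G').obj) :
    ((fpMap a b c α β).obj x).obj.fst = a.obj x.obj.fst := rfl

@[simp] theorem fpMap_snd (x : (FibCat.fp F' G').obj) :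
    ((fpMap a b c α β).obj x).obj.snd = b.obj x.obj.snd := rfl

theorem fpMap_iso_hom (x : (FibCat.fp F' G').obj) :
    ((fpMap a b c α β).obj x).obj.iso.hom =
      (appIso α x.obj.fst).inv ≫ c.map x.obj.iso.hom ≫ (appIso β x.obj.snd).hom := rfl

@[simp] theorem fpMap_map_fst {x y : (FibCat.fp F' G').obj} (φ : x ⟶ y) :
    ((fpMap a b c α β).map φ).hom.fst = a.map φ.hom.fst := rfl

@[simp] theorem fpMap_map_snd {x y : (FibCat.fp F' G').obj} (φ : x ⟶ y) :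
    ((fpMap a b c α β).map φ).hom.snd = b.map φ.hom.snd := rfl

theorem fpMap_fpFst :
    BasedFunctor.comp (fpMap a b c α β) (FibCat.fpFst F G) =
      BasedFunctor.comp (FibCat.fpFst F' G') a := rfl

theorem fpMap_fpSnd :
    BasedFunctor.comp (fpMap a b c α β) (FibCat.fpSnd F G) =
      BasedFunctor.comp (FibCat.fpSnd F' G') b := rfl

theorem appIso_natural {𝒜 : BasedCategory.{v₈, u₈} C} {ℬ : BasedCategory.{v₉, u₉} C}
    {P Q : 𝒜 ⥤ᵇ ℬ} (e : P ≅ Q) {x y : 𝒜.obj} (φ : x ⟶ y) :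
    P.map φ ≫ (appIso e y).hom = (appIso e x).hom ≫ Q.map φ :=
  e.hom.toNatTrans.naturality φ

theorem appIso_natural_inv {𝒜 : BasedCategory.{v₈, u₈} C} {ℬ : BasedCategory.{v₉, u₉} C}
    {P Q : 𝒜 ⥤ᵇ ℬ} (e : P ≅ Q) {x y : 𝒜.obj} (φ : x ⟶ y) :
    Q.map φ ≫ (appIso e y).inv = (appIso e x).inv ≫ P.map φ :=
  e.inv.toNatTrans.naturality φ

theorem fpMap_faithful [a.toFunctor.Faithful] [b.toFunctor.Faithful] :
    (fpMap a b c α β).toFunctor.Faithful where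
  map_injective {x y} φ ψ h :=
    fp_hom_ext (a.toFunctor.map_injective (congrArg (fun t => t.hom.fst) h))
      (b.toFunctor.map_injective (congrArg (fun t => t.hom.snd) h))

theorem fpMap_full [a.toFunctor.Full] [b.toFunctor.Full] [c.toFunctor.Faithful] :
    (fpMap a b c α β).toFunctor.Full where
  map_surjective {x y} φ := by
    obtain ⟨φ₁, h₁⟩ := a.toFunctor.map_surjective (X := x.obj.fst) (Y := y.obj.fst) φ.hom.fst
    obtain ⟨φ₂, h₂⟩ := b.toFunctor.map_surjective (X := x.obj.snd) (Y := y.obj.snd) φ.hom.snd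
    have hw := φ.hom.w
    rw [fpMap_iso_hom, fpMap_iso_hom, ← h₁, ← h₂] at hw
    have e₁ := appIso_natural_inv α φ₁
    have e₂ := appIso_natural β φ₂
    simp only [BasedFunctor.comp, Functor.comp_map] at e₁ e₂
    refine ⟨fpHomMk φ₁ φ₂ (c.toFunctor.map_injective ?_), fp_hom_ext h₁ h₂⟩
    rw [Functor.map_comp, Functor.map_comp, ← cancel_mono (appIso β y.obj.snd).hom,
      ← cancel_epi (appIso α x.obj.fst).inv, Category.assoc, Category.assoc, e₂,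
      ← Category.assoc (appIso α x.obj.fst).inv, ← e₁]
    simpa [Category.assoc] using hw

theorem isEquivOver_fpMap (ha : FibCat.IsEquivOver a) (hb : FibCat.IsEquivOver b)
    [c.toFunctor.Full] [c.toFunctor.Faithful] : FibCat.IsEquivOver (fpMap a b c α β) := by
  have := full_of_isEquivOver ha
  have := faithful_of_isEquivOver ha
  have := full_of_isEquivOver hb
  have := faithful_of_isEquivOver hb
  have := fpMap_full a b c α β
  have := fpMap_faithful a b c α β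
  refine isEquivOver_of_exists_iso_over _ fun η => ?_
  obtain ⟨ξ₁, e₁, he₁⟩ := exists_iso_over_of_isEquivOver ha η.obj.fst
  obtain ⟨ξ₂, e₂, he₂⟩ := exists_iso_over_of_isEquivOver hb η.obj.snd
  have h₁ : 𝒳'.p.obj ξ₁ = 𝒳.p.obj η.obj.fst :=
    (a.w_obj ξ₁).symm.trans (IsHomLift.domain_eq 𝒳.p (𝟙 (𝒳.p.obj η.obj.fst)) e₁.hom)
  have h₂ : 𝒴'.p.obj ξ₂ = 𝒴.p.obj η.obj.snd :=
    (b.w_obj ξ₂).symm.trans (IsHomLift.domain_eq 𝒴.p (𝟙 (𝒴.p.obj η.obj.snd)) e₂.hom)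
  rw [fp_snd_obj η] at he₂ h₂
  let j : c.obj (F'.obj ξ₁) ≅ c.obj (G'.obj ξ₂) :=
    (appIso α ξ₁ ≪≫ F.toFunctor.mapIso e₁) ≪≫ η.obj.iso ≪≫
      (appIso β ξ₂ ≪≫ G.toFunctor.mapIso e₂).symm
  have hj : 𝒮.p.IsHomLift (𝟙 (𝒳.p.obj η.obj.fst)) j.hom := by
    have : 𝒮.p.IsHomLift (𝟙 (𝒳.p.obj η.obj.fst)) (appIso α ξ₁).hom :=
      BasedNatTrans.isHomLift α.hom h₁
    have : 𝒮.p.IsHomLift (𝟙 (𝒳.p.obj η.obj.fst)) (appIso β ξ₂).hom :=
      BasedNatTrans.isHomLift β.hom h₂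
    have : 𝒮.p.IsHomLift (𝟙 (𝒳.p.obj η.obj.fst)) (F.toFunctor.mapIso e₁).hom :=
      BasedFunctor.preserves_isHomLift F _ _
    have : 𝒮.p.IsHomLift (𝟙 (𝒳.p.obj η.obj.fst)) (G.toFunctor.mapIso e₂).hom :=
      BasedFunctor.preserves_isHomLift G _ _
    have : 𝒮.p.IsHomLift (𝟙 (𝒳.p.obj η.obj.fst))
        (appIso β ξ₂ ≪≫ G.toFunctor.mapIso e₂).hom := by
      rw [Iso.trans_hom]; infer_instance
    simp only [j, Iso.trans_hom, Iso.symm_hom]
    infer_instance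
  let i : F'.obj ξ₁ ≅ G'.obj ξ₂ := c.toFunctor.preimageIso j
  have hi : 𝒮'.p.IsHomLift (𝟙 (𝒳'.p.obj ξ₁)) i.hom := by
    rw [← BasedFunctor.isHomLift_iff c]
    simp only [i, Functor.preimageIso_hom, Functor.map_preimage]
    rw [h₁]
    exact hj
  refine ⟨fpMk ξ₁ ξ₂ i hi, fpIsoMk e₁ e₂ ?_, fp_iso_isHomLift_id _ he₁⟩
  rw [fpMap_iso_hom]
  simp only [fpMk, i, Functor.preimageIso_hom, Functor.map_preimage, j, Iso.trans_hom,
    Iso.symm_hom, Iso.trans_inv, Functor.mapIso_inv, Functor.mapIso_hom, Category.assoc,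
    Iso.inv_hom_id_assoc, Iso.inv_hom_id, Iso.map_inv_hom_id, Category.comp_id, fpMap_snd]

end Map

end Groth.Agent.Fib
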