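import Groth.Agent.Fib.Fiber
import Mathlib.CategoryTheory.Comma.Over.Basic

/-!
# Transfer of fibredness along equivalences over the base; slices; representability criterion
-/

set_option autoImplicit false
set_option backward.isDefEq.respectTransparency false
set_option backward.isDefEq.respectTransparency.types false

open CategoryTheory CategoryTheory.Functor

universe v₅ u₅ v₄ u₄ v₃ u₃ v₂ u₂ v u

namespace Groth.Agent.Fib

variable {C : Type u} [Category.{v} C] {𝒳 : BasedCategory.{v₂, u₂} C}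
  {𝒴 : BasedCategory.{v₃, u₃} C} {𝒵 : BasedCategory.{v₄, u₄} C}

/-- A fully faithful functor over the base reflects strongly cartesian morphisms. -/
theorem isStronglyCartesian_of_map (F : 𝒳 ⥤ᵇ 𝒴) [F.toFunctor.Full] [F.toFunctor.Faithful]
    {R S : C} {a b : 𝒳.obj} (f : R ⟶ S) (φ : a ⟶ b)
    (h : 𝒴.p.IsStronglyCartesian f (F.map φ)) : 𝒳.p.IsStronglyCartesian f φ := by
  have hl : 𝒳.p.IsHomLift f φ := BasedFunctor.isHomLift_map F f φ
  refine { universal_property' := fun {a'} g φ' _ => ?_ }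
  obtain ⟨z, ⟨hz, hz'⟩, hu⟩ :=
    IsStronglyCartesian.universal_property 𝒴.p f (F.map φ) g (g ≫ f) rfl (F.map φ')
  refine ⟨F.toFunctor.preimage z, ⟨?_, ?_⟩, ?_⟩
  · rw [← BasedFunctor.isHomLift_iff F]
    rwa [Functor.map_preimage]
  · apply F.toFunctor.map_injective
    simpa using hz'
  · rintro w ⟨hw, hw'⟩
    apply F.toFunctor.map_injective
    rw [Functor.map_preimage]
    exact hu _ ⟨inferInstance, by rw [← Functor.map_comp, hw']⟩

/-- An equivalence over the base preserves strongly cartesian morphisms. -/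
theorem isStronglyCartesian_map (F : 𝒳 ⥤ᵇ 𝒴) (hF : FibCat.IsEquivOver F) {R S : C} {a b : 𝒳.obj}
    (f : R ⟶ S) (φ : a ⟶ b) [𝒳.p.IsStronglyCartesian f φ] :
    𝒴.p.IsStronglyCartesian f (F.map φ) := by
  have := full_of_isEquivOver hF
  have := faithful_of_isEquivOver hF
  refine { universal_property' := fun {η} g ψ _ => ?_ }
  obtain ⟨ξ, e, he⟩ := exists_iso_over_of_isEquivOver hF η
  have hξ : 𝒳.p.obj ξ = 𝒴.p.obj η :=
    (F.w_obj ξ).symm.trans (IsHomLift.domain_eq 𝒴.p (𝟙 (𝒴.p.obj η)) e.hom)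
  have h₁ : 𝒳.p.IsHomLift (g ≫ f) (F.toFunctor.preimage (e.hom ≫ ψ)) := by
    rw [← BasedFunctor.isHomLift_iff F, Functor.map_preimage]
    infer_instance
  obtain ⟨z, ⟨hz, hz'⟩, hu⟩ := IsStronglyCartesian.universal_property 𝒳.p f φ g (g ≫ f) rfl
    (F.toFunctor.preimage (e.hom ≫ ψ))
  refine ⟨e.inv ≫ F.map z, ⟨inferInstance, ?_⟩, ?_⟩
  · rw [Category.assoc, ← Functor.map_comp, hz', Functor.map_preimage, Iso.inv_hom_id_assoc]
  · rintro w ⟨hw, hw'⟩
    have hz₂ : F.toFunctor.preimage (e.hom ≫ w) = z := by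
      refine hu _ ⟨?_, ?_⟩
      · rw [← BasedFunctor.isHomLift_iff F, Functor.map_preimage]
        infer_instance
      · apply F.toFunctor.map_injective
        simp [hw']
    rw [← hz₂, Functor.map_preimage, Iso.inv_hom_id_assoc]

/-- Being fibred transfers along equivalences over the base. -/
theorem isFibered_of_isEquivOver (F : 𝒳 ⥤ᵇ 𝒴) (hF : FibCat.IsEquivOver F) (h : 𝒳.p.IsFibered) :
    𝒴.p.IsFibered := by
  refine IsFibered.of_exists_isStronglyCartesian fun η R f => ?_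
  obtain ⟨ξ, e, he⟩ := exists_iso_over_of_isEquivOver hF η
  have hξ : 𝒳.p.obj ξ = 𝒴.p.obj η :=
    (F.w_obj ξ).symm.trans (IsHomLift.domain_eq 𝒴.p (𝟙 (𝒴.p.obj η)) e.hom)
  obtain ⟨c, φ, hφ⟩ := IsPreFibered.exists_isCartesian 𝒳.p hξ f
  have := isStronglyCartesian_map F hF f φ
  refine ⟨F.obj c, F.map φ ≫ e.hom, ?_⟩
  have : 𝒴.p.IsStronglyCartesian (f ≫ 𝟙 (𝒴.p.obj η)) (F.map φ ≫ e.hom) := inferInstance
  simpa using this

theorem isFibered_iff_of_isEquivOver (F : 𝒳 ⥤ᵇ 𝒴) (hF : FibCat.IsEquivOver F) :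
    𝒳.p.IsFibered ↔ 𝒴.p.IsFibered := by
  refine ⟨isFibered_of_isEquivOver F hF, fun h => ?_⟩
  obtain ⟨G, hG, -, -⟩ := exists_quasiInverse hF
  exact isFibered_of_isEquivOver G hG h

/-- Being fibred in groupoids transfers along equivalences over the base. -/
theorem isFibGrpd_of_isEquivOver (F : 𝒳 ⥤ᵇ 𝒴) (hF : FibCat.IsEquivOver F)
    (h : FibCat.IsFibGrpd 𝒳.p) : FibCat.IsFibGrpd 𝒴.p := by
  have h' : 𝒴.p.IsFibered := isFibered_of_isEquivOver F hF (isFibered_of_isFibGrpd _ h)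
  refine isFibGrpd_of_isFibered 𝒴.p h' fun U => ?_
  have := fiberFunctor_isEquivalence F hF U
  have := isGroupoid_fiber 𝒳.p h U
  let E := (FibCat.fiberFunctor F U).asEquivalence
  refine ⟨fun {a b} φ => ?_⟩
  have : IsIso (E.inverse.map φ) := inferInstance
  exact isIso_of_fully_faithful E.inverse φ

theorem isFibGrpd_iff_of_isEquivOver (F : 𝒳 ⥤ᵇ 𝒴) (hF : FibCat.IsEquivOver F) :
    FibCat.IsFibGrpd 𝒳.p ↔ FibCat.IsFibGrpd 𝒴.p := by
  refine ⟨isFibGrpd_of_isEquivOver F hF, fun h => ?_⟩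
  obtain ⟨G, hG, -, -⟩ := exists_quasiInverse hF
  exact isFibGrpd_of_isEquivOver G hG h

/-- The slice categories are fibred in groupoids. -/
theorem isFibGrpd_overCat (U : C) : FibCat.IsFibGrpd (FibCat.overCat U).p where
  exists_lift := fun {x} {V} (f : V ⟶ x.left) =>
    ⟨Over.mk (f ≫ x.hom), Over.homMk f rfl,
      IsHomLift.map (Over.forget U) (Over.homMk f rfl : Over.mk (f ≫ x.hom) ⟶ x)⟩
  isStronglyCartesian := fun {y x} φ =>
    { universal_property' := fun {a'} g φ' hφ' => by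
        change Over U at a'
        have hg : g ≫ φ.left = φ'.left :=
          IsHomLift.eq_of_isHomLift (FibCat.overCat U).p (g ≫ (FibCat.overCat U).p.map φ) φ'
        have hw : g ≫ y.hom = a'.hom := by
          rw [← Over.w φ, ← Category.assoc, hg, Over.w φ']
        let χ : a' ⟶ y := Over.homMk g hw
        refine ⟨χ, ⟨IsHomLift.map (Over.forget U) χ, Over.OverMorphism.ext hg⟩, ?_⟩
        rintro χ' ⟨hχ', -⟩
        exact Over.OverMorphism.ext (IsHomLift.eq_of_isHomLift (FibCat.overCat U).p g χ').symm }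

theorem isRepresentable_of_isEquivOver (F : 𝒳 ⥤ᵇ 𝒴) (hF : FibCat.IsEquivOver F)
    (h : FibCat.IsRepresentable 𝒴) : FibCat.IsRepresentable 𝒳 := by
  obtain ⟨U, E, hE⟩ := h
  exact ⟨U, BasedFunctor.comp F E, isEquivOver_comp hF hE⟩

theorem isRepresentable_iff_of_isEquivOver (F : 𝒳 ⥤ᵇ 𝒴) (hF : FibCat.IsEquivOver F) :
    FibCat.IsRepresentable 𝒳 ↔ FibCat.IsRepresentable 𝒴 := by
  refine ⟨fun h => ?_, isRepresentable_of_isEquivOver F hF⟩
  obtain ⟨G, hG, -, -⟩ := exists_quasiInverse hF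
  exact isRepresentable_of_isEquivOver G hG h

theorem isRepresentable_overCat (U : C) : FibCat.IsRepresentable (FibCat.overCat U) :=
  ⟨U, BasedFunctor.id _, isEquivOver_id _⟩

/-- A category fibred in groupoids with a final object is representable. -/
theorem isRepresentable_of_terminal (h : FibCat.IsFibGrpd 𝒳.p) (ξ : 𝒳.obj)
    (t : ∀ ρ : 𝒳.obj, ρ ⟶ ξ) (ht : ∀ (ρ : 𝒳.obj) (φ : ρ ⟶ ξ), φ = t ρ) :
    FibCat.IsRepresentable 𝒳 := by
  let F : 𝒳 ⥤ᵇ FibCat.overCat (𝒳.p.obj ξ) :=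
    { toFunctor :=
        { obj := fun ρ => Over.mk (𝒳.p.map (t ρ))
          map := fun {a b} φ => Over.homMk (𝒳.p.map φ) (by
            change 𝒳.p.map φ ≫ 𝒳.p.map (t b) = 𝒳.p.map (t a)
            rw [← Functor.map_comp, ht a (φ ≫ t b)])
          map_id := fun a => Over.OverMorphism.ext (𝒳.p.map_id a)
          map_comp := fun φ ψ => Over.OverMorphism.ext (𝒳.p.map_comp φ ψ) }
      w := rfl }
  have hfaith : F.toFunctor.Faithful := ⟨fun {a b} φ φ' e => by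
    have := h.isStronglyCartesian (t b)
    have e' : 𝒳.p.map φ = 𝒳.p.map φ' := congrArg CommaMorphism.left e
    have : 𝒳.p.IsHomLift (𝒳.p.map φ) φ' := e' ▸ inferInstance
    refine IsStronglyCartesian.ext 𝒳.p (𝒳.p.map (t b)) (t b) (𝒳.p.map φ) ?_
    rw [ht a (φ ≫ t b), ht a (φ' ≫ t b)]⟩
  have hfull : F.toFunctor.Full := ⟨fun {a b} φ => by
    have := h.isStronglyCartesian (t b)
    let g : 𝒳.p.obj a ⟶ 𝒳.p.obj b := φ.left
    have hg : 𝒳.p.map (t a) = g ≫ 𝒳.p.map (t b) := (Over.w φ).symm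
    refine ⟨IsStronglyCartesian.map 𝒳.p (𝒳.p.map (t b)) (t b) hg (t a),
      Over.OverMorphism.ext ?_⟩
    exact (IsHomLift.eq_of_isHomLift 𝒳.p g
      (IsStronglyCartesian.map 𝒳.p (𝒳.p.map (t b)) (t b) hg (t a))).symm⟩
  refine ⟨_, F, isEquivOver_of_exists_iso_over F fun η => ?_⟩
  change Over (𝒳.p.obj ξ) at η
  obtain ⟨ρ, φ, hφ⟩ := h.exists_lift (x := ξ) η.hom
  have hρ : 𝒳.p.obj ρ = η.left := IsHomLift.domain_eq 𝒳.p η.hom φ
  have hφ' : 𝒳.p.map (t ρ) = eqToHom hρ ≫ η.hom := by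
    rw [← ht ρ φ, IsHomLift.fac' 𝒳.p η.hom φ]; simp
  refine ⟨ρ, Over.isoMk (eqToIso hρ) hφ'.symm, ?_⟩
  exact IsHomLift.of_fac (Over.forget (𝒳.p.obj ξ)) _ _ hρ rfl (by simp)

end Groth.Agent.Fib
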