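import Mathlib.CategoryTheory.Groupoid
import Mathlib.CategoryTheory.EqToHom
import Groth.Prelude.Def_FibCat2
import Groth.Prelude.Def_W4stkcategoriessitesFib

/-!
# Basic API for categories fibred in groupoids and equivalences over a base
-/

set_option autoImplicit false
set_option backward.isDefEq.respectTransparency false
set_option backward.isDefEq.respectTransparency.types false

open CategoryTheory CategoryTheory.Functor

universe v₅ u₅ v₄ u₄ v₃ u₃ v₂ u₂ v u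

namespace Groth.Agent.Fib

variable {C : Type u} [Category.{v} C]

section Functors

variable {X : Type u₂} [Category.{v₂} X] (p : X ⥤ C)

theorem isCartesian_self {y x : X} (φ : y ⟶ x) [h : p.IsStronglyCartesian (p.map φ) φ] :
    p.IsCartesian (p.map φ) φ :=
  inferInstance

/-- In a category fibred in groupoids every lift of `f` is strongly cartesian over `f`. -/
theorem isStronglyCartesian_of_isFibGrpd (h : FibCat.IsFibGrpd p) {R S : C} {y x : X} (f : R ⟶ S)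
    (φ : y ⟶ x) [p.IsHomLift f φ] : p.IsStronglyCartesian f φ := by
  subst_hom_lift p f φ
  exact h.isStronglyCartesian φ

/-- A category fibred in groupoids is fibred. -/
theorem isFibered_of_isFibGrpd (h : FibCat.IsFibGrpd p) : p.IsFibered := by
  refine IsFibered.of_exists_isStronglyCartesian fun a R f => ?_
  obtain ⟨b, φ, hφ⟩ := h.exists_lift f
  exact ⟨b, φ, isStronglyCartesian_of_isFibGrpd p h f φ⟩

/-- Lifts exist in a form flexible in the target. -/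
theorem exists_lift (h : FibCat.IsFibGrpd p) {x : X} {V U : C} (hx : p.obj x = U) (f : V ⟶ U) :
    ∃ (y : X) (φ : y ⟶ x), p.IsHomLift f φ := by
  subst hx
  exact h.exists_lift f

/-- A morphism lying over an isomorphism in a category fibred in groupoids is an isomorphism. -/
theorem isIso_of_isFibGrpd (h : FibCat.IsFibGrpd p) {y x : X} (φ : y ⟶ x) [IsIso (p.map φ)] :
    IsIso φ := by
  have := h.isStronglyCartesian φ
  exact IsStronglyCartesian.isIso_of_base_isIso p (p.map φ) φ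

theorem isIso_of_isHomLift (h : FibCat.IsFibGrpd p) {R S : C} {y x : X} (f : R ⟶ S) [IsIso f]
    (φ : y ⟶ x) [p.IsHomLift f φ] : IsIso φ := by
  have := isStronglyCartesian_of_isFibGrpd p h f φ
  exact IsStronglyCartesian.isIso_of_base_isIso p f φ

/-- The fibre morphism underlying an isomorphism over the identity. -/
def fiberIso {U : C} {a b : p.Fiber U} (e : a.1 ≅ b.1) (he : p.IsHomLift (𝟙 U) e.hom) : a ≅ b where
  hom := ⟨e.hom, he⟩
  inv := ⟨e.inv, inferInstance⟩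
  hom_inv_id := Subtype.ext e.hom_inv_id
  inv_hom_id := Subtype.ext e.inv_hom_id

/-- The fibres of a category fibred in groupoids are groupoids. -/
theorem isGroupoid_fiber (h : FibCat.IsFibGrpd p) (U : C) : IsGroupoid (p.Fiber U) := by
  refine ⟨fun {a b} φ => ?_⟩
  have : p.IsHomLift (𝟙 U) φ.1 := φ.2
  have : IsIso φ.1 := isIso_of_isHomLift p h (𝟙 U) φ.1
  exact (fiberIso p (asIso φ.1) (by simpa using φ.2)).isIso_hom

/-- A fibred category with groupoid fibres is fibred in groupoids. -/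
theorem isFibGrpd_of_isFibered (h : p.IsFibered) (hg : ∀ U : C, IsGroupoid (p.Fiber U)) :
    FibCat.IsFibGrpd p where
  exists_lift := fun f => by
    obtain ⟨b, φ, hφ⟩ := IsPreFibered.exists_isCartesian p rfl f
    exact ⟨b, φ, inferInstance⟩
  isStronglyCartesian := fun {y x} φ => by
    obtain ⟨b, ψ, hψ⟩ := IsPreFibered.exists_isCartesian p rfl (p.map φ)
    let χ : y ⟶ b := IsCartesian.map p (p.map φ) ψ φ
    have hb : p.obj b = p.obj y := IsHomLift.domain_eq p (p.map φ) ψ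
    have := hg (p.obj y)
    let χ' : (Fiber.mk (p := p) (a := y) rfl) ⟶ Fiber.mk hb :=
      ⟨χ, IsCartesian.map_isHomLift p (p.map φ) ψ φ⟩
    have hi : IsIso χ' := inferInstance
    let e : y ≅ b := Fiber.fiberInclusion.mapIso (asIso χ')
    have he : p.IsHomLift (𝟙 (p.obj y)) e.hom := IsCartesian.map_isHomLift p (p.map φ) ψ φ
    have : p.IsCartesian (p.map φ) (e.hom ≫ ψ) := inferInstance
    have e' : e.hom ≫ ψ = φ := IsCartesian.fac p (p.map φ) ψ φ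
    rw [e'] at this
    infer_instance

end Functors

section Based

variable {𝒳 : BasedCategory.{v₂, u₂} C} {𝒴 : BasedCategory.{v₃, u₃} C}
  {𝒵 : BasedCategory.{v₄, u₄} C}

/-- A functor over `C` into a category fibred in groupoids preserves strongly cartesian morphisms. -/
theorem preservesStronglyCartesian (F : 𝒳 ⥤ᵇ 𝒴) (h : FibCat.IsFibGrpd 𝒴.p) :
    FibCat.PreservesStronglyCartesian F := by
  intro R S f a b φ hφ
  exact isStronglyCartesian_of_isFibGrpd 𝒴.p h f (F.map φ)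

theorem w_map (F : 𝒳 ⥤ᵇ 𝒴) {a b : 𝒳.obj} (φ : a ⟶ b) :
    𝒴.p.map (F.map φ) = eqToHom (F.w_obj a) ≫ 𝒳.p.map φ ≫ eqToHom (F.w_obj b).symm :=
  IsHomLift.fac' 𝒴.p (𝒳.p.map φ) (F.map φ)

/-- A 2-isomorphism over the base from its components. -/
def isoMk {F G : 𝒳 ⥤ᵇ 𝒴} (app : ∀ a, F.obj a ≅ G.obj a)
    (nat : ∀ {a b : 𝒳.obj} (φ : a ⟶ b), F.map φ ≫ (app b).hom = (app a).hom ≫ G.map φ)
    (lift : ∀ a, 𝒴.p.IsHomLift (𝟙 (𝒳.p.obj a)) (app a).hom) : F ≅ G :=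
  BasedNatIso.mkNatIso (NatIso.ofComponents app nat) lift

@[simp] theorem isoMk_hom_app {F G : 𝒳 ⥤ᵇ 𝒴} (app : ∀ a, F.obj a ≅ G.obj a)
    (nat : ∀ {a b : 𝒳.obj} (φ : a ⟶ b), F.map φ ≫ (app b).hom = (app a).hom ≫ G.map φ)
    (lift : ∀ a, 𝒴.p.IsHomLift (𝟙 (𝒳.p.obj a)) (app a).hom) (a : 𝒳.obj) :
    (isoMk app nat lift).hom.toNatTrans.app a = (app a).hom := rfl

/-- The component of a 2-isomorphism over the base. -/
def appIso {F G : 𝒳 ⥤ᵇ 𝒴} (e : F ≅ G) (a : 𝒳.obj) : F.obj a ≅ G.obj a :=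
  ((BasedNatTrans.forgetful 𝒳 𝒴).mapIso e).app a

instance appIso_isHomLift {F G : 𝒳 ⥤ᵇ 𝒴} (e : F ≅ G) (a : 𝒳.obj) :
    𝒴.p.IsHomLift (𝟙 (𝒳.p.obj a)) (appIso e a).hom :=
  BasedNatTrans.isHomLift e.hom rfl

theorem hom_ext' {F G : 𝒳 ⥤ᵇ 𝒴} {α β : F ⟶ G}
    (h : ∀ a, α.toNatTrans.app a = β.toNatTrans.app a) : α = β := by
  apply BasedNatTrans.homCategory.ext
  apply NatTrans.ext
  funext a
  exact h a

/-- Whiskering a 2-isomorphism on the left. -/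
def isoWhiskerLeft (F : 𝒳 ⥤ᵇ 𝒴) {G H : 𝒴 ⥤ᵇ 𝒵} (e : G ≅ H) :
    BasedFunctor.comp F G ≅ BasedFunctor.comp F H :=
  isoMk (fun a => appIso e (F.obj a))
    (fun φ => e.hom.toNatTrans.naturality (F.map φ))
    (fun a => BasedNatTrans.isHomLift e.hom (F.w_obj a))

/-- Whiskering a 2-isomorphism on the right. -/
def isoWhiskerRight {F G : 𝒳 ⥤ᵇ 𝒴} (e : F ≅ G) (H : 𝒴 ⥤ᵇ 𝒵) :
    BasedFunctor.comp F H ≅ BasedFunctor.comp G H :=
  isoMk (fun a => H.toFunctor.mapIso (appIso e a))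
    (fun {a b} φ => by
      simp only [BasedFunctor.comp, Functor.comp_map, Functor.mapIso_hom, ← Functor.map_comp]
      exact congrArg (fun t => H.map t) (e.hom.toNatTrans.naturality φ))
    (fun a => BasedFunctor.preserves_isHomLift H (𝟙 (𝒳.p.obj a)) (appIso e a).hom)

theorem isEquivOver_id (𝒳 : BasedCategory.{v₂, u₂} C) : FibCat.IsEquivOver (BasedFunctor.id 𝒳) :=
  ⟨BasedFunctor.id 𝒳, ⟨Iso.refl _⟩, ⟨Iso.refl _⟩⟩

theorem isEquivOver_comp {F : 𝒳 ⥤ᵇ 𝒴} {G : 𝒴 ⥤ᵇ 𝒵} (hF : FibCat.IsEquivOver F)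
    (hG : FibCat.IsEquivOver G) : FibCat.IsEquivOver (BasedFunctor.comp F G) := by
  obtain ⟨F', ⟨eF⟩, ⟨eF'⟩⟩ := hF
  obtain ⟨G', ⟨eG⟩, ⟨eG'⟩⟩ := hG
  refine ⟨BasedFunctor.comp G' F', ⟨?_⟩, ⟨?_⟩⟩
  · exact isoWhiskerLeft F (isoWhiskerRight eG F') ≪≫ eF
  · exact isoWhiskerLeft G' (isoWhiskerRight eF' G) ≪≫ eG'

theorem isEquivOver_of_iso {F G : 𝒳 ⥤ᵇ 𝒴} (e : F ≅ G) (hF : FibCat.IsEquivOver F) :
    FibCat.IsEquivOver G := by
  obtain ⟨F', ⟨eF⟩, ⟨eF'⟩⟩ := hF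
  exact ⟨F', ⟨(isoWhiskerRight e F').symm ≪≫ eF⟩, ⟨(isoWhiskerLeft F' e).symm ≪≫ eF'⟩⟩

theorem exists_quasiInverse {F : 𝒳 ⥤ᵇ 𝒴} (hF : FibCat.IsEquivOver F) :
    ∃ G : 𝒴 ⥤ᵇ 𝒳, FibCat.IsEquivOver G ∧ Nonempty (BasedFunctor.comp F G ≅ BasedFunctor.id 𝒳) ∧
      Nonempty (BasedFunctor.comp G F ≅ BasedFunctor.id 𝒴) := by
  obtain ⟨G, hG, hG'⟩ := hF
  exact ⟨G, ⟨F, hG', hG⟩, hG, hG'⟩

theorem isEquivalence_of_isEquivOver {F : 𝒳 ⥤ᵇ 𝒴} (hF : FibCat.IsEquivOver F) :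
    F.toFunctor.IsEquivalence := by
  obtain ⟨G, ⟨e⟩, ⟨e'⟩⟩ := hF
  exact (CategoryTheory.Equivalence.mk F.toFunctor G.toFunctor
    ((BasedNatTrans.forgetful _ _).mapIso e).symm
    ((BasedNatTrans.forgetful _ _).mapIso e')).isEquivalence_functor

theorem full_of_isEquivOver {F : 𝒳 ⥤ᵇ 𝒴} (hF : FibCat.IsEquivOver F) : F.toFunctor.Full :=
  have := isEquivalence_of_isEquivOver hF
  inferInstance

theorem faithful_of_isEquivOver {F : 𝒳 ⥤ᵇ 𝒴} (hF : FibCat.IsEquivOver F) : F.toFunctor.Faithful :=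
  have := isEquivalence_of_isEquivOver hF
  inferInstance

theorem exists_iso_over_of_isEquivOver {F : 𝒳 ⥤ᵇ 𝒴} (hF : FibCat.IsEquivOver F) (η : 𝒴.obj) :
    ∃ (ξ : 𝒳.obj) (e : F.obj ξ ≅ η), 𝒴.p.IsHomLift (𝟙 (𝒴.p.obj η)) e.hom := by
  obtain ⟨G, -, ⟨e'⟩⟩ := hF
  exact ⟨G.obj η, appIso e' η, appIso_isHomLift e' η⟩

/-- A fully faithful functor over the base which is essentially surjective over identities is an
equivalence over the base. -/
theorem isEquivOver_of_exists_iso_over (F : 𝒳 ⥤ᵇ 𝒴) [F.toFunctor.Full] [F.toFunctor.Faithful]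
    (h : ∀ η : 𝒴.obj, ∃ (ξ : 𝒳.obj) (e : F.obj ξ ≅ η), 𝒴.p.IsHomLift (𝟙 (𝒴.p.obj η)) e.hom) :
    FibCat.IsEquivOver F := by
  choose g e he using h
  have hobj : ∀ η, 𝒳.p.obj (g η) = 𝒴.p.obj η := fun η =>
    (F.w_obj (g η)).symm.trans (IsHomLift.domain_eq 𝒴.p (𝟙 (𝒴.p.obj η)) (e η).hom)
  let G₀ : 𝒴.obj ⥤ 𝒳.obj :=
    { obj := g
      map := fun {a b} φ => F.toFunctor.preimage ((e a).hom ≫ φ ≫ (e b).inv)
      map_id := fun a => F.toFunctor.map_injective (by simp)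
      map_comp := fun φ ψ => F.toFunctor.map_injective (by simp) }
  have hlift : ∀ {a b : 𝒴.obj} (φ : a ⟶ b), 𝒳.p.IsHomLift (𝒴.p.map φ) (G₀.map φ) := by
    intro a b φ
    rw [← BasedFunctor.isHomLift_iff F]
    change 𝒴.p.IsHomLift _ (F.toFunctor.map (F.toFunctor.preimage _))
    rw [Functor.map_preimage]
    have := he a
    have := he b
    infer_instance
  let G : 𝒴 ⥤ᵇ 𝒳 :=
    { toFunctor := G₀
      w := Functor.ext hobj (fun a b φ => by
        have := hlift φ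
        exact IsHomLift.fac' 𝒳.p (𝒴.p.map φ) (G₀.map φ)) }
  refine ⟨G, ⟨isoMk (fun a => F.toFunctor.preimageIso (e (F.obj a))) (fun {a b} φ => ?_)
    (fun a => ?_)⟩, ⟨isoMk e (fun {a b} φ => ?_) he⟩⟩
  · apply F.toFunctor.map_injective
    simp [G, G₀, BasedFunctor.comp, BasedFunctor.id]
  · rw [← BasedFunctor.isHomLift_iff F]
    simp only [Functor.preimageIso_hom, Functor.map_preimage]
    have := he (F.obj a)
    rw [F.w_obj] at this
    exact this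
  · simp [G, G₀, BasedFunctor.comp, BasedFunctor.id]

theorem isEquivOver_iff (F : 𝒳 ⥤ᵇ 𝒴) :
    FibCat.IsEquivOver F ↔ (F.toFunctor.Full ∧ F.toFunctor.Faithful) ∧
      ∀ η : 𝒴.obj, ∃ (ξ : 𝒳.obj) (e : F.obj ξ ≅ η), 𝒴.p.IsHomLift (𝟙 (𝒴.p.obj η)) e.hom :=
  ⟨fun h => ⟨⟨full_of_isEquivOver h, faithful_of_isEquivOver h⟩, exists_iso_over_of_isEquivOver h⟩,
    fun ⟨⟨_, _⟩, h⟩ => isEquivOver_of_exists_iso_over F h⟩

/-- A functor over the base which is an equivalence of the underlying categories is an equivalence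
over the base as soon as isomorphisms of the base lift to the source. -/
theorem isEquivOver_of_isEquivalence
    (h𝒳 : ∀ ⦃T S : C⦄ (α : T ≅ S) (ξ : 𝒳.obj), 𝒳.p.obj ξ = T →
      ∃ (ξ' : 𝒳.obj) (e : ξ ≅ ξ'), 𝒳.p.IsHomLift α.hom e.hom)
    (F : 𝒳 ⥤ᵇ 𝒴) [F.toFunctor.IsEquivalence] : FibCat.IsEquivOver F := by
  refine isEquivOver_of_exists_iso_over F fun η => ?_
  let ξ₀ := F.toFunctor.objPreimage η
  let e₀ : F.obj ξ₀ ≅ η := F.toFunctor.objObjPreimageIso η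
  let α : 𝒳.p.obj ξ₀ ≅ 𝒴.p.obj η := eqToIso (F.w_obj ξ₀).symm ≪≫ 𝒴.p.mapIso e₀
  obtain ⟨ξ', e', he'⟩ := h𝒳 α ξ₀ rfl
  refine ⟨ξ', (F.toFunctor.mapIso e').symm ≪≫ e₀, ?_⟩
  have h₁ : 𝒴.p.IsHomLift α.hom (F.toFunctor.mapIso e').hom :=
    BasedFunctor.preserves_isHomLift F α.hom e'.hom
  have h₂ : 𝒴.p.IsHomLift α.hom e₀.hom :=
    IsHomLift.of_fac 𝒴.p α.hom e₀.hom (F.w_obj ξ₀) rfl (by simp [α])
  have h₃ : 𝒴.p.IsHomLift (α.inv ≫ α.hom) ((F.toFunctor.mapIso e').inv ≫ e₀.hom) := inferInstance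
  simpa using h₃

/-- In a category fibred in groupoids isomorphisms of the base lift. -/
theorem exists_iso_lift {X : Type u₂} [Category.{v₂} X] (p : X ⥤ C) (h : FibCat.IsFibGrpd p)
    ⦃T S : C⦄ (α : T ≅ S) (ξ : X) (hξ : p.obj ξ = T) :
    ∃ (ξ' : X) (e : ξ ≅ ξ'), p.IsHomLift α.hom e.hom := by
  obtain ⟨y, φ, hφ⟩ := exists_lift p h hξ α.inv
  have : IsIso φ := isIso_of_isHomLift p h α.inv φ
  refine ⟨y, (asIso φ).symm, ?_⟩
  have : p.IsHomLift α.symm.hom (asIso φ).hom := hφ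
  have h₂ := IsHomLift.inv_lift_inv p α.symm (asIso φ)
  simpa using h₂

end Based

end Groth.Agent.Fib
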