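import Mathlib.CategoryTheory.Groupoid
import Groth.Agent.Fib.Basic

/-!
# Fibrewise criteria for functors over a base
-/

set_option autoImplicit false
set_option backward.isDefEq.respectTransparency false
set_option backward.isDefEq.respectTransparency.types false

open CategoryTheory CategoryTheory.Functor

universe v₅ u₅ v₄ u₄ v₃ u₃ v₂ u₂ v u

namespace Groth.Agent.Fib

variable {C : Type u} [Category.{v} C] {𝒳 : BasedCategory.{v₂, u₂} C}
  {𝒴 : BasedCategory.{v₃, u₃} C}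

theorem eq_fiberFunctor (G : 𝒳 ⥤ᵇ 𝒴) {U : C} (GU : 𝒳.p.Fiber U ⥤ 𝒴.p.Fiber U)
    (h : GU ⋙ Fiber.fiberInclusion = Fiber.fiberInclusion ⋙ G.toFunctor) :
    GU = FibCat.fiberFunctor G U := by
  refine Functor.ext (fun a => Fiber.fiberInclusion_obj_inj (Functor.congr_obj h a)) ?_
  intro a b φ
  apply Fiber.hom_ext
  have := Functor.congr_hom h φ
  simp only [Functor.map_comp, eqToHom_map] at this ⊢
  exact this

theorem fiberFunctor_faithful (G : 𝒳 ⥤ᵇ 𝒴) [G.toFunctor.Faithful] (U : C) :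
    (FibCat.fiberFunctor G U).Faithful where
  map_injective {a b} φ ψ h := by
    apply Fiber.hom_ext
    exact G.toFunctor.map_injective (congrArg Fiber.fiberInclusion.map h)

theorem fiberFunctor_full (G : 𝒳 ⥤ᵇ 𝒴) [G.toFunctor.Full] (U : C) :
    (FibCat.fiberFunctor G U).Full where
  map_surjective {a b} φ := by
    have h : 𝒴.p.IsHomLift (𝟙 U) (G.map (G.toFunctor.preimage φ.1)) := by
      rw [Functor.map_preimage]; exact φ.2
    exact ⟨⟨G.toFunctor.preimage φ.1, BasedFunctor.isHomLift_map G (𝟙 U) _⟩,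
      Subtype.ext (G.toFunctor.map_preimage φ.1)⟩

theorem fiberFunctor_essSurj_iff (G : 𝒳 ⥤ᵇ 𝒴) :
    (∀ U : C, (FibCat.fiberFunctor G U).EssSurj) ↔
      ∀ η : 𝒴.obj, ∃ (ξ : 𝒳.obj) (e : G.obj ξ ≅ η), 𝒴.p.IsHomLift (𝟙 (𝒴.p.obj η)) e.hom := by
  constructor
  · intro h η
    have := h (𝒴.p.obj η)
    let y : 𝒴.p.Fiber (𝒴.p.obj η) := ⟨η, rfl⟩
    let e := (FibCat.fiberFunctor G (𝒴.p.obj η)).objObjPreimageIso y
    exact ⟨_, Fiber.fiberInclusion.mapIso e, e.hom.2⟩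
  · intro h U
    refine ⟨fun y => ?_⟩
    obtain ⟨y, rfl⟩ := y
    obtain ⟨ξ, e, he⟩ := h y
    have hξ : 𝒳.p.obj ξ = 𝒴.p.obj y :=
      (G.w_obj ξ).symm.trans (IsHomLift.domain_eq 𝒴.p (𝟙 (𝒴.p.obj y)) e.hom)
    refine ⟨⟨ξ, hξ⟩, ⟨fiberIso 𝒴.p e ?_⟩⟩
    exact he

theorem fiberFunctor_isEquivalence (G : 𝒳 ⥤ᵇ 𝒴) (hG : FibCat.IsEquivOver G) (U : C) :
    (FibCat.fiberFunctor G U).IsEquivalence := by
  have := full_of_isEquivOver hG
  have := faithful_of_isEquivOver hG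
  exact
    { faithful := fiberFunctor_faithful G U
      full := fiberFunctor_full G U
      essSurj := (fiberFunctor_essSurj_iff G).2 (exists_iso_over_of_isEquivOver hG) U }

theorem preserves_of_map (G : 𝒳 ⥤ᵇ 𝒴)
    (hG : ∀ ⦃a b : 𝒳.obj⦄ (φ : a ⟶ b), 𝒳.p.IsStronglyCartesian (𝒳.p.map φ) φ →
      𝒴.p.IsStronglyCartesian (𝒳.p.map φ) (G.map φ)) : FibCat.PreservesStronglyCartesian G := by
  intro R S f a b φ hφ
  subst_hom_lift 𝒳.p f φ
  exact hG φ hφ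

theorem preserves_map (G : 𝒳 ⥤ᵇ 𝒴) (hG : FibCat.PreservesStronglyCartesian G) ⦃a b : 𝒳.obj⦄
    (φ : a ⟶ b) (hφ : 𝒳.p.IsStronglyCartesian (𝒳.p.map φ) φ) :
    𝒴.p.IsStronglyCartesian (𝒳.p.map φ) (G.map φ) :=
  hG _ φ hφ

/-- A cartesian-preserving functor out of a fibred category which is faithful on the fibres is
faithful. -/
theorem faithful_of_fiber (G : 𝒳 ⥤ᵇ 𝒴) [𝒳.p.IsFibered]
    (hG : FibCat.PreservesStronglyCartesian G)
    (h : ∀ U : C, (FibCat.fiberFunctor G U).Faithful) : G.toFunctor.Faithful where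
  map_injective {a b} φ φ' e := by
    have hp : 𝒳.p.map φ = 𝒳.p.map φ' := by
      have h₁ : 𝒴.p.map (G.map φ) = 𝒴.p.map (G.map φ') := congrArg (fun t => 𝒴.p.map t) e
      rw [w_map G φ, w_map G φ'] at h₁
      exact (cancel_mono _).1 ((cancel_epi _).1 h₁)
    obtain ⟨c, ψ, hψ⟩ := IsPreFibered.exists_isCartesian 𝒳.p rfl (𝒳.p.map φ)
    have hc : 𝒳.p.obj c = 𝒳.p.obj a := IsHomLift.domain_eq 𝒳.p (𝒳.p.map φ) ψ
    have : 𝒳.p.IsHomLift (𝒳.p.map φ) φ' := hp ▸ inferInstance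
    let χ := IsCartesian.map 𝒳.p (𝒳.p.map φ) ψ φ
    let χ' := IsCartesian.map 𝒳.p (𝒳.p.map φ) ψ φ'
    have hψ' := hG (𝒳.p.map φ) ψ inferInstance
    have hG' : G.map χ = G.map χ' := by
      refine IsStronglyCartesian.ext 𝒴.p (𝒳.p.map φ) (G.map ψ) (𝟙 (𝒳.p.obj a)) ?_
      rw [← Functor.map_comp, ← Functor.map_comp, IsCartesian.fac, IsCartesian.fac]
      exact e
    have hχ : χ = χ' := by
      have := (h (𝒳.p.obj a)).map_injective
        (a₁ := (⟨χ, inferInstance⟩ : (Fiber.mk (p := 𝒳.p) (a := a) rfl) ⟶ Fiber.mk hc))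
        (a₂ := ⟨χ', inferInstance⟩) (Subtype.ext hG')
      exact congrArg Subtype.val this
    rw [← IsCartesian.fac 𝒳.p (𝒳.p.map φ) ψ φ, ← IsCartesian.fac 𝒳.p (𝒳.p.map φ) ψ φ']
    exact congrArg (· ≫ ψ) hχ

/-- A cartesian-preserving functor out of a fibred category which is fully faithful on the fibres
is full. -/
theorem full_of_fiber (G : 𝒳 ⥤ᵇ 𝒴) [𝒳.p.IsFibered]
    (hG : FibCat.PreservesStronglyCartesian G)
    (h : ∀ U : C, (FibCat.fiberFunctor G U).Full) : G.toFunctor.Full where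
  map_surjective {a b} φ := by
    let f : 𝒳.p.obj a ⟶ 𝒳.p.obj b :=
      eqToHom (G.w_obj a).symm ≫ 𝒴.p.map φ ≫ eqToHom (G.w_obj b)
    have hf : 𝒴.p.IsHomLift f φ := IsHomLift.of_fac 𝒴.p f φ (G.w_obj a) (G.w_obj b) rfl
    obtain ⟨c, ψ, hψ⟩ := IsPreFibered.exists_isCartesian 𝒳.p rfl f
    have hc : 𝒳.p.obj c = 𝒳.p.obj a := IsHomLift.domain_eq 𝒳.p f ψ
    have hψ' := hG f ψ inferInstance
    let χ : G.obj a ⟶ G.obj c :=
      IsStronglyCartesian.map 𝒴.p f (G.map ψ) (Category.id_comp f).symm φ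
    obtain ⟨χ₀, hχ₀⟩ := (h (𝒳.p.obj a)).map_surjective
      (X := Fiber.mk (p := 𝒳.p) (a := a) rfl) (Y := Fiber.mk hc)
      ⟨χ, IsStronglyCartesian.map_isHomLift 𝒴.p f (G.map ψ) (Category.id_comp f).symm φ⟩
    refine ⟨χ₀.1 ≫ ψ, ?_⟩
    have e : G.map χ₀.1 = χ := congrArg Subtype.val hχ₀
    rw [Functor.map_comp, e]
    exact IsStronglyCartesian.fac 𝒴.p f (G.map ψ) _ φ

theorem isEquivOver_iff_fiber (G : 𝒳 ⥤ᵇ 𝒴) [𝒳.p.IsFibered]
    (hG : FibCat.PreservesStronglyCartesian G) :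
    FibCat.IsEquivOver G ↔ ∀ U : C, (FibCat.fiberFunctor G U).IsEquivalence := by
  refine ⟨fiberFunctor_isEquivalence G, fun h => ?_⟩
  have := faithful_of_fiber G hG fun U => (h U).faithful
  have := full_of_fiber G hG fun U => (h U).full
  exact isEquivOver_of_exists_iso_over G
    ((fiberFunctor_essSurj_iff G).1 fun U => (h U).essSurj)

theorem exists_iso_lift_of_isFibered {X : Type u₂} [Category.{v₂} X] (p : X ⥤ C) [p.IsFibered]
    ⦃T S : C⦄ (α : T ≅ S) (ξ : X) (hξ : p.obj ξ = T) :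
    ∃ (ξ' : X) (e : ξ ≅ ξ'), p.IsHomLift α.hom e.hom := by
  obtain ⟨y, φ, hφ⟩ := IsPreFibered.exists_isCartesian p hξ α.inv
  have : IsIso φ := IsStronglyCartesian.isIso_of_base_isIso p α.inv φ
  refine ⟨y, (asIso φ).symm, ?_⟩
  have : p.IsHomLift α.symm.hom (asIso φ).hom := hφ.toIsHomLift
  have h₂ := IsHomLift.inv_lift_inv p α.symm (asIso φ)
  simpa using h₂

theorem isEquivOver_iff_isEquivalence (G : 𝒳 ⥤ᵇ 𝒴) [𝒳.p.IsFibered] :
    FibCat.IsEquivOver G ↔ G.toFunctor.IsEquivalence :=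
  ⟨isEquivalence_of_isEquivOver, fun _ =>
    isEquivOver_of_isEquivalence (exists_iso_lift_of_isFibered 𝒳.p) G⟩

end Groth.Agent.Fib
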