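import Groth.Prelude.Def_W4stkcategoriessitesFib

/-!
# Functors between 2-fibre products of plain categories
-/

set_option autoImplicit false
set_option backward.isDefEq.respectTransparency false
set_option backward.isDefEq.respectTransparency.types false

open CategoryTheory CategoryTheory.Functor CategoryTheory.Limits

universe v₆ u₆ v₅ u₅ v₄ u₄ v₃ u₃ v₂ u₂ v₁ u₁

namespace Groth.Agent.Fib

variable {X : Type u₁} {Y : Type u₂} {Z : Type u₃} {A : Type u₄} {B : Type u₅} {C : Type u₆}
  [Category.{v₁} X] [Category.{v₂} Y] [Category.{v₃} Z] [Category.{v₄} A] [Category.{v₅} B]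
  [Category.{v₆} C] {H : X ⥤ Z} {I : Y ⥤ Z} {F : A ⥤ C} {G : B ⥤ C}
  (ψ : CatCospanTransform H I F G)

theorem cpMap_fst (x : CategoricalPullback H I) :
    ((FibCat.categoricalPullbackMap ψ).obj x).fst = ψ.left.obj x.fst := rfl

theorem cpMap_iso (x : CategoricalPullback H I) :
    ((FibCat.categoricalPullbackMap ψ).obj x).iso.hom =
      ψ.squareLeft.iso.inv.app x.fst ≫ ψ.base.map x.iso.hom ≫ ψ.squareRight.iso.hom.app x.snd := by
  simp [FibCat.categoricalPullbackMap]
  rfl

theorem cpMap_map_fst {x y : CategoricalPullback H I} (f : x ⟶ y) :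
    ((FibCat.categoricalPullbackMap ψ).map f).fst = ψ.left.map f.fst := rfl

theorem cpMap_map_snd {x y : CategoricalPullback H I} (f : x ⟶ y) :
    ((FibCat.categoricalPullbackMap ψ).map f).snd = ψ.right.map f.snd := rfl

theorem cpMap_faithful [ψ.left.Faithful] [ψ.right.Faithful] :
    (FibCat.categoricalPullbackMap ψ).Faithful where
  map_injective h := CategoricalPullback.hom_ext
    (ψ.left.map_injective (congrArg CategoricalPullback.Hom.fst h))
    (ψ.right.map_injective (congrArg CategoricalPullback.Hom.snd h))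

theorem cpMap_full [ψ.left.Full] [ψ.right.Full] [ψ.base.Faithful] :
    (FibCat.categoricalPullbackMap ψ).Full where
  map_surjective {x y} f := by
    obtain ⟨f₁, h₁⟩ := ψ.left.map_surjective (X := x.fst) (Y := y.fst) f.fst
    obtain ⟨f₂, h₂⟩ := ψ.right.map_surjective (X := x.snd) (Y := y.snd) f.snd
    have hw := f.w
    rw [cpMap_iso, cpMap_iso, ← h₁, ← h₂] at hw
    have e₁ := ψ.squareLeft.iso.inv.naturality f₁
    have e₂ := ψ.squareRight.iso.hom.naturality f₂
    simp only [Functor.comp_map] at e₁ e₂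
    refine ⟨{ fst := f₁, snd := f₂, w := ψ.base.map_injective ?_ },
      CategoricalPullback.hom_ext h₁ h₂⟩
    rw [Functor.map_comp, Functor.map_comp, ← cancel_mono (ψ.squareRight.iso.hom.app y.snd),
      ← cancel_epi (ψ.squareLeft.iso.inv.app x.fst), Category.assoc, Category.assoc, e₂]
    refine Eq.trans ?_ (hw.trans (by simp only [Category.assoc]))
    rw [← Category.assoc (ψ.squareLeft.iso.inv.app x.fst), ← e₁]
    simp only [Category.assoc]

theorem cpMap_isEquivalence [ψ.left.IsEquivalence] [ψ.right.IsEquivalence] [ψ.base.Full]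
    [ψ.base.Faithful] : (FibCat.categoricalPullbackMap ψ).IsEquivalence where
  faithful := cpMap_faithful ψ
  full := cpMap_full ψ
  essSurj := ⟨fun z => by
    let e₁ := ψ.left.objObjPreimageIso z.fst
    let e₂ := ψ.right.objObjPreimageIso z.snd
    let i := ψ.base.preimageIso (ψ.squareLeft.iso.app (ψ.left.objPreimage z.fst) ≪≫
      F.mapIso e₁ ≪≫ z.iso ≪≫ G.mapIso e₂.symm ≪≫
      (ψ.squareRight.iso.app (ψ.right.objPreimage z.snd)).symm)
    refine ⟨{ fst := _, snd := _, iso := i }, ⟨CategoricalPullback.mkIso e₁ e₂ ?_⟩⟩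
    rw [cpMap_iso]
    simp only [i, Functor.preimageIso_hom, Functor.map_preimage]
    change _ = (ψ.squareLeft.iso.inv.app _ ≫ (ψ.squareLeft.iso.hom.app _ ≫ F.map e₁.hom ≫
      z.iso.hom ≫ G.map e₂.inv ≫ ψ.squareRight.iso.inv.app _) ≫
      ψ.squareRight.iso.hom.app _) ≫ G.map e₂.hom
    simp⟩

end Groth.Agent.Fib
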