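import Mathlib.CategoryTheory.NatIso
import Mathlib.CategoryTheory.EqToHom
import Groth.Prelude.Def_FibClv
import Groth.Agent.Fib.Basic

/-!
# Cleavages
-/

set_option autoImplicit false
set_option backward.isDefEq.respectTransparency false
set_option backward.isDefEq.respectTransparency.types false

open CategoryTheory CategoryTheory.Functor

universe v₁ v₂ v₃ u₁ u₂ u₃

namespace Groth.Agent.Fib

variable {𝒮 : Type u₁} {𝒳 : Type u₂} [Category.{v₁} 𝒮] [Category.{v₂} 𝒳] {p : 𝒳 ⥤ 𝒮}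
  (K : FibCat.Cleavage p)

theorem comp_app_fac {R S T : 𝒮} (f : T ⟶ S) (g : R ⟶ T) (a : p.Fiber S) :
    Fiber.fiberInclusion.map ((K.comp f g).app a) ≫ K.lift a.2 (g ≫ f) =
      K.lift (K.obj_proj a.2 f) g ≫ K.lift a.2 f := by
  rw [FibCat.Cleavage.comp_app]
  exact IsCartesian.fac p (g ≫ f) (K.lift a.2 (g ≫ f)) _

theorem congr_app_fac {R S : 𝒮} {f f' : R ⟶ S} (h : f = f') (a : p.Fiber S) :
    Fiber.fiberInclusion.map ((K.inverseImageCongr h).hom.app a) ≫ K.lift a.2 f' =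
      K.lift a.2 f := by
  subst h
  simp [FibCat.Cleavage.inverseImageCongr]

theorem inverseImage_map_fac {R S : 𝒮} (f : R ⟶ S) {a b : p.Fiber S} (φ : a ⟶ b) :
    Fiber.fiberInclusion.map ((K.inverseImage f).map φ) ≫ K.lift b.2 f =
      K.lift a.2 f ≫ Fiber.fiberInclusion.map φ := by
  rw [FibCat.Cleavage.inverseImage_map]
  exact IsCartesian.fac p f (K.lift b.2 f) _

theorem eq_of_comp_lift {R S : 𝒮} (f : R ⟶ S) {a : p.Fiber S} {c : p.Fiber R}
    (φ ψ : c ⟶ (K.inverseImage f).obj a)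
    (h : Fiber.fiberInclusion.map φ ≫ K.lift a.2 f = Fiber.fiberInclusion.map ψ ≫ K.lift a.2 f) :
    φ = ψ := by
  apply Fiber.hom_ext
  have : p.IsHomLift (𝟙 R) (Fiber.fiberInclusion.map φ) := φ.2
  have : p.IsHomLift (𝟙 R) (Fiber.fiberInclusion.map ψ) := ψ.2
  exact IsCartesian.ext p f (K.lift a.2 f) _ _ h

theorem comp_id_app {S T : 𝒮} (f : T ⟶ S) (a : p.Fiber S) :
    Fiber.fiberInclusion.map ((K.comp f (𝟙 T)).app a ≫
      (K.inverseImageCongr (Category.id_comp f)).hom.app a) =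
      (K.transport (𝟙 T)).app ((K.inverseImage f).obj a) := by
  refine congrArg Subtype.val (eq_of_comp_lift K f
    ((K.comp f (𝟙 T)).app a ≫ (K.inverseImageCongr (Category.id_comp f)).hom.app a)
    (Fiber.homMk p T ((K.transport (𝟙 T)).app ((K.inverseImage f).obj a))) ?_)
  rw [Functor.map_comp, Category.assoc, congr_app_fac, comp_app_fac]
  rfl

theorem comp_id_left_app {S T : 𝒮} (f : T ⟶ S) (a : p.Fiber S) :
    (K.comp (𝟙 S) f).app a ≫ (K.inverseImageCongr (Category.comp_id f)).hom.app a =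
      (K.inverseImage f).map (Fiber.homMk p S (K.lift a.2 (𝟙 S))) := by
  refine eq_of_comp_lift K f _ _ ?_
  rw [Functor.map_comp, Category.assoc, congr_app_fac, comp_app_fac]
  exact (inverseImage_map_fac K f (Fiber.homMk p S (K.lift a.2 (𝟙 S)))).symm

theorem comp_cocycle {S T U V : 𝒮} (f : T ⟶ S) (g : U ⟶ T) (h : V ⟶ U) :
    whiskerLeft (K.inverseImage f) (K.comp g h) ≫ K.comp f (h ≫ g) ≫
      (K.inverseImageCongr (Category.assoc h g f)).hom =
      whiskerRight (K.comp f g) (K.inverseImage h) ≫ K.comp (g ≫ f) h := by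
  apply NatTrans.ext
  funext a
  refine eq_of_comp_lift K (h ≫ g ≫ f) _ _ ?_
  simp only [NatTrans.comp_app, whiskerLeft_app, whiskerRight_app, Functor.map_comp,
    Category.assoc]
  rw [congr_app_fac, comp_app_fac]
  refine ((Category.assoc _ _ _).symm.trans (congrArg (· ≫ K.lift a.2 f)
    (comp_app_fac K g h ((K.inverseImage f).obj a)))).trans ?_
  rw [comp_app_fac]
  exact (Category.assoc _ _ _).trans ((congrArg (K.lift _ h ≫ ·) (comp_app_fac K f g a).symm).trans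
    ((Category.assoc _ _ _).symm.trans ((congrArg (· ≫ K.lift a.2 (g ≫ f))
      (inverseImage_map_fac K h ((K.comp f g).app a)).symm).trans (Category.assoc _ _ _))))

theorem fiber_isIso {S : 𝒮} {a b : p.Fiber S} (φ : a ⟶ b)
    [IsIso (Fiber.fiberInclusion.map φ)] : IsIso φ := by
  have : p.IsHomLift (𝟙 S) φ.1 := φ.2
  have : IsIso φ.1 := ‹IsIso (Fiber.fiberInclusion.map φ)›
  exact ⟨⟨⟨inv φ.1, inferInstance⟩, Subtype.ext (IsIso.hom_inv_id _),
    Subtype.ext (IsIso.inv_hom_id _)⟩⟩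

theorem isFibered_iff_isIso_comp :
    p.IsFibered ↔ ∀ (R S T : 𝒮) (f : T ⟶ S) (g : R ⟶ T), IsIso (K.comp f g) := by
  constructor
  · intro _ R S T f g
    rw [NatTrans.isIso_iff_isIso_app]
    intro a
    have hc : p.IsCartesian (g ≫ f) (K.lift (K.obj_proj a.2 f) g ≫ K.lift a.2 f) := inferInstance
    have : IsIso (Fiber.fiberInclusion.map ((K.comp f g).app a)) := by
      rw [FibCat.Cleavage.comp_app]
      exact (IsCartesian.domainUniqueUpToIso p (g ≫ f) (K.lift a.2 (g ≫ f))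
        (K.lift (K.obj_proj a.2 f) g ≫ K.lift a.2 f)).isIso_hom
    exact fiber_isIso _
  · intro h
    have := K.isPreFibered
    refine { comp := fun {R T S} g f {c b a} ψ φ _ _ => ?_ }
    have ha : p.obj a = S := IsHomLift.codomain_eq p f φ
    let A : p.Fiber S := ⟨a, ha⟩
    let iφ : b ≅ K.obj ha f := IsCartesian.domainUniqueUpToIso p f (K.lift ha f) φ
    have hφ : iφ.hom ≫ K.lift ha f = φ := IsCartesian.fac p f (K.lift ha f) φ
    let iψ : c ≅ K.obj (K.obj_proj ha f) g :=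
      IsCartesian.domainUniqueUpToIso p g (K.lift (K.obj_proj ha f) g) (ψ ≫ iφ.hom)
    have hψ : iψ.hom ≫ K.lift (K.obj_proj ha f) g = ψ ≫ iφ.hom :=
      IsCartesian.fac p g (K.lift (K.obj_proj ha f) g) (ψ ≫ iφ.hom)
    have := h R S T f g
    let j : K.obj (K.obj_proj ha f) g ≅ K.obj ha (g ≫ f) :=
      Fiber.fiberInclusion.mapIso (asIso ((K.comp f g).app A))
    have hj : p.IsHomLift (𝟙 R) j.hom := ((K.comp f g).app A).2
    have hi : p.IsHomLift (𝟙 R) (iψ ≪≫ j).hom := by rw [Iso.trans_hom]; infer_instance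
    have e : (iψ ≪≫ j).hom ≫ K.lift ha (g ≫ f) = ψ ≫ φ := by
      rw [Iso.trans_hom, Category.assoc,
        show j.hom ≫ K.lift ha (g ≫ f) = _ from comp_app_fac K f g A]
      rw [← hφ, ← Category.assoc ψ, ← hψ, Category.assoc]
    rw [← e]
    infer_instance

theorem exists_isNormalised [p.IsPreFibered] : ∃ K : FibCat.Cleavage p, K.IsNormalised := by
  classical
  have hex : ∀ (R S : 𝒮) (a : 𝒳) (ha : p.obj a = S) (f : R ⟶ S),
      ∃ x : Σ b : 𝒳, (b ⟶ a), p.IsCartesian f x.2 ∧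
        (∀ e : R = S, f = eqToHom e → ∃ h : x.1 = a, x.2 = eqToHom h) := by
    intro R S a ha f
    by_cases he : ∃ e : R = S, f = eqToHom e
    · obtain ⟨e, rfl⟩ := he
      subst e ha
      rw [eqToHom_refl]
      exact ⟨⟨a, 𝟙 a⟩, inferInstance, fun e _ => ⟨rfl, rfl⟩⟩
    · exact ⟨⟨IsPreFibered.pullbackObj ha f, IsPreFibered.pullbackMap ha f⟩,
        IsPreFibered.pullbackMap.IsCartesian ha f, fun e h => absurd ⟨e, h⟩ he⟩
  choose x hx hn using hex
  refine ⟨{ obj := fun {R S a} ha f => (x R S a ha f).1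
            lift := fun {R S a} ha f => (x R S a ha f).2
            isCartesian := fun {R S a} ha f => hx R S a ha f }, fun S a ha => ?_⟩
  exact hn S S a ha (𝟙 S) rfl rfl

theorem inverseImage_isEquivalence [p.IsFibered] {S T : 𝒮} (f : T ⟶ S) [IsIso f] :
    (K.inverseImage f).IsEquivalence := by
  have hiso : ∀ a : p.Fiber S, IsIso (K.lift a.2 f) := fun a =>
    IsStronglyCartesian.isIso_of_base_isIso p f (K.lift a.2 f)
  refine { faithful := ⟨fun {a b} φ ψ h => ?_⟩, full := ⟨fun {a b} φ => ?_⟩,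
           essSurj := ⟨fun c => ?_⟩ }
  · apply Fiber.hom_ext
    have := hiso a
    rw [← cancel_epi (K.lift a.2 f), ← inverseImage_map_fac, ← inverseImage_map_fac, h]
  · have := hiso a
    have : p.IsHomLift (𝟙 T) φ.1 := φ.2
    have h₁ : p.IsHomLift (inv f) (inv (K.lift a.2 f)) := inferInstance
    have h₂ : p.IsHomLift f (φ.1 ≫ K.lift b.2 f) :=
      IsHomLift.comp_lift_id_left p f (K.lift b.2 f) φ.1
    have h₃ : p.IsHomLift (𝟙 S) (inv (K.lift a.2 f) ≫ φ.1 ≫ K.lift b.2 f) := by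
      rw [← IsIso.inv_hom_id f]
      infer_instance
    refine ⟨⟨inv (K.lift a.2 f) ≫ φ.1 ≫ K.lift b.2 f, h₃⟩, eq_of_comp_lift K f _ _ ?_⟩
    rw [inverseImage_map_fac]
    exact IsIso.hom_inv_id_assoc _ _
  · obtain ⟨a, l, hl⟩ := IsPreFibered.exists_isCartesian p c.2 (inv f)
    have : IsIso l := IsStronglyCartesian.isIso_of_base_isIso p (inv f) l
    have ha : p.obj a = S := IsHomLift.domain_eq p (inv f) l
    let A : p.Fiber S := ⟨a, ha⟩
    have := hiso A
    have h₁ : p.IsHomLift (f ≫ inv f) (K.lift ha f ≫ l) := inferInstance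
    rw [IsIso.hom_inv_id] at h₁
    have : IsIso (K.lift ha f ≫ l) := by
      have : IsIso (K.lift ha f) := hiso A
      infer_instance
    refine ⟨A, ⟨fiberIso p (asIso (K.lift ha f ≫ l)) ?_⟩⟩
    exact h₁

theorem existsUnique_natTrans {D : Type u₃} [Category.{v₃} D] (F G : 𝒳 ⥤ D)
    (u : ∀ S : 𝒮, (Fiber.fiberInclusion ⋙ F : p.Fiber S ⥤ D) ⟶ Fiber.fiberInclusion ⋙ G)
    (hu : ∀ ⦃T S : 𝒮⦄ (f : T ⟶ S) (a : p.Fiber S),
      F.map ((K.transport f).app a) ≫ (u S).app a =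
        (u T).app ((K.inverseImage f).obj a) ≫ G.map ((K.transport f).app a)) :
    ∃! v : F ⟶ G, ∀ (S : 𝒮) (a : p.Fiber S), v.app a.1 = (u S).app a := by
  let w : ∀ a, F.obj a ⟶ G.obj a := fun a => (u (p.obj a)).app (Fiber.mk rfl)
  have key : ∀ (S : 𝒮) (a : p.Fiber S), w a.1 = (u S).app a := by
    rintro S ⟨a, rfl⟩
    rfl
  refine ⟨{ app := w, naturality := fun b a φ => ?_ }, key, fun v' hv' => ?_⟩
  · let A : p.Fiber (p.obj a) := Fiber.mk rfl
    let χ := IsCartesian.map p (p.map φ) (K.lift A.2 (p.map φ)) φ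
    have hχ : χ ≫ K.lift A.2 (p.map φ) = φ := IsCartesian.fac _ _ _ _
    let χ' : (Fiber.mk rfl : p.Fiber (p.obj b)) ⟶ (K.inverseImage (p.map φ)).obj A :=
      ⟨χ, IsCartesian.map_isHomLift p (p.map φ) (K.lift A.2 (p.map φ)) φ⟩
    have h₁ : F.map χ ≫ (u (p.obj b)).app ((K.inverseImage (p.map φ)).obj A) = w b ≫ G.map χ :=
      (u (p.obj b)).naturality χ'
    have h₂ : F.map (K.lift A.2 (p.map φ)) ≫ w a =
        (u (p.obj b)).app ((K.inverseImage (p.map φ)).obj A) ≫ G.map (K.lift A.2 (p.map φ)) :=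
      hu (p.map φ) A
    calc F.map φ ≫ w a = F.map (χ ≫ K.lift A.2 (p.map φ)) ≫ w a := by rw [hχ]
      _ = F.map χ ≫ (u (p.obj b)).app ((K.inverseImage (p.map φ)).obj A) ≫
            G.map (K.lift A.2 (p.map φ)) := by rw [← h₂, Functor.map_comp, Category.assoc]
      _ = w b ≫ G.map χ ≫ G.map (K.lift A.2 (p.map φ)) := by rw [reassoc_of% h₁]
      _ = w b ≫ G.map φ := by rw [← Functor.map_comp, hχ]
  · exact NatTrans.ext (funext fun a => hv' _ (Fiber.mk rfl))

end Groth.Agent.Fib
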