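import Mathlib.CategoryTheory.FiberedCategory.Fibered
import Mathlib.CategoryTheory.FiberedCategory.Cocartesian

/-!
# Fibred versus cofibred for prefibred and co-prefibred functors
-/

set_option autoImplicit false

open CategoryTheory CategoryTheory.Functor Opposite

universe v₂ u₂ v u

namespace Groth.Agent.Fib

variable {C : Type u} [Category.{v} C] {X : Type u₂} [Category.{v₂} X] (p : X ⥤ C)

theorem isHomLift_op_iff {R S : C} {a b : X} (f : R ⟶ S) (φ : a ⟶ b) :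
    p.op.IsHomLift f.op φ.op ↔ p.IsHomLift f φ := by
  constructor
  · intro h
    have hb : op (p.obj b) = op S := IsHomLift.domain_eq p.op f.op φ.op
    have ha : op (p.obj a) = op R := IsHomLift.codomain_eq p.op f.op φ.op
    obtain rfl := op_injective hb
    obtain rfl := op_injective ha
    have := IsHomLift.eq_of_isHomLift p.op f.op φ.op
    obtain rfl : f = p.map φ := Quiver.Hom.op_inj this
    exact IsHomLift.map p φ
  · intro h
    subst_hom_lift p f φ
    exact IsHomLift.map p.op φ.op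

theorem isFibered_op_of_isFibered [hp : p.IsFibered] [p.op.IsPreFibered] : p.op.IsFibered where
  exists_isCartesian' {a R} f := IsPreFibered.exists_isCartesian' (p := p.op) f
  comp {R S T} f g {a b c} φ ψ hφ hψ := by
    obtain ⟨a⟩ := a; obtain ⟨b⟩ := b; obtain ⟨c⟩ := c
    obtain ⟨R⟩ := R; obtain ⟨S⟩ := S; obtain ⟨T⟩ := T
    obtain ⟨f, rfl⟩ : ∃ f' : S ⟶ R, f = f'.op := ⟨f.unop, rfl⟩
    obtain ⟨g, rfl⟩ : ∃ g' : T ⟶ S, g = g'.op := ⟨g.unop, rfl⟩
    obtain ⟨φ, rfl⟩ : ∃ φ' : b ⟶ a, φ = φ'.op := ⟨φ.unop, rfl⟩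
    obtain ⟨ψ, rfl⟩ : ∃ ψ' : c ⟶ b, ψ = ψ'.op := ⟨ψ.unop, rfl⟩
    have hφ' : p.IsHomLift f φ := (isHomLift_op_iff p f φ).1 hφ.toIsHomLift
    have hψ' : p.IsHomLift g ψ := (isHomLift_op_iff p g ψ).1 hψ.toIsHomLift
    haveI : p.op.IsHomLift (f.op ≫ g.op) (φ.op ≫ ψ.op) :=
      (isHomLift_op_iff p (g ≫ f) (ψ ≫ φ)).2 inferInstance
    refine { universal_property := fun {a'} θ hθ => ?_ }
    obtain ⟨a'⟩ := a'
    obtain ⟨θ, rfl⟩ : ∃ θ' : c ⟶ a', θ = θ'.op := ⟨θ.unop, rfl⟩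
    have hθ' : p.IsHomLift (g ≫ f) θ := (isHomLift_op_iff p (g ≫ f) θ).1 hθ
    have hR : p.obj a' = R := IsHomLift.codomain_eq p (g ≫ f) θ
    obtain ⟨b', m, hm⟩ := IsPreFibered.exists_isCartesian p hR f
    have : p.IsStronglyCartesian f m := inferInstance
    let θ₁ : c ⟶ b' := IsStronglyCartesian.map p f m (g := g) (f' := g ≫ f) rfl θ
    have hθ₁ : θ₁ ≫ m = θ := IsStronglyCartesian.fac p f m rfl θ
    -- factor through the cocartesian lift of `g`
    have hθ₁' : p.op.IsHomLift g.op θ₁.op := (isHomLift_op_iff p g θ₁).2 inferInstance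
    obtain ⟨χ₁, ⟨hχ₁, hχ₁'⟩, huniq₁⟩ := hψ.universal_property θ₁.op
    have hχ₁'' : p.IsHomLift (𝟙 S) χ₁.unop := (isHomLift_op_iff p (𝟙 S) χ₁.unop).1 hχ₁
    have hχm : p.IsHomLift f (χ₁.unop ≫ m) := by
      have : p.IsHomLift (𝟙 S ≫ f) (χ₁.unop ≫ m) := inferInstance
      simpa using this
    haveI : p.op.IsHomLift f.op (χ₁.unop ≫ m).op := (isHomLift_op_iff p f _).2 hχm
    obtain ⟨χ, ⟨hχ, hχ'⟩, huniq⟩ := hφ.universal_property (χ₁.unop ≫ m).op
    have hχ'' : φ ≫ χ.unop = χ₁.unop ≫ m := congrArg Quiver.Hom.unop hχ'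
    refine ⟨χ, ⟨hχ, Quiver.Hom.unop_inj ?_⟩, ?_⟩
    · change (ψ ≫ φ) ≫ χ.unop = θ
      rw [Category.assoc, hχ'', ← Category.assoc, show ψ ≫ χ₁.unop = θ₁ from
        congrArg Quiver.Hom.unop hχ₁', hθ₁]
    · rintro n ⟨hn, hn'⟩
      have hn'' : (ψ ≫ φ) ≫ n.unop = θ := congrArg Quiver.Hom.unop hn'
      have hnl : p.IsHomLift (𝟙 R) n.unop := (isHomLift_op_iff p (𝟙 R) n.unop).1 hn
      refine huniq n ⟨hn, Quiver.Hom.unop_inj ?_⟩
      change φ ≫ n.unop = χ₁.unop ≫ m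
      have hφn : p.IsHomLift f (φ ≫ n.unop) := by
        have : p.IsHomLift (f ≫ 𝟙 R) (φ ≫ n.unop) := inferInstance
        simpa using this
      let k : b ⟶ b' := IsStronglyCartesian.map p f m (g := 𝟙 S) (f' := f)
        (Category.id_comp f).symm (φ ≫ n.unop)
      have hk : k ≫ m = φ ≫ n.unop := IsStronglyCartesian.fac p f m _ _
      have hgk : p.IsHomLift g (ψ ≫ k) := by
        have : p.IsHomLift (g ≫ 𝟙 S) (ψ ≫ k) := inferInstance
        simpa using this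
      have hk' : ψ ≫ k = θ₁ := IsStronglyCartesian.map_uniq p f m rfl θ (ψ ≫ k)
        (by rw [Category.assoc, hk, ← Category.assoc, hn''])
      have : χ₁ = k.op := (huniq₁ k.op ⟨(isHomLift_op_iff p (𝟙 S) k).2 inferInstance,
        Quiver.Hom.unop_inj hk'⟩).symm
      rw [this, Quiver.Hom.unop_op, hk]

theorem isFibered_of_isFibered_op [hp : p.op.IsFibered] [p.IsPreFibered] : p.IsFibered where
  exists_isCartesian' {a R} f := IsPreFibered.exists_isCartesian' (p := p) f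
  comp {R S T} f g {a b c} φ ψ hφ hψ := by
    haveI : p.IsHomLift f φ := hφ.toIsHomLift
    haveI : p.IsHomLift g ψ := hψ.toIsHomLift
    refine { universal_property := fun {a'} θ hθ => ?_ }
    have hR : p.obj a' = R := IsHomLift.domain_eq p (f ≫ g) θ
    obtain ⟨b', m, hm⟩ := IsPreFibered.exists_isCartesian p.op (a := op a') (congrArg op hR) f.op
    have : p.op.IsStronglyCartesian f.op m := inferInstance
    haveI : p.op.IsHomLift (g.op ≫ f.op) θ.op := (isHomLift_op_iff p (f ≫ g) θ).2 hθ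
    let θ₁ : op c ⟶ b' :=
      IsStronglyCartesian.map p.op f.op m (g := g.op) (f' := g.op ≫ f.op) rfl θ.op
    have hθ₁ : θ₁ ≫ m = θ.op := IsStronglyCartesian.fac p.op f.op m rfl θ.op
    have hθ₁' : p.IsHomLift g θ₁.unop := (isHomLift_op_iff p g θ₁.unop).1 (inferInstanceAs
      (p.op.IsHomLift g.op θ₁))
    obtain ⟨χ₁, ⟨hχ₁, hχ₁'⟩, huniq₁⟩ := hψ.universal_property θ₁.unop
    have hm' : p.IsHomLift f m.unop := (isHomLift_op_iff p f m.unop).1 (inferInstanceAs
      (p.op.IsHomLift f.op m))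
    have hχm : p.IsHomLift f (m.unop ≫ χ₁) := by
      have : p.IsHomLift (f ≫ 𝟙 S) (m.unop ≫ χ₁) := inferInstance
      simpa using this
    obtain ⟨χ, ⟨hχ, hχ'⟩, huniq⟩ := hφ.universal_property (m.unop ≫ χ₁)
    refine ⟨χ, ⟨hχ, ?_⟩, ?_⟩
    · rw [← Category.assoc, hχ', Category.assoc, hχ₁']
      exact congrArg Quiver.Hom.unop hθ₁
    · rintro n ⟨hn, hn'⟩
      refine huniq n ⟨hn, ?_⟩
      have hnφ : p.IsHomLift f (n ≫ φ) := by
        have : p.IsHomLift (𝟙 R ≫ f) (n ≫ φ) := inferInstance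
        simpa using this
      haveI : p.op.IsHomLift f.op (n ≫ φ).op := (isHomLift_op_iff p f _).2 hnφ
      let k : op b ⟶ b' := IsStronglyCartesian.map p.op f.op m (g := 𝟙 (op S)) (f' := f.op)
        (Category.id_comp _).symm (n ≫ φ).op
      have hk : k ≫ m = (n ≫ φ).op := IsStronglyCartesian.fac p.op f.op m _ _
      have hkl : p.IsHomLift (𝟙 S) k.unop := (isHomLift_op_iff p (𝟙 S) k.unop).1 (inferInstanceAs
        (p.op.IsHomLift (𝟙 (op S)) k))
      have hgk : p.op.IsHomLift g.op (ψ.op ≫ k) := by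
        have : p.IsHomLift (𝟙 S ≫ g) (k.unop ≫ ψ) := inferInstance
        exact (isHomLift_op_iff p g (k.unop ≫ ψ)).2 (by simpa using this)
      have hk' : ψ.op ≫ k = θ₁ := IsStronglyCartesian.map_uniq p.op f.op m rfl θ.op (ψ.op ≫ k)
        (by rw [Category.assoc, hk, ← op_comp, Category.assoc, hn'])
      have : k.unop = χ₁ := huniq₁ k.unop ⟨hkl, congrArg Quiver.Hom.unop hk'⟩
      rw [← this]
      exact (congrArg Quiver.Hom.unop hk).symm

end Groth.Agent.Fib
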