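import Groth.Agent.Fib.Fp

/-!
# Composites of fibrations, categories fibred in sets
-/

set_option autoImplicit false
set_option backward.isDefEq.respectTransparency false
set_option backward.isDefEq.respectTransparency.types false

open CategoryTheory CategoryTheory.Functor

universe v₃ u₃ v₂ u₂ v u

namespace Groth.Agent.Fib

variable {C : Type u} [Category.{v} C] {𝒢 : Type u₂} [Category.{v₂} 𝒢] {ℱ : Type u₃}
  [Category.{v₃} ℱ] (F : ℱ ⥤ 𝒢) (G : 𝒢 ⥤ C)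

theorem isHomLift_comp_iff {R S : C} {a b : ℱ} (f : R ⟶ S) (φ : a ⟶ b) :
    (F ⋙ G).IsHomLift f φ ↔ G.IsHomLift f (F.map φ) := by
  constructor <;> intro h
  · exact IsHomLift.of_fac G f _ (IsHomLift.domain_eq (F ⋙ G) f φ)
      (IsHomLift.codomain_eq (F ⋙ G) f φ) (IsHomLift.fac (F ⋙ G) f φ)
  · exact IsHomLift.of_fac (F ⋙ G) f _ (IsHomLift.domain_eq G f (F.map φ))
      (IsHomLift.codomain_eq G f (F.map φ)) (IsHomLift.fac G f (F.map φ))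

theorem isStronglyCartesian_comp {R S : 𝒢} {P Q : C} {a b : ℱ} (g : R ⟶ S) (φ : a ⟶ b)
    (f : P ⟶ Q) [hF : F.IsStronglyCartesian g φ] [hG : G.IsStronglyCartesian f g] :
    (F ⋙ G).IsStronglyCartesian f φ := by
  subst_hom_lift F g φ
  have : (F ⋙ G).IsHomLift f φ := (isHomLift_comp_iff F G f φ).2 inferInstance
  refine { universal_property' := fun {a'} h φ' _ => ?_ }
  have : G.IsHomLift (h ≫ f) (F.map φ') := (isHomLift_comp_iff F G _ φ').1 inferInstance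
  obtain ⟨k, ⟨hk, hk'⟩, huk⟩ :=
    IsStronglyCartesian.universal_property G f (F.map φ) h (h ≫ f) rfl (F.map φ')
  obtain ⟨χ, ⟨hχ, hχ'⟩, huχ⟩ :=
    IsStronglyCartesian.universal_property F (F.map φ) φ k (F.map φ') hk'.symm φ'
  have hχk : F.map χ = k := (IsHomLift.eq_of_isHomLift F k χ).symm
  refine ⟨χ, ⟨(isHomLift_comp_iff F G h χ).2 (hχk ▸ hk), hχ'⟩, ?_⟩
  rintro χ₂ ⟨h₂, h₂'⟩
  have hk₂ : F.map χ₂ = k :=
    huk _ ⟨(isHomLift_comp_iff F G h χ₂).1 h₂, by rw [← Functor.map_comp, h₂']⟩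
  exact huχ χ₂ ⟨hk₂ ▸ inferInstance, h₂'⟩

theorem isStronglyCartesian_of_comp (hG : FibCat.IsFibGrpd G) {R S : 𝒢} {P Q : C} {a b : ℱ}
    (g : R ⟶ S) (φ : a ⟶ b) (f : P ⟶ Q) [F.IsHomLift g φ]
    [hFG : (F ⋙ G).IsStronglyCartesian f φ] : F.IsStronglyCartesian g φ := by
  obtain rfl := IsHomLift.domain_eq F g φ
  obtain rfl := IsHomLift.codomain_eq F g φ
  obtain rfl := IsHomLift.eq_of_isHomLift F g φ
  have hl : G.IsHomLift f (F.map φ) := (isHomLift_comp_iff F G f φ).1 inferInstance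
  have := isStronglyCartesian_of_isFibGrpd G hG f (F.map φ)
  refine { universal_property' := fun {a'} z φ' hφ' => ?_ }
  have hz : z ≫ F.map φ = F.map φ' := IsHomLift.eq_of_isHomLift F _ φ'
  have hP : G.obj (F.obj a) = P := IsHomLift.domain_eq (F ⋙ G) f φ
  have hzl : G.IsHomLift (G.map z ≫ eqToHom hP) z := inferInstance
  have : G.IsHomLift ((G.map z ≫ eqToHom hP) ≫ f) (F.map φ') := hz ▸ inferInstance
  have : (F ⋙ G).IsHomLift ((G.map z ≫ eqToHom hP) ≫ f) φ' :=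
    (isHomLift_comp_iff F G _ _).2 inferInstance
  obtain ⟨χ, ⟨hχ, hχ'⟩, huχ⟩ := IsStronglyCartesian.universal_property (F ⋙ G) f φ
    (G.map z ≫ eqToHom hP) _ rfl φ'
  have : G.IsHomLift (G.map z ≫ eqToHom hP) (F.map χ) := (isHomLift_comp_iff F G _ χ).1 hχ
  have hχz : F.map χ = z := by
    refine IsStronglyCartesian.ext G f (F.map φ) (G.map z ≫ eqToHom hP) ?_
    rw [← Functor.map_comp, hχ', hz]
  refine ⟨χ, ⟨hχz ▸ inferInstance, hχ'⟩, ?_⟩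
  rintro χ₂ ⟨h₂, h₂'⟩
  refine huχ χ₂ ⟨(isHomLift_comp_iff F G _ χ₂).2 ?_, h₂'⟩
  rw [(IsHomLift.eq_of_isHomLift F z χ₂).symm]
  exact hzl

theorem isFibered_comp [F.IsFibered] [G.IsFibered] : (F ⋙ G).IsFibered := by
  refine IsFibered.of_exists_isStronglyCartesian fun a R f => ?_
  obtain ⟨b, g, hg⟩ := IsPreFibered.exists_isCartesian G (a := F.obj a) rfl f
  obtain ⟨c, φ, hφ⟩ := IsPreFibered.exists_isCartesian F rfl g
  exact ⟨c, φ, isStronglyCartesian_comp F G g φ f⟩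

theorem isFibGrpd_comp (hF : FibCat.IsFibGrpd F) (hG : FibCat.IsFibGrpd G) :
    FibCat.IsFibGrpd (F ⋙ G) where
  exists_lift := fun {x} {V} f => by
    obtain ⟨b, g, hg⟩ := hG.exists_lift (x := F.obj x) f
    obtain ⟨c, φ, hφ⟩ := exists_lift F hF rfl g
    refine ⟨c, φ, (isHomLift_comp_iff F G f φ).2 ?_⟩
    obtain rfl := IsHomLift.domain_eq F g φ
    obtain rfl := IsHomLift.eq_of_isHomLift F g φ
    exact hg
  isStronglyCartesian := fun {y x} φ => by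
    have := hF.isStronglyCartesian φ
    have : G.IsStronglyCartesian ((F ⋙ G).map φ) (F.map φ) := hG.isStronglyCartesian (F.map φ)
    exact isStronglyCartesian_comp F G (F.map φ) φ ((F ⋙ G).map φ)

/-- Categories fibred in sets have unique lifts. -/
theorem existsUnique_lift (hG : FibCat.IsFibSet G) (η : 𝒢) (U : C) (f : U ⟶ G.obj η) :
    ∃! φ : (Σ ξ : 𝒢, (ξ ⟶ η)), G.IsHomLift f φ.2 := by
  obtain ⟨y, φ, hφ⟩ := hG.1.exists_lift f
  refine ⟨⟨y, φ⟩, hφ, ?_⟩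
  rintro ⟨z, ψ⟩ (hψ : G.IsHomLift f ψ)
  have := isStronglyCartesian_of_isFibGrpd G hG.1 f φ
  let χ := IsCartesian.map G f φ ψ
  have hz : G.obj z = U := IsHomLift.domain_eq G f ψ
  have hy : G.obj y = U := IsHomLift.domain_eq G f φ
  have := hG.2 U
  let χ' : Fiber.mk hz ⟶ Fiber.mk hy := ⟨χ, IsCartesian.map_isHomLift G f φ ψ⟩
  have e : Fiber.mk hz = Fiber.mk hy := IsDiscrete.eq_of_hom χ'
  have e' : z = y := congrArg Subtype.val e
  subst e'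
  have h1 : χ' = 𝟙 _ := Subsingleton.elim _ _
  have h2 : χ = 𝟙 z := congrArg Subtype.val h1
  have h3 : χ ≫ φ = ψ := IsCartesian.fac G f φ ψ
  rw [h2, Category.id_comp] at h3
  rw [h3]

theorem isFibSet_of_existsUnique_lift
    (h : ∀ (η : 𝒢) (U : C) (f : U ⟶ G.obj η), ∃! φ : (Σ ξ : 𝒢, (ξ ⟶ η)), G.IsHomLift f φ.2) :
    FibCat.IsFibSet G := by
  have key : ∀ {η z z' : 𝒢} {U S : C} (f : U ⟶ S) (φ : z ⟶ η) (ψ : z' ⟶ η) [G.IsHomLift f φ]
      [G.IsHomLift f ψ], (⟨z, φ⟩ : Σ ξ : 𝒢, (ξ ⟶ η)) = ⟨z', ψ⟩ := by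
    intro η z z' U S f φ ψ hφ hψ
    obtain rfl := IsHomLift.codomain_eq G f φ
    exact (h η U f).unique hφ hψ
  refine ⟨⟨fun {x} {V} f => ?_, fun {y x} φ => ⟨fun {a'} g φ' hφ' => ?_⟩⟩, fun U => ⟨?_, ?_⟩⟩
  · obtain ⟨φ, hφ, -⟩ := h x V f
    exact ⟨φ.1, φ.2, hφ⟩
  · obtain ⟨⟨z, χ⟩, hχ, hu⟩ := h y _ g
    have hχ' : G.IsHomLift (g ≫ G.map φ) (χ ≫ φ) :=
      @IsHomLift.comp _ _ _ _ G _ _ _ _ _ _ g (G.map φ) χ φ hχ inferInstance
    have e := key (g ≫ G.map φ) (χ ≫ φ) φ'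
    cases e
    refine ⟨χ, ⟨hχ, rfl⟩, fun χ₂ ⟨h₂, _⟩ => ?_⟩
    exact eq_of_heq (Sigma.mk.inj_iff.1 (hu ⟨_, χ₂⟩ h₂)).2
  · rintro ⟨a, ha⟩ ⟨b, hb⟩
    refine ⟨fun φ ψ => Subtype.ext ?_⟩
    have := φ.2
    have := ψ.2
    exact eq_of_heq (Sigma.mk.inj_iff.1 (key (𝟙 U) φ.1 ψ.1)).2
  · rintro ⟨a, ha⟩ ⟨b, hb⟩ φ
    have := φ.2
    have : G.IsHomLift (𝟙 U) (𝟙 b) := IsHomLift.id hb
    exact Subtype.ext (congrArg Sigma.fst (key (𝟙 U) φ.1 (𝟙 b)))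

theorem isFibSet_iff_existsUnique_lift : FibCat.IsFibSet G ↔
    ∀ (η : 𝒢) (U : C) (f : U ⟶ G.obj η), ∃! φ : (Σ ξ : 𝒢, (ξ ⟶ η)), G.IsHomLift f φ.2 :=
  ⟨existsUnique_lift G, isFibSet_of_existsUnique_lift G⟩

theorem eq_of_isFibSet (hG : FibCat.IsFibSet G) {η z z' : 𝒢} {U S : C} (f : U ⟶ S) (φ : z ⟶ η)
    (ψ : z' ⟶ η) [hφ : G.IsHomLift f φ] [hψ : G.IsHomLift f ψ] :
    (⟨z, φ⟩ : Σ ξ : 𝒢, (ξ ⟶ η)) = ⟨z', ψ⟩ := by
  obtain rfl := IsHomLift.codomain_eq G f φ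
  exact (existsUnique_lift G hG η U f).unique hφ hψ

theorem exists_lift_of_comp (hG : FibCat.IsFibSet G) {a : ℱ} {R : 𝒢} (g : R ⟶ F.obj a)
    (b : ℱ) (φ : b ⟶ a) [(F ⋙ G).IsHomLift (G.map g) φ] : F.IsHomLift g φ := by
  have := (isHomLift_comp_iff F G (G.map g) φ).1 inferInstance
  have e := eq_of_isFibSet G hG (G.map g) g (F.map φ)
  cases e
  infer_instance

theorem isFibered_iff_comp (hG : FibCat.IsFibSet G) : F.IsFibered ↔ (F ⋙ G).IsFibered := by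
  constructor
  · intro _
    have := isFibered_of_isFibGrpd G hG.1
    exact isFibered_comp F G
  · intro _
    refine IsFibered.of_exists_isStronglyCartesian fun a R g => ?_
    obtain ⟨b, φ, hφ⟩ := IsPreFibered.exists_isCartesian (F ⋙ G) (a := a) rfl (G.map g)
    have := exists_lift_of_comp F G hG g b φ
    exact ⟨b, φ, isStronglyCartesian_of_comp F G hG.1 g φ (G.map g)⟩

theorem isFibGrpd_iff_comp (hG : FibCat.IsFibSet G) :
    FibCat.IsFibGrpd F ↔ FibCat.IsFibGrpd (F ⋙ G) := by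
  refine ⟨fun h => isFibGrpd_comp F G h hG.1, fun h => ⟨fun {x} {V} g => ?_, fun {y x} φ => ?_⟩⟩
  · obtain ⟨b, φ, hφ⟩ := h.exists_lift (x := x) (G.map g)
    exact ⟨b, φ, exists_lift_of_comp F G hG g b φ⟩
  · have := h.isStronglyCartesian φ
    exact isStronglyCartesian_of_comp F G hG.1 (F.map φ) φ ((F ⋙ G).map φ)

theorem isFibSet_iff_comp (hG : FibCat.IsFibSet G) :
    FibCat.IsFibSet F ↔ FibCat.IsFibSet (F ⋙ G) := by
  constructor
  · intro hF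
    refine isFibSet_of_existsUnique_lift (F ⋙ G) fun η U f => ?_
    obtain ⟨⟨R, g⟩, hg : G.IsHomLift f g, hgu⟩ := existsUnique_lift G hG (F.obj η) U f
    obtain ⟨⟨c, φ⟩, hφ : F.IsHomLift g φ, hφu⟩ := existsUnique_lift F hF η R g
    refine ⟨⟨c, φ⟩, ?_, ?_⟩
    · refine (isHomLift_comp_iff F G f φ).2 ?_
      obtain rfl := IsHomLift.domain_eq F g φ
      obtain rfl := IsHomLift.eq_of_isHomLift F g φ
      exact hg
    · rintro ⟨c', φ'⟩ (hφ' : (F ⋙ G).IsHomLift f φ')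
      have e := hgu ⟨F.obj c', F.map φ'⟩ ((isHomLift_comp_iff F G f φ').1 hφ')
      cases e
      exact hφu ⟨c', φ'⟩ inferInstance
  · intro h
    refine isFibSet_of_existsUnique_lift F fun η R g => ?_
    obtain ⟨⟨c, φ⟩, hφ : (F ⋙ G).IsHomLift (G.map g) φ, hu⟩ :=
      existsUnique_lift (F ⋙ G) h η _ (G.map g)
    refine ⟨⟨c, φ⟩, exists_lift_of_comp F G hG g c φ, ?_⟩
    rintro ⟨c', φ'⟩ (hφ' : F.IsHomLift g φ')
    refine hu ⟨c', φ'⟩ ((isHomLift_comp_iff F G _ φ').2 ?_)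
    obtain rfl := IsHomLift.domain_eq F g φ'
    obtain rfl := IsHomLift.eq_of_isHomLift F g φ'
    infer_instance

theorem isFibSet_over (U : C) : FibCat.IsFibSet (Over.forget U) := by
  refine isFibSet_of_existsUnique_lift _ fun η V f => ?_
  refine ⟨⟨Over.mk (f ≫ η.hom), Over.homMk f rfl⟩,
    IsHomLift.map (Over.forget U) (Over.homMk f rfl : Over.mk (f ≫ η.hom) ⟶ η), ?_⟩
  rintro ⟨z, ψ⟩ (hψ : (Over.forget U).IsHomLift f ψ)
  have hV : z.left = V := IsHomLift.domain_eq (Over.forget U) f ψ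
  subst hV
  have e : f = ψ.left := IsHomLift.eq_of_isHomLift (Over.forget U) f ψ
  subst e
  have key : ∀ (zl : C) (l : zl ⟶ η.left) (zh : zl ⟶ U) (w : l ≫ η.hom = zh),
      (⟨Over.mk zh, Over.homMk l w⟩ : Σ ξ : Over U, (ξ ⟶ η)) =
        ⟨Over.mk (l ≫ η.hom), Over.homMk l rfl⟩ := by
    intro zl l zh w
    subst w
    rfl
  exact key z.left ψ.left z.hom (Over.w ψ)

end Groth.Agent.Fib
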