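import Groth.Agent.Fib.Misc
import Groth.Agent.Fib.Diag
import Groth.Agent.Fib.Prod
import Mathlib.CategoryTheory.Limits.Shapes.BinaryProducts

/-!
# The diagonal of a category fibred in groupoids is representable iff all maps from slices are
-/

set_option autoImplicit false
set_option backward.isDefEq.respectTransparency false
set_option backward.isDefEq.respectTransparency.types false

open CategoryTheory CategoryTheory.Functor CategoryTheory.Limits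

universe v₆ u₆ v₅ u₅ v₄ u₄ v₃ u₃ v₂ u₂ v u

namespace Groth.Agent.Fib

variable {C : Type u} [Category.{v} C] {𝒳 : BasedCategory.{v₂, u₂} C}
  {𝒴 : BasedCategory.{v₃, u₃} C}

theorem isRepresentable1_toSelf_overCat [HasBinaryProducts C] (U : C) :
    FibCat.IsRepresentable1 (FibCat.toSelf (FibCat.overCat U)) := by
  intro V y
  let sU := FibCat.toSelf (FibCat.overCat U)
  let a₀ : Over V := Over.mk (prod.fst : V ⨯ U ⟶ V)
  let b₀ : Over U := Over.mk (prod.snd : V ⨯ U ⟶ U)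
  let ξ : (FibCat.fp y sU).obj := fpMk a₀ b₀ (eqToIso (y.w_obj a₀))
    (IsHomLift.eqToHom_domain_lift_id (y.w_obj a₀) (y.w_obj a₀))
  have hc : ∀ ρ : (FibCat.fp y sU).obj, ∃ e : (ρ.obj.fst : Over V).left = (ρ.obj.snd : Over U).left,
      (ρ.obj.iso.hom : y.obj ρ.obj.fst ⟶ (ρ.obj.snd : Over U).left) =
        eqToHom (y.w_obj _) ≫ eqToHom e := by
    intro ρ
    have := fp_iso_isHomLift ρ
    obtain ⟨e, he⟩ := self_eq_eqToHom (U := (FibCat.overCat V).p.obj ρ.obj.fst) ρ.obj.iso.hom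
    refine ⟨((y.w_obj ρ.obj.fst).symm.trans e), ?_⟩
    rw [he]
    exact (eqToHom_trans _ _).symm
  choose ec hc₁ using hc
  let t : ∀ ρ, ρ ⟶ ξ := fun ρ =>
    let φ₁ : (ρ.obj.fst : Over V) ⟶ a₀ := Over.homMk
      (prod.lift (ρ.obj.fst : Over V).hom (eqToHom (ec ρ) ≫ (ρ.obj.snd : Over U).hom))
      (prod.lift_fst _ _)
    let φ₂ : (ρ.obj.snd : Over U) ⟶ b₀ := Over.homMk (eqToHom (ec ρ).symm ≫
      prod.lift (ρ.obj.fst : Over V).hom (eqToHom (ec ρ) ≫ (ρ.obj.snd : Over U).hom))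
      (by simp [b₀])
    fpHomMk φ₁ φ₂ (by
      have h₁ := w_map y φ₁
      change y.map φ₁ = _ at h₁
      change y.map φ₁ ≫ eqToHom (y.w_obj a₀) = ρ.obj.iso.hom ≫ φ₂.left
      rw [h₁, hc₁]
      change (eqToHom _ ≫ φ₁.left ≫ eqToHom _) ≫ eqToHom _ = _
      simp [φ₁, φ₂])
  refine isRepresentable_of_terminal (isFibGrpd_fp y sU (isFibGrpd_overCat V) (isFibGrpd_overCat U)
    isFibGrpd_selfOver) ξ t fun ρ φ => ?_
  have hw := φ.hom.w
  have h₁ := w_map y φ.hom.fst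
  change y.map φ.hom.fst = _ at h₁
  change y.map φ.hom.fst ≫ eqToHom (y.w_obj a₀) = ρ.obj.iso.hom ≫ φ.hom.snd.left at hw
  rw [h₁, hc₁] at hw
  have hφ₂ : (φ.hom.snd : (ρ.obj.snd : Over U) ⟶ b₀).left =
      eqToHom (ec ρ).symm ≫ (φ.hom.fst : (ρ.obj.fst : Over V) ⟶ a₀).left := by
    rw [← cancel_epi (eqToHom (y.w_obj ρ.obj.fst) ≫ eqToHom (ec ρ))]
    refine hw.symm.trans ?_
    change (eqToHom _ ≫ (φ.hom.fst : (ρ.obj.fst : Over V) ⟶ a₀).left ≫ eqToHom _) ≫ eqToHom _ = _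
    simp
  have key : (φ.hom.fst : (ρ.obj.fst : Over V) ⟶ a₀).left =
      prod.lift (ρ.obj.fst : Over V).hom (eqToHom (ec ρ) ≫ (ρ.obj.snd : Over U).hom) := by
    apply Limits.prod.hom_ext
    · rw [prod.lift_fst]
      exact Over.w (φ.hom.fst : (ρ.obj.fst : Over V) ⟶ a₀)
    · rw [prod.lift_snd, ← Over.w (φ.hom.snd : (ρ.obj.snd : Over U) ⟶ b₀), hφ₂]
      simp [b₀, ξ, fpMk]
  refine fp_hom_ext (Over.OverMorphism.ext key) (Over.OverMorphism.ext ?_)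
  exact hφ₂.trans (congrArg _ key)

theorem isRepresentable1_of_isRepresentable [HasPullbacks C] (hX : FibCat.IsRepresentable 𝒳)
    (hY : FibCat.IsRepresentable 𝒴) (f : 𝒳 ⥤ᵇ 𝒴) : FibCat.IsRepresentable1 f := by
  obtain ⟨X, a, ha⟩ := hX
  obtain ⟨Y, b, hb⟩ := hY
  obtain ⟨a', -, ⟨i⟩, -⟩ := exists_quasiInverse ha
  let G := BasedFunctor.comp a' (BasedFunctor.comp f b)
  have hG : FibCat.IsRepresentable1 G :=
    isRepresentable1_of_iso (isoOverMap G) (isRepresentable1_overMap (overHom G))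
  exact (isRepresentable1_iff_of_square G f a b ha hb
    (isoWhiskerRight i.symm (BasedFunctor.comp f b))).1 hG

variable {𝒮 : BasedCategory.{v₂, u₂} C}

theorem isRepresentable1_of_diag [HasBinaryProducts C]
    (hΔ : FibCat.IsRepresentable1 (FibCat.diag (FibCat.toSelf 𝒮))) (U : C)
    (x : FibCat.overCat U ⥤ᵇ 𝒮) : FibCat.IsRepresentable1 x :=
  isRepresentable1_of_comp x (FibCat.toSelf 𝒮)
    (isRepresentable1_of_iso (toSelfIso _ _) (isRepresentable1_toSelf_overCat U)) hΔ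

theorem isRepresentable1_diag_of_forall [HasBinaryProducts C] [HasPullbacks C]
    (h : ∀ (U : C) (x : FibCat.overCat U ⥤ᵇ 𝒳), FibCat.IsRepresentable1 x) :
    FibCat.IsRepresentable1 (FibCat.diag (FibCat.toSelf 𝒳)) := by
  intro U y
  let x₁ := BasedFunctor.comp y (FibCat.fpFst (FibCat.toSelf 𝒳) (FibCat.toSelf 𝒳))
  let x₂ := BasedFunctor.comp y (FibCat.fpSnd (FibCat.toSelf 𝒳) (FibCat.toSelf 𝒳))
  let sU := FibCat.toSelf (FibCat.overCat U)
  let δ := FibCat.diag sU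
  let q : FibCat.fp x₁ x₂ ⥤ᵇ FibCat.fp sU sU :=
    FibCat.fpLift (FibCat.fpFst x₁ x₂) (FibCat.fpSnd x₁ x₂) (toSelfIso _ _)
  have hUU : FibCat.IsRepresentable (FibCat.fp sU sU) := isRepresentable1_toSelf_overCat U U sU
  have hD : FibCat.IsRepresentable (FibCat.fp δ q) :=
    isRepresentable1_of_isRepresentable (h U x₂ U x₁) hUU q U δ
  let σ₁ : ∀ w : (FibCat.fp δ q).obj, w.obj.fst ≅ w.obj.snd.obj.fst :=
    fun w => (FibCat.fpFst sU sU).toFunctor.mapIso w.obj.iso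
  let σ₂ : ∀ w : (FibCat.fp δ q).obj, w.obj.fst ≅ w.obj.snd.obj.snd :=
    fun w => (FibCat.fpSnd sU sU).toFunctor.mapIso w.obj.iso
  let k : ∀ w : (FibCat.fp δ q).obj, x₂.obj w.obj.fst ≅ x₁.obj w.obj.fst := fun w =>
    x₂.toFunctor.mapIso (σ₂ w) ≪≫ w.obj.snd.obj.iso.symm ≪≫ x₁.toFunctor.mapIso (σ₁ w).symm
  have hlift : ∀ w : (FibCat.fp δ q).obj,
      𝒳.p.IsHomLift (𝟙 ((FibCat.fp δ q).p.obj w)) (k w).hom := by
    intro w
    have hw := w.property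
    have h₁ : (FibCat.overCat U).p.IsHomLift (𝟙 ((FibCat.fp δ q).p.obj w)) (σ₁ w).hom :=
      (fp_isHomLift_iff _ _).1 hw
    have h₂ : (FibCat.overCat U).p.IsHomLift (𝟙 ((FibCat.fp δ q).p.obj w)) (σ₂ w).hom :=
      fp_isHomLift_snd (h := hw) _ _
    have e₁ : (FibCat.overCat U).p.obj w.obj.snd.obj.fst = (FibCat.fp δ q).p.obj w :=
      IsHomLift.codomain_eq (FibCat.overCat U).p (𝟙 ((FibCat.fp δ q).p.obj w)) (σ₁ w).hom
    have h₃ : 𝒳.p.IsHomLift (𝟙 ((FibCat.fp δ q).p.obj w)) w.obj.snd.obj.iso.hom :=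
      e₁ ▸ w.obj.snd.property
    have h₄ := BasedFunctor.preserves_isHomLift x₂ (𝟙 ((FibCat.fp δ q).p.obj w)) (σ₂ w).hom
    have h₅ := BasedFunctor.preserves_isHomLift x₁ (𝟙 ((FibCat.fp δ q).p.obj w)) (σ₁ w).inv
    simp only [k, Iso.trans_hom, Iso.symm_hom, Functor.mapIso_hom]
    infer_instance
  have knat : ∀ {a b : (FibCat.fp δ q).obj} (φ : a ⟶ b),
      x₂.map φ.hom.fst ≫ (k b).hom = (k a).hom ≫ x₁.map φ.hom.fst := by
    intro a b φ
    have w₁ : φ.hom.fst ≫ (σ₁ b).hom = (σ₁ a).hom ≫ φ.hom.snd.hom.fst :=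
      congrArg (fun t => t.hom.fst) φ.hom.w
    have w₂ : φ.hom.fst ≫ (σ₂ b).hom = (σ₂ a).hom ≫ φ.hom.snd.hom.snd :=
      congrArg (fun t => t.hom.snd) φ.hom.w
    have w₃ := φ.hom.snd.hom.w
    simp only [k, Iso.trans_hom, Functor.mapIso_hom, Iso.symm_hom, Category.assoc]
    rw [← Functor.map_comp_assoc, w₂, Functor.map_comp_assoc]
    congr 1
    rw [← cancel_epi a.obj.snd.obj.iso.hom, Iso.hom_inv_id_assoc, ← reassoc_of% w₃,
      Iso.hom_inv_id_assoc, ← Functor.map_comp, ← Functor.map_comp]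
    congr 1
    rw [Iso.comp_inv_eq, Category.assoc, w₁, Iso.inv_hom_id_assoc]
  let Φ : FibCat.fp δ q ⥤ᵇ FibCat.fp y (FibCat.diag (FibCat.toSelf 𝒳)) :=
    FibCat.fpLift (FibCat.fpFst δ q) (BasedFunctor.comp (FibCat.fpFst δ q) x₁)
      (isoMk (fun w => fpIsoMk (Iso.refl _) (k w)
          (@self_iso_w C _ 𝒳 𝒳 (FibCat.toSelf 𝒳) (FibCat.toSelf 𝒳) _ _ _ _ _ _
            (𝟙 ((FibCat.fp δ q).p.obj w)) (IsHomLift.id (x₁.w_obj _)) (hlift w)))
        (fun {a b} φ => fp_hom_ext ((Category.comp_id _).trans (Category.id_comp _).symm)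
          (knat φ))
        (fun w => fp_iso_isHomLift_id _ (IsHomLift.id (x₁.w_obj _))))
  refine (isRepresentable_iff_of_isEquivOver Φ ?_).1 hD
  have hfaith : Φ.toFunctor.Faithful := ⟨fun {a b} φ ψ e => by
    have e₁ : φ.hom.fst = ψ.hom.fst := congrArg (fun t => t.hom.fst) e
    refine fp_hom_ext e₁ ?_
    have := φ.hom.w.symm.trans (e₁ ▸ ψ.hom.w)
    have h' : q.map φ.hom.snd = q.map ψ.hom.snd := (cancel_epi a.obj.iso.hom).1 this
    exact fp_hom_ext (congrArg (fun t => t.hom.fst) h') (congrArg (fun t => t.hom.snd) h')⟩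
  have hfull : Φ.toFunctor.Full := ⟨fun {a b} φ => by
    have v₁ : x₁.map φ.hom.fst ≫ 𝟙 _ = 𝟙 _ ≫ φ.hom.snd := congrArg (fun t => t.hom.fst) φ.hom.w
    have v₂ : x₂.map φ.hom.fst ≫ (k b).hom = (k a).hom ≫ φ.hom.snd :=
      congrArg (fun t => t.hom.snd) φ.hom.w
    have v₁' : φ.hom.snd = x₁.map φ.hom.fst :=
      ((Category.id_comp _).symm.trans v₁.symm).trans (Category.comp_id _)
    rw [v₁'] at v₂
    let m₁ := (σ₁ a).inv ≫ φ.hom.fst ≫ (σ₁ b).hom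
    let m₂ := (σ₂ a).inv ≫ φ.hom.fst ≫ (σ₂ b).hom
    have hm : x₁.map m₁ ≫ b.obj.snd.obj.iso.hom = a.obj.snd.obj.iso.hom ≫ x₂.map m₂ := by
      simp only [k, Iso.trans_hom, Functor.mapIso_hom, Iso.symm_hom, Category.assoc] at v₂
      simp only [m₁, m₂, Functor.map_comp, Category.assoc]
      rw [← cancel_mono b.obj.snd.obj.iso.inv, ← cancel_mono (x₁.map (σ₁ b).inv)]
      simp only [Category.assoc, v₂]
      simp
    refine ⟨fpHomMk φ.hom.fst (fpHomMk m₁ m₂ hm) (fp_hom_ext ?_ ?_),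
      fp_hom_ext rfl v₁'.symm⟩
    · change φ.hom.fst ≫ (σ₁ b).hom = (σ₁ a).hom ≫ m₁
      simp [m₁]
    · change φ.hom.fst ≫ (σ₂ b).hom = (σ₂ a).hom ≫ m₂
      simp [m₂]⟩
  refine isEquivOver_of_exists_iso_over Φ fun η => ?_
  let u := η.obj.fst
  let ι₁ : x₁.obj u ≅ η.obj.snd :=
    (FibCat.fpFst (FibCat.toSelf 𝒳) (FibCat.toSelf 𝒳)).toFunctor.mapIso η.obj.iso
  let ι₂ : x₂.obj u ≅ η.obj.snd :=
    (FibCat.fpSnd (FibCat.toSelf 𝒳) (FibCat.toSelf 𝒳)).toFunctor.mapIso η.obj.iso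
  have hι₁ : 𝒳.p.IsHomLift (𝟙 ((FibCat.overCat U).p.obj u)) ι₁.hom :=
    (fp_isHomLift_iff _ _).1 η.property
  have hι₂ : 𝒳.p.IsHomLift (𝟙 ((FibCat.overCat U).p.obj u)) ι₂.hom :=
    fp_isHomLift_snd (h := η.property) _ _
  let B : (FibCat.fp x₁ x₂).obj := fpMk u u (ι₁ ≪≫ ι₂.symm)
    (by simp only [Iso.trans_hom, Iso.symm_hom]; infer_instance)
  have hl : (FibCat.overCat U).p.IsHomLift (𝟙 ((FibCat.overCat U).p.obj u)) (Iso.refl u).hom :=
    IsHomLift.id rfl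
  let A : (FibCat.fp δ q).obj := fpMk u B
    (fpIsoMk (a := δ.obj u) (b := q.obj B) (Iso.refl u) (Iso.refl u)
      (@self_iso_w C _ (FibCat.overCat U) (FibCat.overCat U) sU sU _ _ _ _ _ _
        (𝟙 ((FibCat.overCat U).p.obj u)) hl hl))
    (fp_iso_isHomLift_id _ hl)
  refine ⟨A, fpIsoMk (Iso.refl _) ι₁ (fp_hom_ext ?_ ?_),
    fp_iso_isHomLift_id _ (IsHomLift.id rfl)⟩
  · change x₁.map (𝟙 u) ≫ ι₁.hom = 𝟙 _ ≫ ι₁.hom
    rw [CategoryTheory.Functor.map_id]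
  · change x₂.map (𝟙 u) ≫ ι₂.hom = (x₂.map (𝟙 u) ≫ (ι₂.hom ≫ ι₁.inv) ≫ x₁.map (𝟙 u)) ≫ ι₁.hom
    simp

end Groth.Agent.Fib
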