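import Groth.Prelude.Def_FibCat2
import Groth.Prelude.Def_W4stkcategoriessitesFib

/-!
# The diagonal square of a 2-fibre product is 2-cartesian
-/

set_option autoImplicit false
set_option maxHeartbeats 400000
set_option linter.style.haveILetI false
set_option backward.isDefEq.respectTransparency false
set_option backward.isDefEq.respectTransparency.types false

open CategoryTheory CategoryTheory.Functor CategoryTheory.Limits

universe v u

namespace Groth.Agent.Fib.DiagSquare

noncomputable section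

variable {X Y V : Type u} [Category.{v} X] [Category.{v} Y] [Category.{v} V] (p : X ⥤ Y) (q : V ⥤ Y)

/-- the map of cospans -/
abbrev cosp : CatCospanTransform (CategoricalPullback.π₂ p q) (CategoricalPullback.π₂ p q) p p :=
  ⟨CategoricalPullback.π₁ p q, q, CategoricalPullback.π₁ p q,
    ⟨(CatCommSq.iso (CategoricalPullback.π₁ p q) (CategoricalPullback.π₂ p q) p q).symm⟩,
    ⟨(CatCommSq.iso (CategoricalPullback.π₁ p q) (CategoricalPullback.π₂ p q) p q).symm⟩⟩

/-- diagonal upstairs -/
abbrev dU : CategoricalPullback p q ⥤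
    CategoricalPullback (CategoricalPullback.π₂ p q) (CategoricalPullback.π₂ p q) :=
  (CategoricalPullback.CatCommSqOver.toFunctorToCategoricalPullback (CategoricalPullback.π₂ p q)
    (CategoricalPullback.π₂ p q) (CategoricalPullback p q)).obj ⟨𝟭 _, 𝟭 _, Iso.refl _⟩

/-- diagonal downstairs -/
abbrev dX : X ⥤ CategoricalPullback p p :=
  (CategoricalPullback.CatCommSqOver.toFunctorToCategoricalPullback p p X).obj ⟨𝟭 _, 𝟭 _, Iso.refl _⟩

theorem map_iso (x : CategoricalPullback (CategoricalPullback.π₂ p q) (CategoricalPullback.π₂ p q)) :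
    ((FibCat.categoricalPullbackMap (cosp p q)).obj x).iso.hom =
      x.fst.iso.hom ≫ q.map x.iso.hom ≫ x.snd.iso.inv := by
  simp [FibCat.categoricalPullbackMap]
  rfl

/-- component of the filling -/
def eApp (u : CategoricalPullback p q) :
    (dX p).obj u.fst ≅ (FibCat.categoricalPullbackMap (cosp p q)).obj ((dU p q).obj u) :=
  CategoricalPullback.mkIso (Iso.refl _) (Iso.refl _) (by
    rw [map_iso]
    change p.map (𝟙 u.fst) ≫ u.iso.hom ≫ q.map (𝟙 u.snd) ≫ u.iso.inv = 𝟙 _ ≫ p.map (𝟙 u.fst)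
    simp)

/-- the filling -/
def eFill : CategoricalPullback.π₁ p q ⋙ dX p ≅ dU p q ⋙ FibCat.categoricalPullbackMap (cosp p q) :=
  NatIso.ofComponents (eApp p q) (fun {u u'} f => CategoricalPullback.hom_ext
    ((Category.comp_id _).trans (Category.id_comp _).symm)
    ((Category.comp_id _).trans (Category.id_comp _).symm))

theorem eFill_app (u : CategoricalPullback p q) :
    ((eFill p q).hom.app u).fst = 𝟙 _ ∧ ((eFill p q).hom.app u).snd = 𝟙 _ := ⟨rfl, rfl⟩

/-- the comparison -/
abbrev cmp : CategoricalPullback p q ⥤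
    CategoricalPullback (dX p) (FibCat.categoricalPullbackMap (cosp p q)) :=
  (CategoricalPullback.CatCommSqOver.toFunctorToCategoricalPullback (dX p)
    (FibCat.categoricalPullbackMap (cosp p q)) (CategoricalPullback p q)).obj
      ⟨CategoricalPullback.π₁ p q, dU p q, eFill p q⟩

theorem faithful_cmp : (cmp p q).Faithful where
  map_injective {u u' f g} h :=
    (congrArg (fun t => t.snd.fst) h : f = g)

theorem full_cmp : (cmp p q).Full where
  map_surjective {u u'} φ := by
    have h1 := congrArg CategoricalPullback.Hom.fst φ.w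
    have h2 := congrArg CategoricalPullback.Hom.snd φ.w
    change φ.fst ≫ 𝟙 u'.fst = 𝟙 u.fst ≫ φ.snd.fst.fst at h1
    change φ.fst ≫ 𝟙 u'.fst = 𝟙 u.fst ≫ φ.snd.snd.fst at h2
    replace h1 : φ.fst = φ.snd.fst.fst := (Category.comp_id _).symm.trans (h1.trans (Category.id_comp _))
    replace h2 : φ.fst = φ.snd.snd.fst := (Category.comp_id _).symm.trans (h2.trans (Category.id_comp _))
    have h3 : φ.snd.fst.snd ≫ 𝟙 u'.snd = 𝟙 u.snd ≫ φ.snd.snd.snd := φ.snd.w
    replace h3 : φ.snd.fst.snd = φ.snd.snd.snd := (Category.comp_id _).symm.trans (h3.trans (Category.id_comp _))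
    refine ⟨φ.snd.fst, CategoricalPullback.hom_ext h1.symm (CategoricalPullback.hom_ext rfl ?_)⟩
    exact CategoricalPullback.hom_ext (h1.symm.trans h2) h3

theorem essSurj_cmp : (cmp p q).EssSurj where
  mem_essImage z := by
    obtain ⟨x, w, ζ⟩ := z
    let a : x ≅ w.fst.fst :=
      { hom := ζ.hom.fst, inv := ζ.inv.fst,
        hom_inv_id := congrArg CategoricalPullback.Hom.fst ζ.hom_inv_id,
        inv_hom_id := congrArg CategoricalPullback.Hom.fst ζ.inv_hom_id }
    let b : x ≅ w.snd.fst :=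
      { hom := ζ.hom.snd, inv := ζ.inv.snd,
        hom_inv_id := congrArg CategoricalPullback.Hom.snd ζ.hom_inv_id,
        inv_hom_id := congrArg CategoricalPullback.Hom.snd ζ.inv_hom_id }
    have hw := ζ.hom.w
    rw [map_iso] at hw
    change p.map a.hom ≫ w.fst.iso.hom ≫ q.map w.iso.hom ≫ w.snd.iso.inv = 𝟙 _ ≫ p.map b.hom at hw
    rw [Category.id_comp] at hw
    have hg : p.map (a.inv ≫ b.hom) ≫ w.snd.iso.hom = w.fst.iso.hom ≫ q.map w.iso.hom := by
      rw [p.map_comp, ← hw]
      simp
    let g : w.fst ≅ w.snd := CategoricalPullback.mkIso (a.symm ≪≫ b) w.iso hg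
    let m : (dU p q).obj w.fst ≅ w := CategoricalPullback.mkIso (Iso.refl _) g (by
      change (CategoricalPullback.π₂ p q).map (𝟙 w.fst) ≫ w.iso.hom = 𝟙 w.fst.snd ≫ w.iso.hom
      exact congrArg (· ≫ w.iso.hom) ((CategoricalPullback.π₂ p q).map_id w.fst))
    refine ⟨w.fst, ⟨CategoricalPullback.mkIso a.symm m ?_⟩⟩
    apply CategoricalPullback.hom_ext
    · change a.inv ≫ a.hom = 𝟙 w.fst.fst ≫ 𝟙 w.fst.fst
      simp
    · change a.inv ≫ b.hom = 𝟙 w.fst.fst ≫ (a.inv ≫ b.hom)
      simp

theorem main : ∃ e, (∀ u, (e.hom.app u).fst = 𝟙 _ ∧ (e.hom.app u).snd = 𝟙 _) ∧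
    FibCat.IsTwoCart (CategoricalPullback.π₁ p q) (dU p q) (dX p)
      (FibCat.categoricalPullbackMap (cosp p q)) e :=
  ⟨eFill p q, eFill_app p q,
    { faithful := faithful_cmp p q, full := full_cmp p q, essSurj := essSurj_cmp p q }⟩

end

end Groth.Agent.Fib.DiagSquare
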