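import Mathlib.CategoryTheory.Adjunction.Basic
import Groth.Prelude.Def_W4stkcategoriessitesFib
import Groth.Agent.Fib.Comp

/-!
# Every 1-morphism of fibred categories factors through a fibred one
-/

set_option autoImplicit false
set_option maxHeartbeats 400000
set_option linter.style.haveILetI false
set_option linter.unusedSectionVars false
set_option backward.isDefEq.respectTransparency false
set_option backward.isDefEq.respectTransparency.types false

open CategoryTheory CategoryTheory.Functor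

universe v u

namespace Groth.Agent.Fib.Factorization

noncomputable section

variable {C : Type u} [Category.{v} C] {𝒳 𝒴 : BasedCategory.{v, max u v} C} (F : 𝒳 ⥤ᵇ 𝒴)

/-- a morphism over an identity into the image of `F` -/
structure Obj where
  /-- the object of the source -/
  x : 𝒳.obj
  /-- the object of the target -/
  y : 𝒴.obj
  /-- the morphism -/
  f : y ⟶ F.obj x
  /-- it lies over an identity -/
  hf : 𝒴.p.IsHomLift (𝟙 (𝒳.p.obj x)) f

/-- morphisms -/
@[ext]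
structure Hom (o o' : Obj F) where
  /-- on the source -/
  g : o.x ⟶ o'.x
  /-- on the target -/
  h : o.y ⟶ o'.y
  /-- compatibility -/
  w : o.f ≫ F.map g = h ≫ o'.f

instance category : Category.{v} (Obj F) where
  Hom o o' := Hom F o o'
  id o := ⟨𝟙 o.x, 𝟙 o.y, by rw [CategoryTheory.Functor.map_id]; simp⟩
  comp a b := ⟨a.g ≫ b.g, a.h ≫ b.h, by
    rw [CategoryTheory.Functor.map_comp, ← Category.assoc, a.w, Category.assoc, b.w, Category.assoc]⟩
  id_comp a := Hom.ext (Category.id_comp _) (Category.id_comp _)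
  comp_id a := Hom.ext (Category.comp_id _) (Category.comp_id _)
  assoc a b c := Hom.ext (Category.assoc _ _ _) (Category.assoc _ _ _)

theorem hom_ext {o o' : Obj F} {a b : o ⟶ o'} (h₁ : a.g = b.g) (h₂ : a.h = b.h) : a = b :=
  Hom.ext h₁ h₂

theorem y_proj (o : Obj F) : 𝒴.p.obj o.y = 𝒳.p.obj o.x :=
  haveI := o.hf
  IsHomLift.domain_eq 𝒴.p (𝟙 (𝒳.p.obj o.x)) o.f

/-- the projection to the target -/
def vFun : Obj F ⥤ 𝒴.obj where
  obj o := o.y
  map a := a.h

/-- the total category -/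
def tot : BasedCategory.{v, max u v} C := BasedCategory.ofFunctor (vFun F ⋙ 𝒴.p)

/-- the projection over the base -/
def vB : tot F ⥤ᵇ 𝒴 where
  toFunctor := vFun F
  w := rfl

/-- the projection to the source -/
def wB : tot F ⥤ᵇ 𝒳 where
  toFunctor :=
    { obj := fun o => o.x
      map := fun a => a.g }
  w := by
    refine CategoryTheory.Functor.ext (fun o => (y_proj F o).symm) fun o o' a => ?_
    have h := congrArg 𝒴.p.map a.w
    haveI := o.hf
    haveI := o'.hf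
    rw [𝒴.p.map_comp, 𝒴.p.map_comp, IsHomLift.fac' 𝒴.p (𝟙 (𝒳.p.obj o.x)) o.f,
      IsHomLift.fac' 𝒴.p (𝟙 (𝒳.p.obj o'.x)) o'.f] at h
    erw [Functor.congr_hom F.w a.g] at h
    change 𝒳.p.map a.g = eqToHom _ ≫ 𝒴.p.map a.h ≫ eqToHom _
    simp only [Category.id_comp, eqToHom_trans, Category.assoc, eqToHom_trans_assoc] at h
    rw [← cancel_mono (eqToHom (F.w_obj o'.x).symm), Category.assoc, Category.assoc, eqToHom_trans,
      ← h]
    simp

/-- the section -/
def uB : 𝒳 ⥤ᵇ tot F where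
  toFunctor :=
    { obj := fun x => ⟨x, F.obj x, 𝟙 _, by
        haveI : 𝒳.p.IsHomLift (𝟙 (𝒳.p.obj x)) (𝟙 x) := IsHomLift.id rfl
        exact IsHomLift.id (F.w_obj x)⟩
      map := fun g => ⟨g, F.map g, by simp⟩
      map_id := fun x => hom_ext F rfl (F.toFunctor.map_id x)
      map_comp := fun g g' => hom_ext F rfl (F.toFunctor.map_comp g g') }
  w := F.w

theorem uB_comp_vB : BasedFunctor.comp (uB F) (vB F) = F := rfl

/-- the adjunction -/
def adj : (wB F).toFunctor ⊣ (uB F).toFunctor :=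
  Adjunction.mkOfHomEquiv
    { homEquiv := fun o x' =>
        { toFun := fun g => ⟨g, o.f ≫ F.map g, (Category.comp_id _).symm⟩
          invFun := fun a => a.g
          left_inv := fun g => rfl
          right_inv := fun a => hom_ext F rfl (a.w.trans (Category.comp_id _)) }
      homEquiv_naturality_left_symm := fun _ _ => rfl
      homEquiv_naturality_right := fun {o x' x''} g g' => hom_ext F rfl (by
        change o.f ≫ F.map (g ≫ g') = (o.f ≫ F.map g) ≫ F.map g'
        rw [CategoryTheory.Functor.map_comp, Category.assoc]) }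

theorem full_uB : (uB F).toFunctor.Full where
  map_surjective {x x'} a := ⟨a.g, hom_ext F rfl (by
    have h := a.w
    change 𝟙 _ ≫ F.map a.g = a.h ≫ 𝟙 _ at h
    exact ((Category.id_comp _).symm.trans h).trans (Category.comp_id _))⟩

theorem faithful_uB : (uB F).toFunctor.Faithful where
  map_injective h := congrArg Hom.g h

theorem cart_map {𝒵 : BasedCategory.{v, max u v} C} {R S : C} (f : R ⟶ S) {a b : 𝒵.obj} (φ : a ⟶ b)
    (h : 𝒵.p.IsStronglyCartesian f φ) : 𝒵.p.IsStronglyCartesian (𝒵.p.map φ) φ := by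
  subst_hom_lift 𝒵.p f φ
  exact h

variable [𝒳.p.IsFibered] [𝒴.p.IsFibered] (hF : FibCat.PreservesStronglyCartesian F)
include hF

/-- a morphism of `tot F` whose source component is cartesian is cartesian over the target -/
theorem isStronglyCartesian_vFun {o' o : Obj F} (a : o' ⟶ o)
    (ha : 𝒳.p.IsStronglyCartesian (𝒳.p.map a.g) a.g) :
    (vFun F).IsStronglyCartesian a.h a := by
  haveI := hF (𝒳.p.map a.g) a.g ha
  haveI := ha
  haveI : (vFun F).IsHomLift a.h a := IsHomLift.map (vFun F) a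
  refine { universal_property' := fun {o₁} k φ hφ => ?_ }
  have hφh : φ.h = k ≫ a.h := by
    have := IsHomLift.fac (vFun F) (k ≫ a.h) φ
    simpa [vFun] using this.symm
  let e : 𝒳.p.obj o₁.x ⟶ 𝒳.p.obj o'.x :=
    eqToHom (y_proj F o₁).symm ≫ 𝒴.p.map k ≫ eqToHom (y_proj F o')
  have hw : 𝒳.p.map φ.g = e ≫ 𝒳.p.map a.g := by
    have h1 := Functor.congr_hom (wB F).w φ
    have h2 := Functor.congr_hom (wB F).w a
    change 𝒳.p.map φ.g = _ ≫ 𝒴.p.map φ.h ≫ _ at h1
    change 𝒳.p.map a.g = _ ≫ 𝒴.p.map a.h ≫ _ at h2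
    rw [h1, h2, hφh, 𝒴.p.map_comp]
    simp [e]
  let m : o₁.x ⟶ o'.x := IsStronglyCartesian.map 𝒳.p (𝒳.p.map a.g) a.g (g := e) hw φ.g
  have hm : m ≫ a.g = φ.g := IsStronglyCartesian.fac 𝒳.p (𝒳.p.map a.g) a.g (g := e) hw φ.g
  haveI : 𝒳.p.IsHomLift e m :=
    IsStronglyCartesian.map_isHomLift 𝒳.p (𝒳.p.map a.g) a.g (g := e) hw φ.g
  have hsq : o₁.f ≫ F.map m = k ≫ o'.f := by
    haveI := o₁.hf
    haveI := o'.hf
    haveI : 𝒴.p.IsHomLift e (F.map m) := BasedFunctor.preserves_isHomLift F e m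
    haveI hA : 𝒴.p.IsHomLift e (o₁.f ≫ F.map m) := IsHomLift.comp_lift_id_left 𝒴.p e (F.map m) o₁.f
    haveI : 𝒴.p.IsHomLift e k := IsHomLift.of_fac 𝒴.p e k (y_proj F o₁) (y_proj F o') (by simp [e])
    haveI hB : 𝒴.p.IsHomLift e (k ≫ o'.f) := IsHomLift.comp_lift_id_right 𝒴.p e k o'.f
    refine IsStronglyCartesian.ext 𝒴.p (𝒳.p.map a.g) (F.map a.g) e ?_
    rw [Category.assoc, Category.assoc, ← CategoryTheory.Functor.map_comp, hm]
    erw [φ.w]
    rw [hφh, Category.assoc, ← a.w]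
  refine ⟨⟨m, k, hsq⟩, ⟨IsHomLift.of_fac (vFun F) k _ rfl rfl (by simp [vFun]),
    hom_ext F hm hφh.symm⟩, fun b hb => ?_⟩
  obtain ⟨hb1, hb2⟩ := hb
  have hbh : b.h = k := by
    have := IsHomLift.fac (vFun F) k b
    simpa [vFun] using this.symm
  refine hom_ext F ?_ hbh
  haveI : 𝒳.p.IsHomLift e b.g := by
    refine IsHomLift.of_fac 𝒳.p e b.g rfl rfl ?_
    have h1 := Functor.congr_hom (wB F).w b
    change 𝒳.p.map b.g = _ ≫ 𝒴.p.map b.h ≫ _ at h1
    simp [e, h1, hbh]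
  exact IsStronglyCartesian.map_uniq 𝒳.p (𝒳.p.map a.g) a.g (g := e) hw φ.g b.g
    (congrArg Hom.g hb2)

/-- lifts over the target -/
theorem exists_lift_v (o : Obj F) {y : 𝒴.obj} (h : y ⟶ o.y) :
    ∃ (o' : Obj F) (a : o' ⟶ o) (e : o'.y = y), a.h = eqToHom e ≫ h ∧
      𝒳.p.IsStronglyCartesian (𝒳.p.map a.g) a.g := by
  let g₀ : 𝒴.p.obj y ⟶ 𝒳.p.obj o.x := 𝒴.p.map h ≫ eqToHom (y_proj F o)
  obtain ⟨x', g, hg⟩ := IsPreFibered.exists_isCartesian 𝒳.p rfl g₀
  haveI : 𝒳.p.IsStronglyCartesian g₀ g := inferInstance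
  haveI hFg := hF g₀ g this
  haveI := o.hf
  haveI : 𝒴.p.IsHomLift g₀ h := IsHomLift.of_fac 𝒴.p g₀ h rfl (y_proj F o) (by simp [g₀])
  haveI : 𝒴.p.IsHomLift g₀ (h ≫ o.f) := IsHomLift.comp_lift_id_right 𝒴.p g₀ h o.f
  let f' : y ⟶ F.obj x' := IsStronglyCartesian.map 𝒴.p g₀ (F.map g) (g := 𝟙 _) (f' := g₀)
    (Category.id_comp g₀).symm (h ≫ o.f)
  have hx : 𝒳.p.obj x' = 𝒴.p.obj y := IsHomLift.domain_eq 𝒳.p g₀ g
  have hl : 𝒴.p.IsHomLift (𝟙 (𝒴.p.obj y)) f' :=
    IsStronglyCartesian.map_isHomLift 𝒴.p g₀ (F.map g) (g := 𝟙 _) (f' := g₀) (Category.id_comp g₀).symm (h ≫ o.f)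
  refine ⟨⟨x', y, f', hx ▸ hl⟩, ⟨g, h, IsStronglyCartesian.fac 𝒴.p g₀ (F.map g) (g := 𝟙 _) (f' := g₀)
    (Category.id_comp g₀).symm (h ≫ o.f)⟩, rfl, (Category.id_comp h).symm, ?_⟩
  exact cart_map g₀ g inferInstance

theorem isFibered_vFun : (vFun F).IsFibered :=
  IsFibered.of_exists_isStronglyCartesian fun o y h => by
    obtain ⟨o', a, e, ha, hcart⟩ := exists_lift_v F hF o h
    subst e
    have : a.h = h := ha.trans (Category.id_comp h)
    subst this
    exact ⟨o', a, isStronglyCartesian_vFun F hF a hcart⟩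

theorem isFibered_tot : (tot F).p.IsFibered :=
  haveI := isFibered_vFun F hF
  Fib.isFibered_comp (vFun F) 𝒴.p

theorem isStronglyCartesian_tot {o' o : (tot F).obj} (a : o' ⟶ o)
    (ha : 𝒳.p.IsStronglyCartesian (𝒳.p.map a.g) a.g) {R S : C} (f : R ⟶ S)
    [hh : 𝒴.p.IsStronglyCartesian f a.h] : (tot F).p.IsStronglyCartesian f a :=
  haveI := isStronglyCartesian_vFun F hF a ha
  Fib.isStronglyCartesian_comp (vFun F) 𝒴.p a.h a f

theorem map_isStronglyCartesian_of_lifts {𝒵 : BasedCategory.{v, max u v} C} (G : tot F ⥤ᵇ 𝒵)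
    (hG : ∀ {o' o : (tot F).obj} (a : o' ⟶ o) {R S : C} (f : R ⟶ S),
      𝒳.p.IsStronglyCartesian (𝒳.p.map a.g) a.g → 𝒴.p.IsStronglyCartesian f a.h →
        𝒵.p.IsStronglyCartesian f (G.map a)) :
    FibCat.PreservesStronglyCartesian G := by
  intro R S f o₁ o a ha
  haveI := ha
  have hS : (tot F).p.obj o = S := IsHomLift.codomain_eq (tot F).p f a
  obtain ⟨y, h, hh⟩ := IsPreFibered.exists_isCartesian 𝒴.p (hS : 𝒴.p.obj o.y = S) f
  haveI : 𝒴.p.IsStronglyCartesian f h := inferInstance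
  obtain ⟨o', b, e, hb, hcart⟩ := exists_lift_v F hF o h
  subst e
  have : b.h = h := hb.trans (Category.id_comp h)
  subst this
  haveI hbc : (tot F).p.IsStronglyCartesian f b := isStronglyCartesian_tot F hF b hcart f
  haveI hGb := hG b f hcart ‹_›
  let e := IsCartesian.domainUniqueUpToIso (tot F).p f b a
  have hfac : e.hom ≫ b = a := IsCartesian.fac (tot F).p f b a
  haveI : (tot F).p.IsHomLift (𝟙 R) e.hom := IsCartesian.map_isHomLift (tot F).p f b a
  haveI : 𝒵.p.IsHomLift (𝟙 R) (G.map e.hom) := BasedFunctor.preserves_isHomLift G _ _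
  haveI : 𝒵.p.IsHomLift (𝟙 R) (G.toFunctor.mapIso e).hom := ‹_›
  haveI : 𝒵.p.IsStronglyCartesian (𝟙 R) (G.toFunctor.mapIso e).hom := inferInstance
  have h2 : 𝒵.p.IsStronglyCartesian (𝟙 R ≫ f) ((G.toFunctor.mapIso e).hom ≫ G.map b) := inferInstance
  rw [Category.id_comp] at h2
  rw [← hfac, G.toFunctor.map_comp]
  exact h2

theorem preserves_vB : FibCat.PreservesStronglyCartesian (vB F) :=
  map_isStronglyCartesian_of_lifts F hF (vB F) fun {o' o} a {R S} f _ h => h

theorem preserves_wB : FibCat.PreservesStronglyCartesian (wB F) :=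
  map_isStronglyCartesian_of_lifts F hF (wB F) fun {o' o} a {R S} f hg hh => by
    haveI := hg
    haveI := hh
    haveI : (tot F).p.IsHomLift f a := (Fib.isHomLift_comp_iff (vFun F) 𝒴.p f a).2 hh.toIsHomLift
    haveI : 𝒳.p.IsHomLift f ((wB F).map a) := BasedFunctor.preserves_isHomLift (wB F) f a
    change 𝒳.p.IsStronglyCartesian f a.g
    subst_hom_lift 𝒳.p f ((wB F).map a)
    exact hg

theorem preserves_uB : FibCat.PreservesStronglyCartesian (uB F) := by
  intro R S f x' x g hg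
  haveI := hF f g hg
  haveI := hg
  refine isStronglyCartesian_tot F hF ((uB F).map g) ?_ f (hh := ‹_›)
  change 𝒳.p.IsStronglyCartesian (𝒳.p.map g) g
  have h' := hg
  subst_hom_lift 𝒳.p f g
  exact h'

theorem main :
    ∃ (𝒳' : BasedCategory.{v, max u v} C) (u : 𝒳 ⥤ᵇ 𝒳') (w' : 𝒳' ⥤ᵇ 𝒴) (w : 𝒳' ⥤ᵇ 𝒳),
      𝒳'.p.IsFibered ∧ FibCat.PreservesStronglyCartesian u ∧ FibCat.PreservesStronglyCartesian w' ∧
        FibCat.PreservesStronglyCartesian w ∧ BasedFunctor.comp u w' = F ∧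
        u.toFunctor.Full ∧ u.toFunctor.Faithful ∧ Nonempty (w.toFunctor ⊣ u.toFunctor) ∧
        w'.toFunctor.IsFibered :=
  ⟨tot F, uB F, vB F, wB F, isFibered_tot F hF, preserves_uB F hF, preserves_vB F hF,
    preserves_wB F hF, uB_comp_vB F, full_uB F, faithful_uB F, ⟨adj F⟩, isFibered_vFun F hF⟩

end

end Groth.Agent.Fib.Factorization
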