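import Mathlib.CategoryTheory.IsConnected
import Mathlib.CategoryTheory.Category.ULift
import Mathlib.CategoryTheory.Comma.StructuredArrow.Basic
import Groth.Prelude.Def_AlgSt
import Groth.Prelude.Def_W4c2modmodulilectNerve
import Groth.Agent.Fib.Basic

/-!
# Extending sections of a category fibred in groupoids along a functor with contractible comma categories
-/

set_option autoImplicit false
set_option maxHeartbeats 400000
set_option linter.style.haveILetI false
set_option linter.unusedSectionVars false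
set_option backward.isDefEq.respectTransparency false
set_option backward.isDefEq.respectTransparency.types false

open CategoryTheory CategoryTheory.Functor

universe w v₁ v₂ v₃ u₁ u₂ u₃

namespace Groth.Agent.Fib.Sections

noncomputable section

/-- `G ⥤ (J ⥤ G)` essentially surjective for groupoids in universe `w`, and `J` connected -/
structure CTriv (J : Type u₁) [Category.{v₁} J] : Prop where
  connected : IsConnected J
  exists_const : ∀ (G : Type w) [Groupoid.{w} G] (Φ : J ⥤ G),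
    ∃ a : G, Nonempty ((Functor.const J).obj a ≅ Φ)

theorem ctriv_of_hasContractibleNerve {J : Type u₁} [Category.{v₁} J]
    (h : W4c2modmodulilect.HasContractibleNerve.{w, w} J) : CTriv.{w} J where
  connected := by
    haveI := h.1
    refine IsConnected.of_constant_of_preserves_morphisms fun {α} F hF j j' => ?_
    let P : J → Discrete (ULift.{w} Prop) := fun i => Discrete.mk (ULift.up (F i = F j))
    let Φ : J ⥤ Discrete (ULift.{w} Prop) :=
      { obj := P
        map := fun g => eqToHom (by simp only [P]; rw [hF g])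
        map_id := fun i => Subsingleton.elim _ _
        map_comp := fun g g' => Subsingleton.elim _ _ }
    letI : Groupoid.{w} (Discrete (ULift.{w} Prop)) := Groupoid.ofIsGroupoid
    haveI := h.2 (Discrete (ULift.{w} Prop))
    let a := (Functor.const J).objPreimage Φ
    have e : ∀ i, a = P i := fun i =>
      Discrete.ext (Discrete.eq_of_hom (((Functor.const J).objObjPreimageIso Φ).hom.app i))
    have := congrArg (fun t => t.as.down) ((e j).symm.trans (e j'))
    exact (Eq.mp this rfl).symm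
  exists_const G _ Φ :=
    haveI := h.2 G
    ⟨(Functor.const J).objPreimage Φ, ⟨(Functor.const J).objObjPreimageIso Φ⟩⟩

variable {C : Type u₁} [Category.{v₁} C] {D : Type u₂} [Category.{v₂} D]

theorem ctriv_of_fibred {f : C ⥤ D} [f.IsFibered] {Y : D} (h : CTriv.{w} (f.Fiber Y)) :
    CTriv.{w} (StructuredArrow Y f) := by
  let i : f.Fiber Y ⥤ StructuredArrow Y f :=
    { obj := fun b => StructuredArrow.mk (eqToHom b.2.symm : Y ⟶ f.obj b.1)
      map := fun {b b'} g => StructuredArrow.homMk g.1 (by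
        haveI : f.IsHomLift (𝟙 Y) g.1 := g.2
        have hg := IsHomLift.fac' f (𝟙 Y) g.1
        change eqToHom b.2.symm ≫ f.map g.1 = eqToHom b'.2.symm
        rw [hg]; simp)
      map_id := fun b => StructuredArrow.hom_ext _ _ rfl
      map_comp := fun g g' => StructuredArrow.hom_ext _ _ rfl }
  have hε : ∀ j : StructuredArrow Y f, ∃ (b : f.Fiber Y) (ε : i.obj b ⟶ j),
      f.IsStronglyCartesian j.hom ε.right := by
    intro j
    obtain ⟨b, φ, hφ⟩ := IsPreFibered.exists_isCartesian f rfl j.hom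
    have hd : f.obj b = Y := IsHomLift.domain_eq f j.hom φ
    refine ⟨⟨b, hd⟩, StructuredArrow.homMk φ ?_, ?_⟩
    · change eqToHom hd.symm ≫ f.map φ = j.hom
      rw [IsHomLift.fac f j.hom φ]
      simp
    · exact (inferInstance : f.IsStronglyCartesian j.hom φ)
  choose r ε hcart using hε
  have hnat : ∀ {j j' : StructuredArrow Y f} (g : j ⟶ j'),
      ∃ g' : r j ⟶ r j', i.map g' ≫ ε j' = ε j ≫ g := by
    intro j j' g
    haveI := hcart j
    haveI := hcart j'
    haveI : f.IsHomLift j'.hom ((ε j).right ≫ g.right) := by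
      have : f.IsHomLift (j.hom ≫ f.map g.right) ((ε j).right ≫ g.right) :=
        haveI : f.IsHomLift (f.map g.right) g.right := IsHomLift.map f g.right
        inferInstance
      rwa [StructuredArrow.w g] at this
    let m := IsStronglyCartesian.map f j'.hom (ε j').right (g := 𝟙 Y) (f' := j'.hom)
      (Category.id_comp _).symm ((ε j).right ≫ g.right)
    exact ⟨⟨m, inferInstance⟩, StructuredArrow.hom_ext _ _
      (IsStronglyCartesian.fac f j'.hom (ε j').right (g := 𝟙 Y) (f' := j'.hom)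
        (Category.id_comp _).symm ((ε j).right ≫ g.right))⟩
  refine ⟨?_, fun G _ Φ => ?_⟩
  · haveI := h.connected
    haveI : Nonempty (StructuredArrow Y f) := ⟨i.obj (Classical.arbitrary _)⟩
    refine IsConnected.of_constant_of_preserves_morphisms fun F hF j j' => ?_
    rw [← hF (ε j), ← hF (ε j')]
    exact constant_of_preserves_morphisms (fun b => F (i.obj b)) (fun _ _ g => hF (i.map g)) _ _
  · obtain ⟨a, ⟨θ⟩⟩ := h.exists_const G (i ⋙ Φ)
    refine ⟨a, ⟨NatIso.ofComponents (fun j => θ.app (r j) ≪≫ asIso (Φ.map (ε j))) ?_⟩⟩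
    intro j j' g
    obtain ⟨g', hg'⟩ := hnat g
    have hθ : θ.hom.app (r j) ≫ Φ.map (i.map g') = θ.hom.app (r j') := by
      simpa using (θ.hom.naturality g').symm
    have hΦ := congrArg Φ.map hg'
    rw [Φ.map_comp, Φ.map_comp] at hΦ
    simp only [Functor.const_obj_map, Category.id_comp, Iso.trans_hom, asIso_hom, Iso.app_hom,
      Category.assoc]
    rw [← hΦ, ← Category.assoc (θ.hom.app (r j)), hθ]
    exact Category.id_comp _

variable {F : Type u₃} [Category.{v₃} F] (φ : C ⥤ D) (p : F ⥤ D) [hp : FibCat.IsFibGrpd p]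

local notation "ι" => FibCat.toSelf (BasedCategory.ofFunctor φ)
local notation "X" => BasedCategory.ofFunctor p

theorem cart {R S : D} (f : R ⟶ S) {y x : F} (ψ : y ⟶ x) [p.IsHomLift f ψ] :
    p.IsStronglyCartesian f ψ :=
  Fib.isStronglyCartesian_of_isFibGrpd p hp f ψ

theorem existsUnique_lift {R S T : D} (f : S ⟶ T) (g : R ⟶ S) {y x z : F} (ψ : y ⟶ x)
    (hψ : p.IsHomLift f ψ) (χ : z ⟶ x) (hχ : p.IsHomLift (g ≫ f) χ) :
    ∃! m : z ⟶ y, p.IsHomLift g m ∧ m ≫ ψ = χ :=
  haveI := cart p f ψ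
  IsStronglyCartesian.universal_property p f ψ g (g ≫ f) rfl χ

theorem lift_ext {R S T : D} (f : S ⟶ T) (g : R ⟶ S) {y x z : F} (ψ : y ⟶ x)
    (hψ : p.IsHomLift f ψ) {m m' : z ⟶ y} (hm : p.IsHomLift g m) (hm' : p.IsHomLift g m')
    (e : m ≫ ψ = m' ≫ ψ) : m = m' :=
  haveI := cart p f ψ
  IsStronglyCartesian.ext p f ψ g e

theorem full_restr (hJ : ∀ Y : D, IsConnected (StructuredArrow Y φ)) :
    (Stk.restr ι X).Full := ⟨fun {G G'} β => by
  have hl : ∀ {Y Z : D} (f : Y ⟶ Z) (G : FibCat.selfOver D ⥤ᵇ X), p.IsHomLift f (G.map f) := by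
    intro Y Z f G
    haveI : (FibCat.selfOver D).p.IsHomLift f f := IsHomLift.map (𝟭 D) f
    exact BasedFunctor.preserves_isHomLift G f f
  have hβ : ∀ c : C, p.IsHomLift (𝟙 (φ.obj c)) (β.toNatTrans.app c) := fun c => β.isHomLift' c
  have hex : ∀ (Y : D) (j : StructuredArrow Y φ), ∃! m : G.obj Y ⟶ G'.obj Y,
      p.IsHomLift (𝟙 Y) m ∧ m ≫ G'.map j.hom = G.map j.hom ≫ β.toNatTrans.app j.right := by
    intro Y j
    haveI := hl j.hom G
    haveI := hβ j.right
    have h : p.IsHomLift j.hom (G.map j.hom ≫ β.toNatTrans.app j.right) :=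
      IsHomLift.comp_lift_id_right p j.hom (G.map j.hom) (β.toNatTrans.app j.right)
    exact existsUnique_lift p j.hom (𝟙 Y) (G'.map j.hom) (hl j.hom G') _
      (by rwa [Category.id_comp])
  choose m hm hu using hex
  have hconst : ∀ (Y : D) (j j' : StructuredArrow Y φ), m Y j = m Y j' := by
    intro Y j j'
    haveI := hJ Y
    refine constant_of_preserves_morphisms (m Y) (fun j₁ j₂ g => hu Y j₂ _ ⟨(hm Y j₁).1, ?_⟩) j j'
    have hn := β.toNatTrans.naturality g.right
    change G.map (φ.map g.right) ≫ β.toNatTrans.app j₂.right =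
      β.toNatTrans.app j₁.right ≫ G'.map (φ.map g.right) at hn
    rw [← StructuredArrow.w g, CategoryTheory.Functor.map_comp, CategoryTheory.Functor.map_comp,
      ← Category.assoc (m Y j₁), (hm Y j₁).2, Category.assoc, Category.assoc, hn]
  let j₀ : ∀ Y, StructuredArrow Y φ := fun Y =>
    haveI := hJ Y
    Classical.arbitrary _
  let α : G ⟶ G' :=
    { app := fun Y => m Y (j₀ Y)
      naturality := fun Y Z f => by
        let j := j₀ Z
        let j' : StructuredArrow Y φ := StructuredArrow.mk (f ≫ j.hom)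
        have h₁ : p.IsHomLift f (G.map f ≫ m Z j) :=
          haveI := hl f G
          haveI := (hm Z j).1
          IsHomLift.comp_lift_id_right p f (G.map f) (m Z j)
        have h₂ : p.IsHomLift f (m Y j' ≫ G'.map f) :=
          haveI := hl f G'
          haveI := (hm Y j').1
          IsHomLift.comp_lift_id_left p f (G'.map f) (m Y j')
        rw [hconst Y (j₀ Y) j']
        refine lift_ext p j.hom f (G'.map j.hom) (hl j.hom G') h₁ h₂ ?_
        rw [Category.assoc, (hm Z j).2, Category.assoc, ← CategoryTheory.Functor.map_comp]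
        erw [(hm Y j').2]
        rw [← Category.assoc, ← CategoryTheory.Functor.map_comp]
        rfl
      isHomLift' := fun Y => (hm Y (j₀ Y)).1 }
  refine ⟨α, ?_⟩
  apply BasedNatTrans.homCategory.ext
  apply NatTrans.ext
  funext c
  change m (φ.obj c) (j₀ _) = β.toNatTrans.app c
  rw [hconst (φ.obj c) (j₀ _) (StructuredArrow.mk (𝟙 (φ.obj c)))]
  have h := (hm (φ.obj c) (StructuredArrow.mk (𝟙 (φ.obj c)))).2
  simpa using h⟩

theorem faithful_restr (hne : ∀ Y : D, Nonempty (StructuredArrow Y φ)) :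
    (Stk.restr ι X).Faithful := ⟨fun {G G' α α'} e => by
  apply BasedNatTrans.homCategory.ext
  apply NatTrans.ext
  funext Y
  obtain ⟨j⟩ := hne Y
  have hl : p.IsHomLift j.hom (G'.map j.hom) := by
    haveI : (FibCat.selfOver D).p.IsHomLift j.hom j.hom := IsHomLift.map (𝟭 D) j.hom
    exact BasedFunctor.preserves_isHomLift G' j.hom j.hom
  refine lift_ext p j.hom (𝟙 Y) (G'.map j.hom) hl (α.isHomLift' Y) (α'.isHomLift' Y) ?_
  have hc : α.toNatTrans.app (φ.obj j.right) = α'.toNatTrans.app (φ.obj j.right) :=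
    congrArg (fun t => t.toNatTrans.app j.right) e
  rw [← α.toNatTrans.naturality, ← α'.toNatTrans.naturality, hc]⟩

end

end Groth.Agent.Fib.Sections

namespace Groth.Agent.Fib.Sections

noncomputable section

variable {C : Type u₁} [Category.{v₁} C] {D : Type u₂} [Category.{v₂} D]
variable {F : Type u₃} [Category.{v₃} F] (φ : C ⥤ D) (p : F ⥤ D) [hp : FibCat.IsFibGrpd p]

local notation "ι" => FibCat.toSelf (BasedCategory.ofFunctor φ)
local notation "X" => BasedCategory.ofFunctor p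

theorem exists_cone (s : BasedCategory.ofFunctor φ ⥤ᵇ X) {Y : D}
    (h : CTriv.{max w u₃ v₃} (StructuredArrow Y φ)) :
    ∃ (a : p.Fiber Y) (α : ∀ j : StructuredArrow Y φ, a.1 ⟶ s.obj j.right),
      (∀ j, p.IsHomLift j.hom (α j)) ∧
        ∀ {j j' : StructuredArrow Y φ} (g : j ⟶ j'), α j ≫ s.map g.right = α j' := by
  have hsel : ∀ j : StructuredArrow Y φ, ∃ (b : F) (ℓ : b ⟶ s.obj j.right),
      p.IsHomLift j.hom ℓ := by
    intro j
    obtain ⟨b, ℓ, hℓ⟩ := hp.exists_lift
      (j.hom ≫ eqToHom (s.w_obj j.right).symm : Y ⟶ p.obj (s.obj j.right))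
    haveI := hℓ
    have hd := IsHomLift.domain_eq p (j.hom ≫ eqToHom (s.w_obj j.right).symm) ℓ
    refine ⟨b, ℓ, IsHomLift.of_fac p j.hom ℓ hd (s.w_obj j.right) ?_⟩
    have hf := IsHomLift.fac p (j.hom ≫ eqToHom (s.w_obj j.right).symm) ℓ
    rw [← cancel_mono (eqToHom (s.w_obj j.right).symm), hf]
    simp
  choose b ℓ hℓ using hsel
  let B : StructuredArrow Y φ → p.Fiber Y := fun j => ⟨b j,
    haveI := hℓ j
    IsHomLift.domain_eq p j.hom (ℓ j)⟩
  have hmap : ∀ {j j' : StructuredArrow Y φ} (g : j ⟶ j'),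
      ∃! m : b j ⟶ b j', p.IsHomLift (𝟙 Y) m ∧ m ≫ ℓ j' = ℓ j ≫ s.map g.right := by
    intro j j' g
    haveI := hℓ j
    haveI : (BasedCategory.ofFunctor φ).p.IsHomLift (φ.map g.right) g.right :=
      IsHomLift.map φ g.right
    haveI : p.IsHomLift (φ.map g.right) (s.map g.right) :=
      BasedFunctor.preserves_isHomLift s (φ.map g.right) g.right
    have h1 : p.IsHomLift (j.hom ≫ φ.map g.right) (ℓ j ≫ s.map g.right) := inferInstance
    rw [StructuredArrow.w g] at h1
    exact existsUnique_lift p j'.hom (𝟙 Y) (ℓ j') (hℓ j') _ (by rwa [Category.id_comp])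
  choose m hm hu using @hmap
  let Φ : StructuredArrow Y φ ⥤ p.Fiber Y :=
    { obj := B
      map := fun g => ⟨m g, (hm g).1⟩
      map_id := fun j => Fiber.hom_ext (by
        refine (hu (𝟙 j) (𝟙 (b j)) ⟨?_, ?_⟩).symm
        · exact (𝟙 (B j) : B j ⟶ B j).2
        · rw [Category.id_comp, StructuredArrow.id_right]
          erw [s.toFunctor.map_id, Category.comp_id])
      map_comp := fun {j j' j''} g g' => Fiber.hom_ext (by
        refine (hu (g ≫ g') (m g ≫ m g') ⟨?_, ?_⟩).symm
        · haveI := (hm g).1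
          haveI := (hm g').1
          infer_instance
        · rw [Category.assoc, (hm g').2, ← Category.assoc, (hm g).2, Category.assoc,
            StructuredArrow.comp_right]
          exact congrArg (ℓ j ≫ ·) (s.toFunctor.map_comp g.right g'.right).symm) }
  haveI : IsGroupoid (p.Fiber Y) := Fib.isGroupoid_fiber p hp Y
  letI : Groupoid.{max w u₃ v₃} (AsSmall.{max w u₃ v₃} (p.Fiber Y)) :=
    haveI : IsGroupoid (AsSmall.{max w u₃ v₃} (p.Fiber Y)) := ⟨fun {a a'} g =>
      ⟨⟨⟨inv g.down⟩, ULift.ext _ _ (IsIso.hom_inv_id g.down), ULift.ext _ _ (IsIso.inv_hom_id g.down)⟩⟩⟩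
    Groupoid.ofIsGroupoid
  obtain ⟨a, ⟨θ⟩⟩ := h.exists_const (AsSmall.{max w u₃ v₃} (p.Fiber Y)) (Φ ⋙ AsSmall.up)
  refine ⟨ULift.down a, fun j => (ULift.down (θ.hom.app j)).1 ≫ ℓ j, fun j => ?_, fun {j j'} g => ?_⟩
  · haveI : p.IsHomLift (𝟙 Y) (ULift.down (θ.hom.app j)).1 := (ULift.down (θ.hom.app j)).2
    haveI := hℓ j
    exact IsHomLift.comp_lift_id_left p j.hom (ℓ j) _
  · have hn : 𝟙 (ULift.down a).1 ≫ (ULift.down (θ.hom.app j')).1 = (ULift.down (θ.hom.app j)).1 ≫ m g :=
      congrArg (fun t => (ULift.down t).1) (θ.hom.naturality g)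
    rw [Category.assoc, ← (hm g).2, ← Category.assoc, ← hn, Category.id_comp]

theorem essSurj_restr (hJ : ∀ Y : D, CTriv.{max w u₃ v₃} (StructuredArrow Y φ)) :
    (Stk.restr ι X).EssSurj := ⟨fun s => by
  choose a α hα hnat using fun Y => exists_cone φ p s (hJ Y)
  let pre : ∀ {Y Z : D} (_ : Y ⟶ Z) (_ : StructuredArrow Z φ), StructuredArrow Y φ :=
    fun f j => StructuredArrow.mk (f ≫ j.hom)
  have hex : ∀ {Y Z : D} (f : Y ⟶ Z) (j : StructuredArrow Z φ),
      ∃! β : (a Y).1 ⟶ (a Z).1, p.IsHomLift f β ∧ β ≫ α Z j = α Y (pre f j) :=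
    fun {Y Z} f j => existsUnique_lift p j.hom f (α Z j) (hα Z j) _ (hα Y (pre f j))
  choose β₀ hβ₀ hu₀ using @hex
  have hconst : ∀ {Y Z : D} (f : Y ⟶ Z) (j j' : StructuredArrow Z φ), β₀ f j = β₀ f j' := by
    intro Y Z f j j'
    haveI := (hJ Z).connected
    refine constant_of_preserves_morphisms (β₀ f) (fun j₁ j₂ g => hu₀ f j₂ _ ⟨(hβ₀ f j₁).1, ?_⟩) j j'
    rw [← hnat Z g, ← Category.assoc, (hβ₀ f j₁).2]
    exact hnat Y (StructuredArrow.homMk g.right (by simp [pre]) : pre f j₁ ⟶ pre f j₂)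
  let j₀ : ∀ Y, StructuredArrow Y φ := fun Y =>
    haveI := (hJ Y).connected
    Classical.arbitrary _
  let β : ∀ {Y Z : D} (_ : Y ⟶ Z), (a Y).1 ⟶ (a Z).1 := fun {Y Z} f => β₀ f (j₀ Z)
  have hβ : ∀ {Y Z : D} (f : Y ⟶ Z) (j : StructuredArrow Z φ), β f ≫ α Z j = α Y (pre f j) :=
    fun f j => (congrArg (· ≫ α _ j) (hconst f (j₀ _) j)).trans (hβ₀ f j).2
  have hβid : ∀ Y, β (𝟙 Y) = 𝟙 (a Y).1 := fun Y => by
    refine (hu₀ (𝟙 Y) (j₀ Y) (𝟙 (a Y).1) ⟨(𝟙 (a Y) : a Y ⟶ a Y).2, ?_⟩).symm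
    rw [Category.id_comp]
    have := hnat Y (StructuredArrow.homMk (𝟙 (j₀ Y).right) (by simp [pre]) : j₀ Y ⟶ pre (𝟙 Y) (j₀ Y))
    change _ ≫ s.map (𝟙 (j₀ _).right) = _ at this
    erw [s.toFunctor.map_id, Category.comp_id] at this
    exact this
  have hβc : ∀ {Y Z W : D} (f : Y ⟶ Z) (g : Z ⟶ W), β (f ≫ g) = β f ≫ β g := by
    intro Y Z W f g
    refine (hu₀ (f ≫ g) (j₀ W) (β f ≫ β g) ⟨?_, ?_⟩).symm
    · haveI := (hβ₀ f (j₀ Z)).1
      haveI := (hβ₀ g (j₀ W)).1
      exact (inferInstance : p.IsHomLift (f ≫ g) (β₀ f (j₀ Z) ≫ β₀ g (j₀ W)))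
    · rw [Category.assoc, hβ g (j₀ W), hβ f]
      have := hnat Y (StructuredArrow.homMk (𝟙 (j₀ W).right) (by simp [pre]) :
        pre f (pre g (j₀ W)) ⟶ pre (f ≫ g) (j₀ W))
      change α Y (pre f (pre g (j₀ W))) ≫ s.map (𝟙 (j₀ W).right) = _ at this
      erw [s.toFunctor.map_id, Category.comp_id] at this
      exact this
  let G : FibCat.selfOver D ⥤ᵇ X :=
    { toFunctor := { obj := fun Y => (a Y).1, map := fun f => β f, map_id := hβid, map_comp := hβc }
      w := CategoryTheory.Functor.ext (fun Y => (a Y).2) fun Y Z f => by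
        haveI := (hβ₀ f (j₀ Z)).1
        exact IsHomLift.fac' p f (β₀ f (j₀ Z)) }
  let idc : ∀ c : C, StructuredArrow (φ.obj c) φ := fun c => StructuredArrow.mk (𝟙 (φ.obj c))
  have hiso : ∀ c, IsIso (α (φ.obj c) (idc c)) := fun c =>
    haveI : p.IsHomLift (𝟙 (φ.obj c)) (α (φ.obj c) (idc c)) := hα (φ.obj c) (idc c)
    Fib.isIso_of_isHomLift p hp (𝟙 (φ.obj c)) (α (φ.obj c) (idc c))
  refine ⟨G, ⟨Fib.isoMk (F := BasedFunctor.comp ι G) (G := s)
    (fun c => @asIso _ _ _ _ (α (φ.obj c) (idc c)) (hiso c)) (fun {c c'} g => ?_)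
    (fun c => hα (φ.obj c) (idc c))⟩⟩
  change β (φ.map g) ≫ α (φ.obj c') (idc c') = α (φ.obj c) (idc c) ≫ s.map g
  rw [hβ]
  exact (hnat (φ.obj c) (StructuredArrow.homMk g (by simp [idc, pre]) :
    idc c ⟶ pre (φ.map g) (idc c'))).symm⟩

theorem isEquivalence_restr (hJ : ∀ Y : D, CTriv.{max w u₃ v₃} (StructuredArrow Y φ)) :
    (Stk.restr ι X).IsEquivalence where
  faithful := faithful_restr φ p fun Y => haveI := (hJ Y).connected; inferInstance
  full := full_restr φ p fun Y => (hJ Y).connected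
  essSurj := essSurj_restr.{w} φ p hJ

end

end Groth.Agent.Fib.Sections
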