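import Groth.Agent.Fib.Prod

/-!
# Products of categories over the base
-/

set_option autoImplicit false
set_option backward.isDefEq.respectTransparency false
set_option backward.isDefEq.respectTransparency.types false

open CategoryTheory CategoryTheory.Functor CategoryTheory.Limits

universe v₃ u₃ v₂ u₂ v u

namespace Groth.Agent.Fib

variable {C : Type u} [Category.{v} C] {𝒳 : BasedCategory.{v₂, u₂} C}
  {𝒴 : BasedCategory.{v₃, u₃} C}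

/-- A pair of objects over one object of the base. -/
def mkPair (x : 𝒳.obj) (y : 𝒴.obj) (h : 𝒳.p.obj x = 𝒴.p.obj y) :
    (FibCat.fp (FibCat.toSelf 𝒳) (FibCat.toSelf 𝒴)).obj :=
  fpMk x y (eqToIso h) (IsHomLift.eqToHom_domain_lift_id h rfl)

/-- A pair of morphisms over one morphism of the base. -/
def pairHom {a b : (FibCat.fp (FibCat.toSelf 𝒳) (FibCat.toSelf 𝒴)).obj}
    (φ : a.obj.fst ⟶ b.obj.fst) (ψ : a.obj.snd ⟶ b.obj.snd) {R S : C} (f : R ⟶ S)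
    [h₁ : 𝒳.p.IsHomLift f φ] [h₂ : 𝒴.p.IsHomLift f ψ] : a ⟶ b :=
  fpHomMk φ ψ (@self_iso_w C _ 𝒳 𝒴 (FibCat.toSelf 𝒳) (FibCat.toSelf 𝒴) a b φ ψ R S f h₁ h₂)

theorem isHomLift_pairHom {a b : (FibCat.fp (FibCat.toSelf 𝒳) (FibCat.toSelf 𝒴)).obj}
    (φ : a.obj.fst ⟶ b.obj.fst) (ψ : a.obj.snd ⟶ b.obj.snd) {R S : C} (f : R ⟶ S)
    [h₁ : 𝒳.p.IsHomLift f φ] [h₂ : 𝒴.p.IsHomLift f ψ] :
    (FibCat.fp (FibCat.toSelf 𝒳) (FibCat.toSelf 𝒴)).p.IsHomLift f (pairHom φ ψ f) :=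
  (fp_isHomLift_iff f _).2 h₁

theorem isCartesian_pair_iff {x y : (FibCat.fp (FibCat.toSelf 𝒳) (FibCat.toSelf 𝒴)).obj}
    {R S : C} (f : R ⟶ S) (φ : x ⟶ y)
    [(FibCat.fp (FibCat.toSelf 𝒳) (FibCat.toSelf 𝒴)).p.IsHomLift f φ] :
    (FibCat.fp (FibCat.toSelf 𝒳) (FibCat.toSelf 𝒴)).p.IsCartesian f φ ↔
      𝒳.p.IsCartesian f φ.hom.fst ∧ 𝒴.p.IsCartesian f φ.hom.snd := by
  have hφ₁ : 𝒳.p.IsHomLift f φ.hom.fst := (fp_isHomLift_iff f φ).1 inferInstance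
  have hφ₂ : 𝒴.p.IsHomLift f φ.hom.snd := fp_isHomLift_snd f φ
  have hx₁ : 𝒳.p.obj x.obj.fst = R := IsHomLift.domain_eq 𝒳.p f φ.hom.fst
  have hx₂ : 𝒴.p.obj x.obj.snd = R := IsHomLift.domain_eq 𝒴.p f φ.hom.snd
  constructor
  · intro hc
    refine ⟨{ universal_property := fun {a'} ψ hψ => ?_ }, { universal_property := fun {a'} ψ hψ => ?_ }⟩
    · have ha : 𝒳.p.obj a' = R := IsHomLift.domain_eq 𝒳.p f ψ
      let A := mkPair a' x.obj.snd (ha.trans hx₂.symm)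
      let Ψ : A ⟶ y := pairHom (a := A) ψ φ.hom.snd f
      haveI : (FibCat.fp (FibCat.toSelf 𝒳) (FibCat.toSelf 𝒴)).p.IsHomLift f Ψ :=
        isHomLift_pairHom (a := A) ψ φ.hom.snd f
      obtain ⟨χ, ⟨hχ, hχ'⟩, huniq⟩ := IsCartesian.universal_property (p :=
        (FibCat.fp (FibCat.toSelf 𝒳) (FibCat.toSelf 𝒴)).p) (f := f) (φ := φ) Ψ
      refine ⟨χ.hom.fst, ⟨(fp_isHomLift_iff _ χ).1 hχ, congrArg (fun t => t.hom.fst) hχ'⟩, ?_⟩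
      rintro m ⟨hm, hm'⟩
      haveI : 𝒴.p.IsHomLift (𝟙 R) (𝟙 A.obj.snd) := IsHomLift.id hx₂
      have := huniq (pairHom (a := A) (b := x) m (𝟙 _) (𝟙 R))
        ⟨isHomLift_pairHom (a := A) (b := x) m (𝟙 _) (𝟙 R), fp_hom_ext hm' (Category.id_comp _)⟩
      exact congrArg (fun t => t.hom.fst) this
    · have ha : 𝒴.p.obj a' = R := IsHomLift.domain_eq 𝒴.p f ψ
      let A := mkPair x.obj.fst a' (hx₁.trans ha.symm)
      let Ψ : A ⟶ y := pairHom (a := A) φ.hom.fst ψ f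
      haveI : (FibCat.fp (FibCat.toSelf 𝒳) (FibCat.toSelf 𝒴)).p.IsHomLift f Ψ :=
        isHomLift_pairHom (a := A) φ.hom.fst ψ f
      obtain ⟨χ, ⟨hχ, hχ'⟩, huniq⟩ := IsCartesian.universal_property (p :=
        (FibCat.fp (FibCat.toSelf 𝒳) (FibCat.toSelf 𝒴)).p) (f := f) (φ := φ) Ψ
      refine ⟨χ.hom.snd, ⟨fp_isHomLift_snd (h := hχ) _ χ, congrArg (fun t => t.hom.snd) hχ'⟩, ?_⟩
      rintro m ⟨hm, hm'⟩
      haveI : 𝒳.p.IsHomLift (𝟙 R) (𝟙 A.obj.fst) := IsHomLift.id hx₁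
      have := huniq (pairHom (a := A) (b := x) (𝟙 _) m (𝟙 R))
        ⟨isHomLift_pairHom (a := A) (b := x) (𝟙 _) m (𝟙 R), fp_hom_ext (Category.id_comp _) hm'⟩
      exact congrArg (fun t => t.hom.snd) this
  · rintro ⟨h₁, h₂⟩
    refine { universal_property := fun {a'} ψ hψ => ?_ }
    haveI : 𝒳.p.IsHomLift f ψ.hom.fst := (fp_isHomLift_iff f ψ).1 hψ
    haveI : 𝒴.p.IsHomLift f ψ.hom.snd := fp_isHomLift_snd (h := hψ) f ψ
    refine ⟨pairHom (IsCartesian.map 𝒳.p f φ.hom.fst ψ.hom.fst)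
        (IsCartesian.map 𝒴.p f φ.hom.snd ψ.hom.snd) (𝟙 R),
      ⟨isHomLift_pairHom _ _ _, fp_hom_ext (IsCartesian.fac 𝒳.p f _ _) (IsCartesian.fac 𝒴.p f _ _)⟩, ?_⟩
    rintro m ⟨hm, hm'⟩
    haveI : 𝒳.p.IsHomLift (𝟙 R) m.hom.fst := (fp_isHomLift_iff _ m).1 hm
    haveI : 𝒴.p.IsHomLift (𝟙 R) m.hom.snd := fp_isHomLift_snd (h := hm) _ m
    exact fp_hom_ext (IsCartesian.map_uniq 𝒳.p f _ _ _ (congrArg (fun t => t.hom.fst) hm'))
      (IsCartesian.map_uniq 𝒴.p f _ _ _ (congrArg (fun t => t.hom.snd) hm'))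

theorem isPreFibered_prod [𝒳.p.IsPreFibered] [𝒴.p.IsPreFibered] :
    (FibCat.fp (FibCat.toSelf 𝒳) (FibCat.toSelf 𝒴)).p.IsPreFibered where
  exists_isCartesian' {a R} f := by
    obtain ⟨x, φ, hφ⟩ := IsPreFibered.exists_isCartesian 𝒳.p (a := a.obj.fst) rfl f
    obtain ⟨y, ψ, hψ⟩ := IsPreFibered.exists_isCartesian 𝒴.p (fp_snd_obj a) f
    haveI := hφ.toIsHomLift
    haveI := hψ.toIsHomLift
    let A := mkPair x y ((IsHomLift.domain_eq 𝒳.p f φ).trans (IsHomLift.domain_eq 𝒴.p f ψ).symm)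
    haveI := isHomLift_pairHom (a := A) (b := a) φ ψ f
    exact ⟨A, pairHom (a := A) (b := a) φ ψ f, (isCartesian_pair_iff f _).2 ⟨hφ, hψ⟩⟩

theorem isFibered_prod [𝒳.p.IsFibered] [𝒴.p.IsFibered] :
    (FibCat.fp (FibCat.toSelf 𝒳) (FibCat.toSelf 𝒴)).p.IsFibered :=
  isFibered_fp _ _ (preservesStronglyCartesian _ isFibGrpd_selfOver)
    (preservesStronglyCartesian _ isFibGrpd_selfOver)

end Groth.Agent.Fib
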