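import Mathlib.CategoryTheory.Bicategory.Functor.LocallyDiscrete
import Groth.Prelude.Def_FibClv
import Groth.Agent.Fib.Cleavage

/-!
# A split category over the base is the total category of a strict functor
-/

set_option autoImplicit false
set_option maxHeartbeats 400000
set_option linter.style.haveILetI false
set_option linter.unusedSectionVars false
set_option backward.isDefEq.respectTransparency false
set_option backward.isDefEq.respectTransparency.types false

open CategoryTheory CategoryTheory.Functor Opposite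

universe v₁ v₂ u₁ u₂

namespace Groth.Agent.Fib.SplitToStrict

noncomputable section

variable {𝒮 : Type u₁} [Category.{v₁} 𝒮] {𝒳 : Type u₂} [Category.{v₂} 𝒳]
  (p : 𝒳 ⥤ 𝒮) (K : FibCat.Cleavage p) (hK : K.IsSplitting)

theorem val_eqToHom {U : 𝒮} {a b : p.Fiber U} (e : a = b) :
    Fiber.fiberInclusion.map (eqToHom e) = eqToHom (congrArg (fun t => t.1) e) := by
  subst e
  rfl

include hK

theorem inverseImage_id (S : 𝒮) : K.inverseImage (𝟙 S) = 𝟭 (p.Fiber S) := by
  refine CategoryTheory.Functor.ext (fun a => Subtype.ext (hK.1 a.2).choose) fun a b φ => ?_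
  apply Fiber.hom_ext
  rw [Functor.map_comp, Functor.map_comp, val_eqToHom, val_eqToHom]
  obtain ⟨ha, ea⟩ := hK.1 a.2
  obtain ⟨hb, eb⟩ := hK.1 b.2
  have h := inverseImage_map_fac K (𝟙 S) φ
  rw [ea, eb] at h
  change Fiber.fiberInclusion.map ((K.inverseImage (𝟙 S)).map φ) = _ ≫ Fiber.fiberInclusion.map φ ≫ _
  rw [← Category.assoc]
  erw [← h]
  simp

theorem inverseImage_comp {S T U : 𝒮} (f : T ⟶ S) (g : U ⟶ T) :
    K.inverseImage (g ≫ f) = K.inverseImage f ⋙ K.inverseImage g := by
  refine CategoryTheory.Functor.ext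
    (fun a => Subtype.ext (hK.2 f g a.2).choose.symm) fun a b φ => ?_
  have ea := (hK.2 f g a.2).choose_spec
  have eb := (hK.2 f g b.2).choose_spec
  apply eq_of_comp_lift K (g ≫ f)
  rw [Functor.map_comp, Functor.map_comp, val_eqToHom, val_eqToHom, inverseImage_map_fac]
  simp only [Category.assoc]
  generalize_proofs at *
  erw [← eb]
  erw [← Category.assoc (Fiber.fiberInclusion.map ((K.inverseImage g).map ((K.inverseImage f).map φ))),
    inverseImage_map_fac K g ((K.inverseImage f).map φ), Category.assoc, inverseImage_map_fac K f φ,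
    ← Category.assoc (K.lift _ g), ea]
  simp

/-- the strict functor -/
def strict : 𝒮ᵒᵖ ⥤ Cat.{v₂, u₂} where
  obj U := Cat.of (p.Fiber U.unop)
  map h := (K.inverseImage h.unop).toCatHom
  map_id U := by
    apply Cat.Hom.ext
    exact inverseImage_id p K hK U.unop
  map_comp h k := by
    apply Cat.Hom.ext
    exact inverseImage_comp p K hK h.unop k.unop

/-- the total category -/
abbrev Tot := Pseudofunctor.CoGrothendieck (strict p K hK).toPseudofunctor'

/-- the fibre object -/
abbrev oo (x : Tot p K hK) : p.Fiber x.base := x.fiber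

/-- the fibre component -/
abbrev mm {x y : Tot p K hK} (φ : x ⟶ y) : (oo p K hK x).1 ⟶ K.obj (oo p K hK y).2 φ.base :=
  φ.fiber.1

instance isHomLift_mm {x y : Tot p K hK} (φ : x ⟶ y) : p.IsHomLift (𝟙 x.base) (mm p K hK φ) :=
  φ.fiber.2

theorem mm_id (x : Tot p K hK) :
    mm p K hK (𝟙 x) = eqToHom (hK.1 (oo p K hK x).2).choose.symm := by
  change Fiber.fiberInclusion.map
    (((strict p K hK).toPseudofunctor'.mapId ⟨op x.base⟩).inv.toNatTrans.app x.fiber) = _
  simp only [Functor.toPseudofunctor', pseudofunctorOfIsLocallyDiscrete, eqToIso.inv,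
    Cat.eqToHom_app]
  exact val_eqToHom p _

theorem mm_comp {x y z : Tot p K hK} (φ : x ⟶ y) (ψ : y ⟶ z) :
    mm p K hK (φ ≫ ψ) = mm p K hK φ ≫ Fiber.fiberInclusion.map ((K.inverseImage φ.base).map ψ.fiber) ≫
      eqToHom (hK.2 ψ.base φ.base (oo p K hK z).2).choose := by
  change Fiber.fiberInclusion.map (φ.fiber ≫ ((strict p K hK).toPseudofunctor'.map φ.base.op.toLoc).toFunctor.map ψ.fiber ≫
    (((strict p K hK).toPseudofunctor'.mapComp ψ.base.op.toLoc φ.base.op.toLoc).inv.toNatTrans.app z.fiber)) = _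
  simp only [Functor.toPseudofunctor', pseudofunctorOfIsLocallyDiscrete, eqToIso.inv,
    Cat.eqToHom_app]
  erw [Functor.map_comp, Functor.map_comp, val_eqToHom]
  rfl

/-- evaluation -/
def evMap {x y : Tot p K hK} (φ : x ⟶ y) : (oo p K hK x).1 ⟶ (oo p K hK y).1 :=
  mm p K hK φ ≫ K.lift (oo p K hK y).2 φ.base

instance isHomLift_evMap {x y : Tot p K hK} (φ : x ⟶ y) : p.IsHomLift φ.base (evMap p K hK φ) :=
  haveI := (K.isCartesian (oo p K hK y).2 φ.base).toIsHomLift
  inferInstanceAs (p.IsHomLift φ.base (mm p K hK φ ≫ K.lift (oo p K hK y).2 φ.base))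

/-- evaluation as a functor -/
def evFun : Tot p K hK ⥤ 𝒳 where
  obj x := (oo p K hK x).1
  map φ := evMap p K hK φ
  map_id x := by
    simp only [evMap, mm_id]
    have e := (hK.1 (oo p K hK x).2).choose_spec
    change _ ≫ K.lift (oo p K hK x).2 (𝟙 x.base) = _
    generalize_proofs at *
    erw [e]
    simp
  map_comp {x y z} φ ψ := by
    simp only [evMap, mm_comp]
    obtain ⟨h, e⟩ := hK.2 ψ.base φ.base (oo p K hK z).2
    simp only [Category.assoc]
    erw [← e]
    erw [← Category.assoc (Fiber.fiberInclusion.map ((K.inverseImage φ.base).map ψ.fiber))]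
    erw [inverseImage_map_fac K φ.base ψ.fiber, Category.assoc]
    rfl

theorem base_eq {x y : Tot p K hK} (φ : x ⟶ y) :
    φ.base = eqToHom (oo p K hK x).2.symm ≫ p.map ((evFun p K hK).map φ) ≫
      eqToHom (oo p K hK y).2 :=
  haveI : p.IsHomLift φ.base ((evFun p K hK).map φ) := isHomLift_evMap p K hK φ
  IsHomLift.fac p φ.base ((evFun p K hK).map φ)

theorem faithful_evFun : (evFun p K hK).Faithful where
  map_injective {x y φ ψ} e := by
    have hb : φ.base = ψ.base := by rw [base_eq p K hK φ, base_eq p K hK ψ, e]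
    obtain ⟨b, f⟩ := φ
    obtain ⟨b', f'⟩ := ψ
    change b = b' at hb
    subst hb
    exact congrArg (Pseudofunctor.CoGrothendieck.Hom.mk b)
      (eq_of_comp_lift K b f f' e)

theorem full_evFun : (evFun p K hK).Full where
  map_surjective {x y} χ := by
    let b : x.base ⟶ y.base := eqToHom (oo p K hK x).2.symm ≫ p.map χ ≫ eqToHom (oo p K hK y).2
    haveI : p.IsHomLift b χ := IsHomLift.of_fac _ _ _ (oo p K hK x).2 (oo p K hK y).2 rfl
    exact ⟨⟨b, ⟨IsCartesian.map p b (K.lift (oo p K hK y).2 b) χ,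
      IsCartesian.map_isHomLift p b (K.lift (oo p K hK y).2 b) χ⟩⟩,
      IsCartesian.fac p b (K.lift (oo p K hK y).2 b) χ⟩

theorem exists_iso :
    ∃ (F : 𝒮ᵒᵖ ⥤ Cat.{v₂, u₂})
      (Φ : 𝒳 ⥤ Pseudofunctor.CoGrothendieck F.toPseudofunctor')
      (Ψ : Pseudofunctor.CoGrothendieck F.toPseudofunctor' ⥤ 𝒳),
      Φ ⋙ Ψ = 𝟭 𝒳 ∧ Ψ ⋙ Φ = 𝟭 _ ∧
        Φ ⋙ Pseudofunctor.CoGrothendieck.forget F.toPseudofunctor' = p := by
  haveI := full_evFun p K hK
  haveI := faithful_evFun p K hK
  let o : 𝒳 → Tot p K hK := fun x => ⟨p.obj x, ⟨x, rfl⟩⟩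
  let Φ : 𝒳 ⥤ Tot p K hK :=
    { obj := o
      map := fun {a b} φ => (evFun p K hK).preimage (X := o a) (Y := o b) φ
      map_id := fun a => (evFun p K hK).map_injective (by
        rw [Functor.map_preimage, Functor.map_id]; rfl)
      map_comp := fun φ ψ => (evFun p K hK).map_injective (by
        rw [Functor.map_preimage, Functor.map_comp, Functor.map_preimage, Functor.map_preimage]) }
  refine ⟨strict p K hK, Φ, evFun p K hK, ?_, ?_, ?_⟩
  · refine CategoryTheory.Functor.ext (fun a => rfl) fun a b φ => ?_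
    simp only [eqToHom_refl, Category.comp_id, Category.id_comp]
    exact (evFun p K hK).map_preimage (X := o a) (Y := o b) φ
  · have hobj : ∀ x : Tot p K hK, o ((evFun p K hK).obj x) = x := by
      rintro ⟨U, a, ha⟩
      change p.obj a = U at ha
      cases ha
      rfl
    refine CategoryTheory.Functor.ext hobj fun x y φ => ?_
    apply (evFun p K hK).map_injective
    rw [Functor.map_comp, Functor.map_comp]
    erw [Functor.map_preimage, eqToHom_map, eqToHom_map]
    simp only [eqToHom_refl, Category.id_comp, Category.comp_id]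
    rfl
  · refine CategoryTheory.Functor.ext (fun a => rfl) fun a b φ => ?_
    simp only [eqToHom_refl, Category.comp_id, Category.id_comp]
    change ((evFun p K hK).preimage (X := o a) (Y := o b) φ).base = p.map φ
    rw [base_eq, Functor.map_preimage]
    simp only [eqToHom_refl, Category.comp_id, Category.id_comp]

end

end Groth.Agent.Fib.SplitToStrict
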