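import Mathlib.CategoryTheory.Bicategory.Functor.LocallyDiscrete
import Groth.Prelude.Def_FibClv
import Groth.Agent.Fib.Misc

/-!
# The split cleavage of the total category of a strict functor, transported along an isomorphism
-/

set_option autoImplicit false
set_option maxHeartbeats 400000
set_option linter.style.haveILetI false
set_option backward.isDefEq.respectTransparency false
set_option backward.isDefEq.respectTransparency.types false

open CategoryTheory CategoryTheory.Functor Opposite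

universe v₁ v₂ v₃ u₁ u₂ u₃

namespace Groth.Agent.Fib.Splitting

noncomputable section

variable {𝒮 : Type u₁} [Category.{v₁} 𝒮] (F : 𝒮ᵒᵖ ⥤ Cat.{v₂, u₂})

local notation "E" => Pseudofunctor.CoGrothendieck (F.toPseudofunctor')
local notation "q" => Pseudofunctor.CoGrothendieck.forget (F.toPseudofunctor')

/-- the functor attached to a morphism of the base -/
abbrev act {R S : 𝒮} (f : R ⟶ S) : F.obj (op S) ⥤ F.obj (op R) := (F.map f.op).toFunctor

theorem act_id (S : 𝒮) (x : F.obj (op S)) : (act F (𝟙 S)).obj x = x := by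
  simp [act]

theorem act_comp {R T S : 𝒮} (g : R ⟶ T) (f : T ⟶ S) (x : F.obj (op S)) :
    (act F (g ≫ f)).obj x = (act F g).obj ((act F f).obj x) := by
  simp [act]

/-- the chosen lift -/
abbrev cl {R S : 𝒮} (f : R ⟶ S) (x : F.obj (op S)) : (⟨R, (act F f).obj x⟩ : E) ⟶ ⟨S, x⟩ :=
  ⟨f, 𝟙 _⟩

theorem eqToHom_comp_aux {R : 𝒮} {x y : F.obj (op R)} (e : x = y) {z : E}
    (φ : (⟨R, y⟩ : E) ⟶ z) :
    eqToHom (congrArg (Pseudofunctor.CoGrothendieck.mk R) e) ≫ φ =
      ⟨φ.base, eqToHom e ≫ φ.fiber⟩ := by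
  subst e
  obtain ⟨b, m⟩ := φ
  simp

theorem cl_id (S : 𝒮) (x : F.obj (op S)) :
    cl F (𝟙 S) x = eqToHom (congrArg (Pseudofunctor.CoGrothendieck.mk S) (act_id F S x)) := by
  have e := eqToHom_comp_aux F (act_id F S x) (𝟙 (⟨S, x⟩ : E))
  rw [Category.comp_id] at e
  rw [e]
  refine Pseudofunctor.CoGrothendieck.Hom.ext _ _ rfl ?_
  change 𝟙 _ = (eqToHom _ ≫ ((F.toPseudofunctor'.mapId ⟨op S⟩).inv.toNatTrans.app x)) ≫ eqToHom _
  simp only [Functor.toPseudofunctor', pseudofunctorOfIsLocallyDiscrete, eqToIso.inv,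
    Cat.eqToHom_app]
  erw [eqToHom_trans, eqToHom_trans]
  exact (eqToHom_refl _ _).symm

theorem cl_comp {R T S : 𝒮} (g : R ⟶ T) (f : T ⟶ S) (x : F.obj (op S)) :
    cl F g ((act F f).obj x) ≫ cl F f x =
      eqToHom (congrArg (Pseudofunctor.CoGrothendieck.mk R) (act_comp F g f x).symm) ≫
        cl F (g ≫ f) x := by
  rw [eqToHom_comp_aux F (act_comp F g f x).symm]
  refine Pseudofunctor.CoGrothendieck.Hom.ext _ _ rfl ?_
  change 𝟙 _ ≫ (act F g).map (𝟙 _) ≫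
    ((F.toPseudofunctor'.mapComp f.op.toLoc g.op.toLoc).inv.toNatTrans.app x) =
      (eqToHom _ ≫ 𝟙 _) ≫ eqToHom _
  simp only [Functor.toPseudofunctor', pseudofunctorOfIsLocallyDiscrete, eqToIso.inv,
    Cat.eqToHom_app, CategoryTheory.Functor.map_id, Category.id_comp, Category.comp_id]
  simp

variable {𝒳 : Type u₃} [Category.{v₃} 𝒳] (p : 𝒳 ⥤ 𝒮) (Φ : 𝒳 ⥤ Pseudofunctor.CoGrothendieck F.toPseudofunctor')
  (Ψ : Pseudofunctor.CoGrothendieck F.toPseudofunctor' ⥤ 𝒳)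

theorem exists_isSplitting (h₁ : Φ ⋙ Ψ = 𝟭 𝒳) (h₂ : Ψ ⋙ Φ = 𝟭 _)
    (h₃ : Φ ⋙ Pseudofunctor.CoGrothendieck.forget F.toPseudofunctor' = p) :
    ∃ K : FibCat.Cleavage p, K.IsSplitting := by
  subst h₃
  let e : E ≌ 𝒳 := CategoryTheory.Equivalence.mk Ψ Φ (eqToIso h₂.symm) (eqToIso h₁)
  have hw : Ψ ⋙ Φ ⋙ q = q := by rw [← Functor.assoc, h₂, Functor.id_comp]
  let G : BasedCategory.ofFunctor q ⥤ᵇ BasedCategory.ofFunctor (Φ ⋙ q) :=
    { toFunctor := Ψ, w := hw }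
  haveI : Ψ.IsEquivalence := e.isEquivalence_functor
  haveI : (BasedCategory.ofFunctor q).p.IsFibered := inferInstanceAs ((q).IsFibered)
  have hG : FibCat.IsEquivOver G := by
    haveI : G.toFunctor.IsEquivalence := ‹Ψ.IsEquivalence›
    exact isEquivOver_of_isEquivalence (exists_iso_lift_of_isFibered _) G
  have hΨΦ : ∀ a : 𝒳, Ψ.obj (Φ.obj a) = a := fun a => Functor.congr_obj h₁ a
  have hΦΨ : ∀ a : E, Φ.obj (Ψ.obj a) = a := fun a => Functor.congr_obj h₂ a
  let L : ∀ {R : 𝒮} (a : 𝒳) (f : R ⟶ (Φ.obj a).base),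
      (Ψ.obj ⟨R, (act F f).obj (Φ.obj a).fiber⟩ ⟶ a) := fun a f =>
    Ψ.map (cl F f (Φ.obj a).fiber) ≫ eqToHom (hΨΦ a)
  let K : FibCat.Cleavage (Φ ⋙ q) :=
    { obj := fun {R S a} ha f => Ψ.obj ⟨R, (act F (f ≫ eqToHom ha.symm)).obj (Φ.obj a).fiber⟩
      lift := fun {R S a} ha f => L a (f ≫ eqToHom ha.symm)
      isCartesian := fun {R S a} ha f => by
        haveI := Pseudofunctor.CoGrothendieck.isStronglyCartesian_homCartesianLift
          (F := F.toPseudofunctor') (Φ.obj a).fiber (f ≫ eqToHom ha.symm)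
        haveI : (BasedCategory.ofFunctor q).p.IsStronglyCartesian (f ≫ eqToHom ha.symm)
            (cl F (f ≫ eqToHom ha.symm) (Φ.obj a).fiber) := this
        have h0 := isStronglyCartesian_map G hG (f ≫ eqToHom ha.symm)
          (cl F (f ≫ eqToHom ha.symm) (Φ.obj a).fiber)
        haveI : (Φ ⋙ q).IsStronglyCartesian (f ≫ eqToHom ha.symm)
            (L a (f ≫ eqToHom ha.symm)) := by
          have h1 : ∀ {b : 𝒳} (eb : Ψ.obj (Φ.obj a) = b),
              (Φ ⋙ q).IsStronglyCartesian (f ≫ eqToHom ha.symm)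
                (Ψ.map (cl F (f ≫ eqToHom ha.symm) (Φ.obj a).fiber) ≫ eqToHom eb) := by
            intro b eb
            subst eb
            rw [eqToHom_refl, Category.comp_id]
            exact h0
          exact h1 (hΨΦ a)
        exact FibCat.Cleavage.isCartesian_of_comp_eqToHom (p := Φ ⋙ q) f ha.symm _ }
  refine ⟨K, fun S a ha => ?_, fun S T U f g a ha => ?_⟩
  · subst ha
    have hk : ∀ (f : (Φ.obj a).base ⟶ (Φ.obj a).base), f = 𝟙 _ →
        ∃ h : Ψ.obj ⟨(Φ.obj a).base, (act F f).obj (Φ.obj a).fiber⟩ = a, L a f = eqToHom h := by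
      rintro f rfl
      refine ⟨?_, ?_⟩
      · rw [act_id]; exact hΨΦ a
      · simp only [L]
        rw [cl_id, eqToHom_map, eqToHom_trans]
    exact hk _ (Category.comp_id _)
  · subst ha
    have hk : ∀ (f₀ : T ⟶ (Φ.obj a).base) (b : E) (g₀ : U ⟶ b.base) (k : U ⟶ (Φ.obj a).base)
        (e1 : b = ⟨T, (act F f₀).obj (Φ.obj a).fiber⟩)
        (hk : k = g₀ ≫ eqToHom (congrArg (fun t => t.base) e1) ≫ f₀),
        ∃ h : Ψ.obj ⟨U, (act F g₀).obj b.fiber⟩ = Ψ.obj ⟨U, (act F k).obj (Φ.obj a).fiber⟩,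
          (Ψ.map (cl F g₀ b.fiber) ≫ eqToHom (congrArg Ψ.obj e1)) ≫ L a f₀ =
            eqToHom h ≫ L a k := by
      intro f₀ b g₀ k e1 hk
      subst e1
      simp only [eqToHom_refl, Category.id_comp] at hk
      subst hk
      refine ⟨congrArg (fun t => Ψ.obj (Pseudofunctor.CoGrothendieck.mk U t))
        (act_comp F g₀ f₀ _).symm, ?_⟩
      simp only [L, eqToHom_refl, Category.comp_id]
      rw [← Category.assoc, ← Ψ.map_comp, cl_comp, Ψ.map_comp, eqToHom_map, Category.assoc]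
    obtain ⟨h, e⟩ := hk (f ≫ eqToHom rfl) (Φ.obj (Ψ.obj ⟨T, (act F (f ≫ eqToHom rfl)).obj (Φ.obj a).fiber⟩))
      (g ≫ eqToHom (congrArg (fun t => t.base) (hΦΨ ⟨T, (act F (f ≫ eqToHom rfl)).obj (Φ.obj a).fiber⟩)).symm)
      ((g ≫ f) ≫ eqToHom rfl) (hΦΨ _) (by simp)
    exact ⟨h, e⟩

end

end Groth.Agent.Fib.Splitting
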