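import Mathlib.CategoryTheory.Groupoid
import Groth.Prelude.Def_FibClv
import Groth.Prelude.Def_FibCat2
import Groth.Agent.Fib.Basic
import Mathlib.CategoryTheory.Bicategory.Functor.LocallyDiscrete

/-!
# Every fibred category is equivalent to a split one

For `p : 𝒳 ⥤ C` fibred we form the strict functor `Cᵒᵖ ⥤ Cat` sending `U` to the category of formal
inverse images `(W, g : U ⟶ W, a : p.Fiber W)`, morphisms being those of the chosen inverse images.
-/

set_option autoImplicit false
set_option maxHeartbeats 400000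
set_option linter.style.haveILetI false
set_option backward.isDefEq.respectTransparency false
set_option backward.isDefEq.respectTransparency.types false

open CategoryTheory CategoryTheory.Functor Opposite

universe v u

namespace Groth.Agent.Fib.Strictify

noncomputable section

variable {C : Type u} [Category.{v} C] {X : Type (max u v)} [Category.{v} X] (p : X ⥤ C)
  [p.IsFibered]

/-- a formal inverse image over `U` -/
structure SObj (U : C) where
  /-- the object of the base carrying `a` -/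
  W : C
  /-- the morphism along which one pulls back -/
  g : U ⟶ W
  /-- the object pulled back -/
  a : p.Fiber W

/-- the chosen cleavage -/
def K : FibCat.Cleavage p := FibCat.Cleavage.ofIsPreFibered p

/-- the chosen inverse image of a formal one -/
def ev {U : C} (o : SObj p U) : p.Fiber U := ((K p).inverseImage o.g).obj o.a

/-- the category over `U` -/
abbrev SCat (U : C) := InducedCategory (p.Fiber U) (ev p (U := U))

/-- pulling back a formal inverse image -/
def pull {U V : C} (h : V ⟶ U) (o : SObj p U) : SObj p V := ⟨o.W, h ≫ o.g, o.a⟩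

theorem pull_id {U : C} (o : SObj p U) : pull p (𝟙 U) o = o := by
  obtain ⟨W, g, a⟩ := o
  simp [pull]

theorem pull_comp {U V W : C} (k : W ⟶ V) (h : V ⟶ U) (o : SObj p U) :
    pull p (k ≫ h) o = pull p k (pull p h o) := by
  obtain ⟨W', g, a⟩ := o
  simp [pull]

/-- the lift `ev o ⟶ a` -/
abbrev L {U : C} (o : SObj p U) : (ev p o).1 ⟶ o.a.1 := (K p).lift o.a.2 o.g

instance isStronglyCartesian_L {U : C} (o : SObj p U) : p.IsStronglyCartesian o.g (L p o) :=
  haveI : p.IsCartesian o.g (L p o) := (K p).isCartesian _ _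
  inferInstance

instance isHomLift_L_pull {U V : C} (h : V ⟶ U) (o : SObj p U) :
    p.IsHomLift (h ≫ o.g) (L p (pull p h o)) :=
  ((K p).isCartesian o.a.2 (h ≫ o.g)).toIsHomLift

/-- the comparison morphism -/
def c {U V : C} (h : V ⟶ U) (o : SObj p U) : (ev p (pull p h o)).1 ⟶ (ev p o).1 :=
  IsStronglyCartesian.map p o.g (L p o) (g := h) (f' := h ≫ o.g) rfl (L p (pull p h o))

instance isHomLift_c {U V : C} (h : V ⟶ U) (o : SObj p U) : p.IsHomLift h (c p h o) :=
  IsStronglyCartesian.map_isHomLift p o.g (L p o) (g := h) (f' := h ≫ o.g) rfl (L p (pull p h o))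

theorem c_fac {U V : C} (h : V ⟶ U) (o : SObj p U) : c p h o ≫ L p o = L p (pull p h o) :=
  IsStronglyCartesian.fac p o.g (L p o) (g := h) (f' := h ≫ o.g) rfl (L p (pull p h o))

instance isStronglyCartesian_c {U V : C} (h : V ⟶ U) (o : SObj p U) :
    p.IsStronglyCartesian h (c p h o) := by
  haveI : p.IsStronglyCartesian (h ≫ o.g) (c p h o ≫ L p o) := by
    rw [c_fac]
    exact isStronglyCartesian_L p (pull p h o)
  exact IsStronglyCartesian.of_comp p (g := o.g) (ψ := L p o)

theorem eqToHom_L {U : C} {o o' : SObj p U} (e : o = o') (ha : o'.a.1 = o.a.1) :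
    eqToHom (congrArg (fun x => (ev p x).1) e) ≫ L p o' ≫ eqToHom ha = L p o := by
  subst e
  simp

theorem isHomLift_eqToHom_ev {U : C} {o o' : SObj p U} (e : (ev p o).1 = (ev p o').1) :
    p.IsHomLift (𝟙 U) (eqToHom e) :=
  IsHomLift.of_fac _ _ _ (ev p o).2 (ev p o').2 (by simp [eqToHom_map])

theorem c_id {U : C} (o : SObj p U) :
    c p (𝟙 U) o = eqToHom (congrArg (fun x => (ev p x).1) (pull_id p o)) := by
  haveI := isHomLift_eqToHom_ev p (congrArg (fun x => (ev p x).1) (pull_id p o))
  apply IsStronglyCartesian.ext p o.g (L p o) (𝟙 U)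
  rw [c_fac]
  simpa using (eqToHom_L p (pull_id p o) rfl).symm

theorem c_comp {U V W : C} (k : W ⟶ V) (h : V ⟶ U) (o : SObj p U) :
    c p (k ≫ h) o = eqToHom (congrArg (fun x => (ev p x).1) (pull_comp p k h o)) ≫
      c p k (pull p h o) ≫ c p h o := by
  haveI := isHomLift_eqToHom_ev p (congrArg (fun x => (ev p x).1) (pull_comp p k h o))
  haveI : p.IsHomLift (k ≫ h) (c p k (pull p h o) ≫ c p h o) := inferInstance
  apply IsStronglyCartesian.ext p o.g (L p o) (k ≫ h)
  rw [c_fac, Category.assoc, Category.assoc, c_fac, c_fac]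
  simpa using (eqToHom_L p (pull_comp p k h o) rfl).symm

instance isHomLift_hom {U : C} {o o' : SCat p U} (m : o ⟶ o') : p.IsHomLift (𝟙 U) m.hom.1 :=
  m.hom.2

theorem hom_ext {U : C} {o o' : SCat p U} {m n : o ⟶ o'} (h : m.hom.1 = n.hom.1) : m = n :=
  InducedCategory.hom_ext (Fiber.hom_ext h)

/-- pulling back morphisms -/
def pullMap {U V : C} (h : V ⟶ U) {o o' : SCat p U} (m : o ⟶ o') :
    @Quiver.Hom (SCat p V) _ (pull p h o) (pull p h o') :=
  InducedCategory.homMk (Fiber.homMk p V
    (IsStronglyCartesian.map p h (c p h o') (g := 𝟙 V) (f' := h) (Category.id_comp h).symm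
      (c p h o ≫ m.hom.1)))

theorem pullMap_fac {U V : C} (h : V ⟶ U) {o o' : SCat p U} (m : o ⟶ o') :
    (pullMap p h m).hom.1 ≫ c p h o' = c p h o ≫ m.hom.1 :=
  IsStronglyCartesian.fac p h (c p h o') (g := 𝟙 V) (f' := h) (Category.id_comp h).symm
      (c p h o ≫ m.hom.1)

theorem ext_c {U V : C} (h : V ⟶ U) {o : SCat p V} {o' : SCat p U}
    {m n : @Quiver.Hom (SCat p V) _ o (pull p h o')}
    (e : m.hom.1 ≫ c p h o' = n.hom.1 ≫ c p h o') : m = n := by
  apply hom_ext p
  haveI : p.IsHomLift (𝟙 V) m.hom.1 := m.hom.2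
  haveI : p.IsHomLift (𝟙 V) n.hom.1 := n.hom.2
  exact IsStronglyCartesian.ext p h (c p h o') (𝟙 V) e

/-- the pullback functor -/
def pullFun {U V : C} (h : V ⟶ U) : SCat p U ⥤ SCat p V where
  obj o := pull p h o
  map m := pullMap p h m
  map_id o := ext_c p h (by
    rw [pullMap_fac]
    change c p h o ≫ 𝟙 _ = 𝟙 _ ≫ c p h o
    rw [Category.comp_id, Category.id_comp])
  map_comp {o o' o''} m n := ext_c p h (by
    rw [pullMap_fac]
    change c p h o ≫ m.hom.1 ≫ n.hom.1 =
      ((pullMap p h m).hom.1 ≫ (pullMap p h n).hom.1) ≫ c p h o''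
    rw [Category.assoc, pullMap_fac, ← Category.assoc (pullMap p h m).hom.1, pullMap_fac,
      Category.assoc])

theorem hom_eqToHom {U : C} {o o' : SCat p U} (e : o = o') :
    (eqToHom e).hom.1 = eqToHom (congrArg (fun x => (ev p x).1) e) := by
  subst e
  rfl

theorem hom_comp {U : C} {o o' o'' : SCat p U} (m : o ⟶ o') (n : o' ⟶ o'') :
    (m ≫ n).hom.1 = m.hom.1 ≫ n.hom.1 := rfl

theorem pullFun_id (U : C) : pullFun p (𝟙 U) = 𝟭 (SCat p U) := by
  refine CategoryTheory.Functor.ext (fun o => pull_id p o) fun o o' m => ?_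
  apply hom_ext p
  rw [hom_comp, hom_comp, hom_eqToHom, hom_eqToHom]
  have e := pullMap_fac p (𝟙 U) m
  rw [c_id, c_id] at e
  change (pullMap p (𝟙 U) m).hom.1 = eqToHom _ ≫ m.hom.1 ≫ eqToHom _
  rw [← Category.assoc, ← e]
  simp

theorem pullFun_comp {U V W : C} (k : W ⟶ V) (h : V ⟶ U) :
    pullFun p (k ≫ h) = pullFun p h ⋙ pullFun p k := by
  refine CategoryTheory.Functor.ext (fun o => pull_comp p k h o) fun o o' m => ?_
  refine ext_c p (k ≫ h) ?_
  rw [hom_comp, hom_comp, hom_eqToHom, hom_eqToHom]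
  change (pullMap p (k ≫ h) m).hom.1 ≫ _ =
    (eqToHom _ ≫ (pullMap p k (pullMap p h m)).hom.1 ≫ eqToHom _) ≫ _
  rw [pullMap_fac, c_comp, c_comp]
  simp only [Category.assoc, eqToHom_trans_assoc, eqToHom_refl, Category.id_comp]
  erw [← Category.assoc (pullMap p k (pullMap p h m)).hom.1, pullMap_fac, Category.assoc,
    pullMap_fac]

/-- the strict functor -/
def strict : Cᵒᵖ ⥤ Cat.{v, max u v} where
  obj U := Cat.of (SCat p U.unop)
  map h := (pullFun p h.unop).toCatHom
  map_id U := by
    apply Cat.Hom.ext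
    exact pullFun_id p U.unop
  map_comp h k := by
    apply Cat.Hom.ext
    exact pullFun_comp p k.unop h.unop

/-- the total category -/
abbrev Tot := Pseudofunctor.CoGrothendieck (strict p).toPseudofunctor'

/-- the formal inverse image of an object of the total category -/
abbrev oo (x : Tot p) : SObj p x.base := x.fiber

/-- the fibre component of a morphism of the total category -/
abbrev mm {x y : Tot p} (φ : x ⟶ y) : (ev p (oo p x)).1 ⟶ (ev p (pull p φ.base (oo p y))).1 :=
  φ.fiber.hom.1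

instance isHomLift_mm {x y : Tot p} (φ : x ⟶ y) : p.IsHomLift (𝟙 x.base) (mm p φ) :=
  φ.fiber.hom.2

/-- evaluation -/
def evMap {x y : Tot p} (φ : x ⟶ y) : (ev p (oo p x)).1 ⟶ (ev p (oo p y)).1 :=
  mm p φ ≫ c p φ.base (oo p y)

instance isHomLift_evMap {x y : Tot p} (φ : x ⟶ y) : p.IsHomLift φ.base (evMap p φ) :=
  inferInstanceAs (p.IsHomLift φ.base (mm p φ ≫ c p φ.base (oo p y)))

theorem mm_id (x : Tot p) : mm p (𝟙 x) =
    eqToHom (congrArg (fun t => (ev p t).1) (pull_id p (oo p x)).symm) := by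
  change (((strict p).toPseudofunctor'.mapId ⟨op x.base⟩).inv.toNatTrans.app x.fiber).hom.1 = _
  simp only [Functor.toPseudofunctor', pseudofunctorOfIsLocallyDiscrete, eqToIso.inv,
    Cat.eqToHom_app]
  exact hom_eqToHom p _

theorem evMap_comp {x y z : Tot p} (φ : x ⟶ y) (ψ : y ⟶ z) :
    evMap p (φ ≫ ψ) = evMap p φ ≫ evMap p ψ := by
  have e : mm p (φ ≫ ψ) = mm p φ ≫ (pullMap p φ.base ψ.fiber).hom.1 ≫
      eqToHom (congrArg (fun t => (ev p t).1) (pull_comp p φ.base ψ.base (oo p z)).symm) := by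
    change (φ.fiber ≫ ((strict p).toPseudofunctor'.map φ.base.op.toLoc).toFunctor.map ψ.fiber ≫
      (((strict p).toPseudofunctor'.mapComp ψ.base.op.toLoc φ.base.op.toLoc).inv.toNatTrans.app
        z.fiber)).hom.1 = _
    simp only [Functor.toPseudofunctor', pseudofunctorOfIsLocallyDiscrete, eqToIso.inv,
      Cat.eqToHom_app]
    rw [hom_comp, hom_comp]
    erw [hom_eqToHom]
    rfl
  simp only [evMap, e]
  erw [c_comp]
  simp only [Category.assoc, eqToHom_trans_assoc, eqToHom_refl, Category.id_comp]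
  erw [← Category.assoc (pullMap p φ.base ψ.fiber).hom.1, pullMap_fac, Category.assoc]

/-- evaluation as a functor over the base -/
def evFun : Tot p ⥤ X where
  obj x := (ev p (oo p x)).1
  map φ := evMap p φ
  map_id x := by
    simp only [evMap, mm_id]
    erw [c_id]
    simp
  map_comp φ ψ := evMap_comp p φ ψ

theorem evFun_comp : evFun p ⋙ p = Pseudofunctor.CoGrothendieck.forget _ := by
  refine CategoryTheory.Functor.ext (fun x => (ev p (oo p x)).2) fun x y φ => ?_
  have h : p.IsHomLift φ.base ((evFun p).map φ) := isHomLift_evMap p φ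
  simpa using IsHomLift.fac' p φ.base ((evFun p).map φ)

instance faithful_evFun : (evFun p).Faithful where
  map_injective {x y φ ψ} e := by
    have hb : φ.base = ψ.base := by
      haveI : p.IsHomLift φ.base ((evFun p).map φ) := isHomLift_evMap p φ
      haveI : p.IsHomLift ψ.base ((evFun p).map φ) := e ▸ isHomLift_evMap p ψ
      exact (IsHomLift.fac p φ.base ((evFun p).map φ)).trans
        (IsHomLift.fac p ψ.base ((evFun p).map φ)).symm
    obtain ⟨b, f⟩ := φ
    obtain ⟨b', f'⟩ := ψ
    change b = b' at hb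
    subst hb
    exact congrArg (Pseudofunctor.CoGrothendieck.Hom.mk b) (ext_c p b e)

instance full_evFun : (evFun p).Full where
  map_surjective {x y} χ := by
    let b : x.base ⟶ y.base := eqToHom (ev p (oo p x)).2.symm ≫ p.map χ ≫ eqToHom (ev p (oo p y)).2
    haveI : p.IsHomLift b χ := IsHomLift.of_fac _ _ _ (ev p (oo p x)).2 (ev p (oo p y)).2 rfl
    let n : (ev p (oo p x)).1 ⟶ (ev p (pull p b (oo p y))).1 :=
      IsStronglyCartesian.map p b (c p b (oo p y)) (g := 𝟙 _) (f' := b) (Category.id_comp b).symm χ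
    exact ⟨⟨b, InducedCategory.homMk (Fiber.homMk p x.base n)⟩,
      IsStronglyCartesian.fac p b (c p b (oo p y)) (g := 𝟙 _) (f' := b) (Category.id_comp b).symm χ⟩

theorem exists_iso (η : X) : ∃ (ξ : Tot p) (e : (evFun p).obj ξ ≅ η),
    p.IsHomLift (𝟙 (p.obj η)) e.hom := by
  let o : SObj p (p.obj η) := ⟨p.obj η, 𝟙 _, ⟨η, rfl⟩⟩
  haveI : p.IsStronglyCartesian (𝟙 (p.obj η)) (L p o) := isStronglyCartesian_L p o
  haveI : IsIso (L p o) := IsStronglyCartesian.isIso_of_base_isIso p (𝟙 (p.obj η)) (L p o)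
  exact ⟨⟨p.obj η, o⟩, asIso (L p o), ((K p).isCartesian _ _).toIsHomLift⟩

theorem isGroupoid_strict (h : ∀ U, IsGroupoid (p.Fiber U)) (U : Cᵒᵖ) :
    IsGroupoid ((strict p).obj U) :=
  haveI := h U.unop
  inferInstanceAs (IsGroupoid (SCat p U.unop))

end

end Groth.Agent.Fib.Strictify

namespace Groth.Agent.Fib

open Strictify

variable {C : Type u} [Category.{v} C] (𝒳 : BasedCategory.{v, max u v} C) [𝒳.p.IsFibered]

/-- A fibred category is equivalent over the base to the total category of a strict functor. -/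
theorem exists_isEquivOver_strict :
    ∃ E : 𝒳 ⥤ᵇ BasedCategory.ofFunctor
      (Pseudofunctor.CoGrothendieck.forget (strict 𝒳.p).toPseudofunctor'), FibCat.IsEquivOver E := by
  let G : BasedCategory.ofFunctor
      (Pseudofunctor.CoGrothendieck.forget (strict 𝒳.p).toPseudofunctor') ⥤ᵇ 𝒳 :=
    { toFunctor := evFun 𝒳.p, w := evFun_comp 𝒳.p }
  haveI : G.toFunctor.Full := full_evFun 𝒳.p
  haveI : G.toFunctor.Faithful := faithful_evFun 𝒳.p
  obtain ⟨E, h₁, h₂⟩ := isEquivOver_of_exists_iso_over G (exists_iso 𝒳.p)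
  exact ⟨E, G, h₂, h₁⟩

end Groth.Agent.Fib
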